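import Cfsg.Agent.AutPSL.Two

/-!
Uniqueness of the decomposition of automorphisms of PSL_n, the group of outer automorphisms and the order
of the automorphism group.
-/

set_option autoImplicit false

namespace Cfsg.Agent.AutPSL

open Matrix

variable {n : ℕ} {F : Type*} [Field F]

theorem center_gl_iff {g : GL (Fin n) F} :
    g ∈ Subgroup.center (GL (Fin n) F) ↔
      ∃ c : Fˣ, (g : Matrix (Fin n) (Fin n) F) = Matrix.scalar (Fin n) (c : F) := by
  rw [Matrix.GeneralLinearGroup.center_eq_range_scalar]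
  exact ⟨fun ⟨c, h⟩ => ⟨c, (congrArg Units.val h).symm⟩, fun ⟨c, h⟩ => ⟨c, Units.ext h.symm⟩⟩

theorem center_le_ker (g : GL (Fin n) F) (hg : g ∈ Subgroup.center (GL (Fin n) F)) : conjA g = 1 := by
  refine autExt fun s => ?_
  rw [conjA_mkP, MulAut.one_apply]
  congr 1
  refine sl_ext ?_
  have h := congrArg Units.val ((Subgroup.mem_center_iff.1 hg) (Matrix.SpecialLinearGroup.toGL s))
  simp only [Units.val_mul] at h
  rw [conjSL_coe, show (g : Matrix (Fin n) (Fin n) F) * (s : Matrix (Fin n) (Fin n) F) =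
    (s : Matrix (Fin n) (Fin n) F) * (g : Matrix (Fin n) (Fin n) F) from h.symm, Matrix.mul_assoc, Units.mul_inv,
    Matrix.mul_one]

section CharP

variable (p : ℕ) [Fact p.Prime] [CharP F p]
include p

theorem fieldA_xr (σ : F ≃+* F) {i j : Fin n} (hij : i ≠ j) (t : F) : fieldSL σ (xr hij t) = xr hij (σ t) := by
  refine sl_ext ?_
  rw [fieldSL_coe, Matrix.SpecialLinearGroup.transvection_coe, Matrix.SpecialLinearGroup.transvection_coe,
    Matrix.map_add _ (fun x y => map_add _ x y), Matrix.map_one _ (map_zero _) (map_one _), Matrix.map_single]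

theorem single_eq_of_conj [NeZero n] {g : GL (Fin n) F} {i j k l : Fin n} {hij : i ≠ j} {hkl : k ≠ l} {t u : F}
    (h : mkP (conjSL g (xr hkl t)) = mkP (xr hij u)) :
    (g : Matrix (Fin n) (Fin n) F) * Matrix.single k l t = Matrix.single i j u * (g : Matrix (Fin n) (Fin n) F) := by
  have e := congrArg Subtype.val (eq_of_mkP_eq p (k := 1) (l := 1)
    (by rw [← map_pow, xr_pow p, map_one]) (xr_pow p hij u) h)
  rw [conjSL_coe, Matrix.SpecialLinearGroup.transvection_coe, Matrix.SpecialLinearGroup.transvection_coe,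
    Matrix.mul_add, Matrix.mul_one, Matrix.add_mul, Units.mul_inv, add_right_inj] at e
  rw [← e, Matrix.mul_assoc, Units.inv_mul, Matrix.mul_one]

/-- Uniqueness: field part and scalar. -/
theorem eq_one_of_conj_field (hn : 2 ≤ n) {g : GL (Fin n) F} {σ : F ≃+* F}
    (h : conjA g * fieldA σ = (1 : MulAut (PSLn n F))) : σ = 1 ∧ g ∈ Subgroup.center (GL (Fin n) F) := by
  haveI : NeZero n := ⟨by omega⟩
  have key : ∀ (i j : Fin n) (hij : i ≠ j) (t : F),
      (g : Matrix (Fin n) (Fin n) F) * Matrix.single i j (σ t) =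
        Matrix.single i j t * (g : Matrix (Fin n) (Fin n) F) := fun i j hij t => by
    refine single_eq_of_conj p (hij := hij) (hkl := hij) ?_
    have := MulEquiv.congr_fun h (mkP (xr hij t))
    rw [MulAut.mul_apply, fieldA_mkP, conjA_mkP, fieldA_xr p, MulAut.one_apply] at this
    exact this
  set G := (g : Matrix (Fin n) (Fin n) F)
  have other : ∀ i : Fin n, ∃ j, i ≠ j := fun i => by
    obtain ⟨j, hj⟩ := Fintype.exists_ne_of_one_lt_card (α := Fin n) (by simp; omega) i
    exact ⟨j, hj.symm⟩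
  have hoff : ∀ k i : Fin n, k ≠ i → G k i = 0 := fun k i hki => by
    obtain ⟨j, hij⟩ := other i
    have := congrFun (congrFun (key i j hij 1) k) j
    rwa [map_one, Matrix.mul_single_apply_same, Matrix.single_mul_apply_of_ne _ _ _ _ _ hki, mul_one] at this
  have hdiag : ∀ (i j : Fin n), i ≠ j → ∀ t, G i i * σ t = t * G j j := fun i j hij t => by
    have := congrFun (congrFun (key i j hij t) i) j
    rwa [Matrix.mul_single_apply_same, Matrix.single_mul_apply_same] at this
  set o : Fin n := ⟨0, by omega⟩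
  have hoo : G o o ≠ 0 := by
    intro h0
    have hd : G.det ≠ 0 := Matrix.GeneralLinearGroup.det_ne_zero g
    exact hd (Matrix.det_eq_zero_of_row_eq_zero o fun j => by
      by_cases hj : o = j
      · rw [← hj, h0]
      · exact hoff o j hj)
  have hG : ∀ i, G i i = G o o := fun i => by
    by_cases hi : i = o
    · rw [hi]
    · simpa using hdiag i o hi 1
  refine ⟨?_, center_gl_iff.2 ⟨Units.mk0 (G o o) hoo, ?_⟩⟩
  · refine RingEquiv.ext fun t => ?_
    obtain ⟨j, hj⟩ := other o
    have := hdiag o j hj t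
    rw [hG j, mul_comm t] at this
    exact mul_left_cancel₀ hoo this
  · ext i j
    rw [Matrix.scalar_apply, Matrix.diagonal_apply]
    by_cases hij : i = j
    · subst hij; rw [if_pos rfl]; exact hG i
    · rw [if_neg hij]; exact hoff i j hij

/-- The graph automorphism is not semilinear for n at least 3. -/
theorem conj_field_ne_iota (hn : 3 ≤ n) {g : GL (Fin n) F} {σ : F ≃+* F} :
    conjA g * fieldA σ * iotaA ≠ (1 : MulAut (PSLn n F)) := by
  intro h
  haveI : NeZero n := ⟨by omega⟩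
  have key : ∀ (i j : Fin n) (hij : i ≠ j),
      (g : Matrix (Fin n) (Fin n) F) * Matrix.single j i (-1) =
        Matrix.single i j 1 * (g : Matrix (Fin n) (Fin n) F) := fun i j hij => by
    refine single_eq_of_conj p (hij := hij) (hkl := hij.symm) ?_
    have := MulEquiv.congr_fun h (mkP (xr hij 1))
    rw [MulAut.mul_apply, MulAut.mul_apply, iotaA_mkP, fieldA_mkP, conjA_mkP, iotaSL_xr, fieldA_xr p,
      map_neg, map_one, MulAut.one_apply] at this
    exact this
  have hz : ∀ i j k : Fin n, i ≠ j → k ≠ i → (g : Matrix (Fin n) (Fin n) F) k j = 0 := fun i j k hij hki => by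
    have := congrFun (congrFun (key i j hij) k) i
    rw [Matrix.mul_single_apply_same, Matrix.single_mul_apply_of_ne _ _ _ _ _ hki] at this
    simpa using this
  let a : Fin n := ⟨0, by omega⟩
  let b : Fin n := ⟨1, by omega⟩
  let c : Fin n := ⟨2, by omega⟩
  refine Matrix.GeneralLinearGroup.det_ne_zero g
    (Matrix.det_eq_zero_of_column_eq_zero a fun k => ?_)
  by_cases hk : k = b
  · refine hz c a k (Ne.symm ?_) (hk ▸ ?_) <;> simp [a, b, c, Fin.ext_iff]
  · refine hz b a k ?_ hk
    simp [a, b, Fin.ext_iff]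

theorem conjA_eq_one_iff (hn : 2 ≤ n) {g : GL (Fin n) F} :
    conjA g = (1 : MulAut (PSLn n F)) ↔ g ∈ Subgroup.center (GL (Fin n) F) :=
  ⟨fun h => (eq_one_of_conj_field p hn (σ := 1) (by rw [map_one, mul_one, h])).2, center_le_ker g⟩

theorem ker_conjA (hn : 2 ≤ n) : (conjA (n := n) (F := F)).ker = Subgroup.center (GL (Fin n) F) :=
  Subgroup.ext fun _ => conjA_eq_one_iff p hn

theorem fieldA_mem_inndiag_iff (hn : 2 ≤ n) {σ : F ≃+* F} :
    fieldA σ ∈ inndiagPSL n F ↔ σ = 1 := by
  refine ⟨fun h => ?_, fun h => by rw [h, map_one]; exact one_mem _⟩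
  rw [inndiagPSL_eq] at h
  obtain ⟨g, hg⟩ := h
  exact (eq_one_of_conj_field p hn (g := g⁻¹) (σ := σ) (by rw [map_inv, hg, inv_mul_cancel])).1

theorem field_iota_notMem (hn : 3 ≤ n) {σ : F ≃+* F} : fieldA σ * iotaA ∉ inndiagPSL n F := by
  intro h
  rw [inndiagPSL_eq] at h
  obtain ⟨g, hg⟩ := h
  exact conj_field_ne_iota p hn (g := g⁻¹) (σ := σ) (by rw [map_inv, mul_assoc, hg, inv_mul_cancel])

end CharP

theorem iota_conj_mem {x : MulAut (PSLn n F)} (hx : x ∈ inndiagPSL n F) :
    iotaA * x * iotaA⁻¹ ∈ inndiagPSL n F := by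
  rw [inndiagPSL_eq] at hx ⊢
  obtain ⟨g, rfl⟩ := hx
  exact ⟨itGL g, by rw [conjA_iota, mul_inv_cancel_right]⟩

theorem field_conj_mem (σ : F ≃+* F) {x : MulAut (PSLn n F)} (hx : x ∈ inndiagPSL n F) :
    fieldA σ * x * (fieldA σ)⁻¹ ∈ inndiagPSL n F := by
  rw [inndiagPSL_eq] at hx ⊢
  obtain ⟨g, rfl⟩ := hx
  exact ⟨fieldGL σ g, by rw [conjA_field, mul_inv_cancel_right]⟩

theorem conj_range_eq :
    (MulAut.conj : PSLn n F →* MulAut (PSLn n F)).range =
      (conjA.comp (Matrix.SpecialLinearGroup.toGL (n := Fin n) (R := F))).range := by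
  ext x
  constructor
  · rintro ⟨y, rfl⟩
    obtain ⟨s, rfl⟩ := mkP_surjective y
    exact ⟨s, conjA_toGL s⟩
  · rintro ⟨s, rfl⟩
    exact ⟨mkP s, (conjA_toGL s).symm⟩

theorem inn_le_inndiag : Cfsg.Inn (PSLn n F) ≤ inndiagPSL n F := by
  show (MulAut.conj : PSLn n F →* MulAut (PSLn n F)).range ≤ _
  rw [inndiagPSL_eq, conj_range_eq]
  rintro _ ⟨s, rfl⟩
  exact ⟨_, rfl⟩

section Finite

variable [Finite F] (p : ℕ) [Fact p.Prime] [CharP F p]
include p

theorem inndiag_normal (hn : 2 ≤ n) : (inndiagPSL n F).Normal := by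
  constructor
  intro x hx β
  obtain ⟨g, σ, γ, hγ, rfl⟩ := exists_decomp_all p hn β
  have h1 : γ * x * γ⁻¹ ∈ inndiagPSL n F := by
    rcases hγ with rfl | ⟨rfl, -⟩
    · simpa using hx
    · exact iota_conj_mem hx
  have h2 := field_conj_mem σ h1
  have hg : conjA g ∈ inndiagPSL n F := by rw [inndiagPSL_eq]; exact ⟨g, rfl⟩
  have h3 := mul_mem (mul_mem hg h2) (inv_mem hg)
  have e : conjA g * fieldA σ * γ * x * (conjA g * fieldA σ * γ)⁻¹ =
      conjA g * (fieldA σ * (γ * x * γ⁻¹) * (fieldA σ)⁻¹) * (conjA g)⁻¹ := by group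
  rwa [e]

end Finite

/-! Counting. -/

/-- The complement of the inner-diagonal group for n at least 3: field and graph automorphisms. -/
def fieldGraph : (F ≃+* F) × Multiplicative (ZMod 2) →* MulAut (PSLn n F) where
  toFun x := fieldA x.1 * (if x.2 = 1 then 1 else iotaA)
  map_one' := by simp
  map_mul' x y := by
    obtain ⟨a, u⟩ := x
    obtain ⟨b, v⟩ := y
    have hu : u = 1 ∨ u = Multiplicative.ofAdd 1 := by revert u; decide
    have hv : v = 1 ∨ v = Multiplicative.ofAdd 1 := by revert v; decide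
    have h1 : (Multiplicative.ofAdd (1 : ZMod 2)) ≠ 1 := by decide
    have h2 : (Multiplicative.ofAdd (1 : ZMod 2)) * Multiplicative.ofAdd 1 = 1 := by decide
    rcases hu with rfl | rfl <;> rcases hv with rfl | rfl
    · simp [map_mul]
    · simp [map_mul, h1, mul_assoc]
    · simp [map_mul, h1, mul_assoc, fieldA_iota]
    · simp only [Prod.mk_mul_mk, h2, map_mul, if_true, mul_one, if_neg h1]
      rw [show fieldA a * iotaA * (fieldA b * iotaA) = fieldA a * (iotaA * fieldA b) * iotaA by group, fieldA_iota,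
        show fieldA a * (fieldA b * iotaA) * iotaA = fieldA a * fieldA b * (iotaA * iotaA) by group,
        iotaA_mul_self, mul_one]

/-- The automorphism group as an extension of the inner-diagonal group by a complement. -/
structure IsComplementHom {H : Type*} [Group H] (J : H →* MulAut (PSLn n F)) : Prop where
  surj : ∀ β, ∃ (g : GL (Fin n) F) (x : H), β = conjA g * J x
  inj : ∀ x, J x ∈ inndiagPSL n F → x = 1

theorem isComplementHom_three [Finite F] (p : ℕ) [Fact p.Prime] [CharP F p] (hn : 3 ≤ n) :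
    IsComplementHom (fieldGraph (n := n) (F := F)) := by
  refine ⟨fun β => ?_, fun x hx => ?_⟩
  · obtain ⟨g, σ, γ, hγ, rfl⟩ := exists_decomp_all p (by omega) β
    rcases hγ with rfl | ⟨rfl, -⟩
    · exact ⟨g, (σ, 1), by simp [fieldGraph]⟩
    · refine ⟨g, (σ, Multiplicative.ofAdd 1), ?_⟩
      simp [fieldGraph, mul_assoc]
  · obtain ⟨σ, u⟩ := x
    have hu : ∀ u : Multiplicative (ZMod 2), u = 1 ∨ u = Multiplicative.ofAdd 1 := by decide
    rcases hu u with rfl | rfl
    · have h1 : fieldA σ ∈ inndiagPSL n F := by simpa [fieldGraph] using hx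
      rw [(fieldA_mem_inndiag_iff p (by omega)).1 h1]; rfl
    · exact absurd (by simpa [fieldGraph] using hx) (field_iota_notMem p hn (σ := σ))

theorem isComplementHom_two [Finite F] (p : ℕ) [Fact p.Prime] [CharP F p] :
    IsComplementHom (fieldA (n := 2) (F := F)) := by
  refine ⟨fun β => ?_, fun x hx => (fieldA_mem_inndiag_iff p le_rfl).1 hx⟩
  obtain ⟨g, σ, h⟩ := exists_decomp_two p β
  exact ⟨g, σ, h⟩

theorem charP_of_card {p f : ℕ} [hp : Fact p.Prime] [Fintype F] (hF : Fintype.card F = p ^ f) :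
    CharP F p := by
  obtain ⟨m, hr, hc⟩ := FiniteField.card F (ringChar F)
  have hpr : ringChar F = p := by
    have : ringChar F ∣ p ^ f := by rw [← hF, hc]; exact dvd_pow_self _ m.ne_zero
    exact (Nat.prime_dvd_prime_iff_eq hr hp.out).1 (hr.dvd_of_dvd_pow this)
  rw [← hpr]; exact ringChar.charP F

theorem card_gal {p f : ℕ} [Fact p.Prime] [Fintype F] (hf : 1 ≤ f) (hF : Fintype.card F = p ^ f) :
    IsCyclic (F ≃+* F) ∧ Nat.card (F ≃+* F) = f := by
  haveI hp : CharP F p := charP_of_card hF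
  letI : Algebra (ZMod p) F := ZMod.algebra F p
  let e : (F ≃ₐ[ZMod p] F) ≃* (F ≃+* F) :=
    { toFun := fun a => a.toRingEquiv
      invFun := fun a => AlgEquiv.ofRingEquiv (f := a) fun x =>
        RingHom.congr_fun (RingHom.ext_zmod ((a : F →+* F).comp (algebraMap (ZMod p) F)) (algebraMap (ZMod p) F)) x
      left_inv := fun a => AlgEquiv.ext fun _ => rfl
      right_inv := fun a => RingEquiv.ext fun _ => rfl
      map_mul' := fun a b => RingEquiv.ext fun _ => rfl }
  refine ⟨isCyclic_of_surjective e.toMonoidHom e.surjective, ?_⟩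
  rw [← Nat.card_congr e.toEquiv, IsGalois.card_aut_eq_finrank]
  have h1 := Module.card_eq_pow_finrank (K := ZMod p) (V := F)
  rw [hF, ZMod.card] at h1
  exact (Nat.pow_right_injective (Fact.out : p.Prime).two_le h1).symm

section Count

variable [Fintype F] (p : ℕ) [Fact p.Prime] [CharP F p]
include p

theorem card_inndiag (hn : 2 ≤ n) :
    Nat.card (inndiagPSL n F) = Nat.card (Matrix.ProjGenLinGroup (Fin n) F) := by
  rw [inndiagPSL_eq, Nat.card_congr (QuotientGroup.quotientKerEquivRange conjA).symm.toEquiv,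
    ker_conjA p hn]
  rfl

theorem card_inn (hn : 2 ≤ n) : Nat.card (Cfsg.Inn (PSLn n F)) = Nat.card (PSLn n F) := by
  refine (Nat.card_congr (MonoidHom.ofInjective ((injective_iff_map_eq_one _).2 fun x hx => ?_)).toEquiv).symm
  obtain ⟨s, rfl⟩ := mkP_surjective x
  rw [← conjA_toGL, conjA_eq_one_iff p hn, Subgroup.mem_center_iff] at hx
  rw [mkP_eq_one_iff, Subgroup.mem_center_iff]
  intro t
  refine sl_ext ?_
  have := congrArg Units.val (hx (Matrix.SpecialLinearGroup.toGL t))
  simpa using this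

variable {H : Type*} [Group H] {J : H →* MulAut (PSLn n F)} (hJ : IsComplementHom J)
include hJ

/-- The projection of the automorphism group onto the complement. -/
theorem exists_proj (hn : 2 ≤ n) :
    ∃ ψ : MulAut (PSLn n F) →* H, (∀ x, ψ (J x) = x) ∧ ψ.ker = inndiagPSL n F := by
  haveI := inndiag_normal (F := F) p hn
  let K : H →* MulAut (PSLn n F) ⧸ inndiagPSL n F := (QuotientGroup.mk' _).comp J
  have hK : Function.Bijective K := by
    refine ⟨(injective_iff_map_eq_one _).2 fun x hx => hJ.inj x ((QuotientGroup.eq_one_iff _).1 hx), fun y => ?_⟩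
    obtain ⟨β, rfl⟩ := QuotientGroup.mk_surjective y
    obtain ⟨g, x, rfl⟩ := hJ.surj β
    refine ⟨x, ?_⟩
    show (QuotientGroup.mk (J x) : _ ⧸ inndiagPSL n F) = QuotientGroup.mk (conjA g * J x)
    rw [QuotientGroup.eq]
    have hg : conjA g ∈ inndiagPSL n F := by rw [inndiagPSL_eq]; exact ⟨g, rfl⟩
    have := (inndiag_normal (F := F) p hn).conj_mem _ hg (J x)⁻¹
    rwa [inv_inv, mul_assoc] at this
  let e := MulEquiv.ofBijective K hK
  refine ⟨e.symm.toMonoidHom.comp (QuotientGroup.mk' _), fun x => e.symm_apply_apply x, ?_⟩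
  ext β
  rw [MonoidHom.mem_ker, MonoidHom.comp_apply, MulEquiv.coe_toMonoidHom, EmbeddingLike.map_eq_one_iff,
    QuotientGroup.mk'_apply, QuotientGroup.eq_one_iff]

theorem card_mulAut (hn : 2 ≤ n) :
    Nat.card (MulAut (PSLn n F)) = Nat.card H * Nat.card (Matrix.ProjGenLinGroup (Fin n) F) := by
  obtain ⟨ψ, hψ, hker⟩ := exists_proj p hJ hn
  rw [ψ.ker.card_eq_card_quotient_mul_card_subgroup, hker, card_inndiag p hn]
  congr 1
  rw [← hker]
  exact Nat.card_congr (QuotientGroup.quotientKerEquivOfSurjective ψ fun x => ⟨J x, hψ x⟩).toEquiv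

/-- The outer automorphism group. -/
theorem exists_out_hom (hn : 2 ≤ n) :
    ∃ φ : Cfsg.Out (PSLn n F) →* H, Function.Surjective φ ∧ IsCyclic φ.ker ∧
      Nat.card φ.ker = Nat.gcd n (Fintype.card F - 1) := by
  obtain ⟨ψ, hψ, hker⟩ := exists_proj p hJ hn
  let φ : Cfsg.Out (PSLn n F) →* H := QuotientGroup.lift _ ψ (by rw [hker]; exact inn_le_inndiag)
  have hsurj : Function.Surjective φ := fun x => ⟨QuotientGroup.mk (J x), hψ x⟩
  let Δ : GL (Fin n) F →* φ.ker := ((QuotientGroup.mk' (Cfsg.Inn (PSLn n F))).comp conjA).codRestrict φ.ker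
    fun g => by
      show ψ (conjA g) = 1
      rw [← MonoidHom.mem_ker, hker, inndiagPSL_eq]
      exact ⟨g, rfl⟩
  have hΔ : Function.Surjective Δ := by
    rintro ⟨y, hy⟩
    obtain ⟨β, rfl⟩ := QuotientGroup.mk_surjective y
    have hb : β ∈ inndiagPSL n F := by rw [← hker]; exact hy
    rw [inndiagPSL_eq] at hb
    obtain ⟨g, rfl⟩ := hb
    exact ⟨g, rfl⟩
  have hΔker : (Matrix.GeneralLinearGroup.det : GL (Fin n) F →* Fˣ).ker ≤ Δ.ker := by
    rw [← Classical.range_toGL_eq_ker_det]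
    rintro _ ⟨s, rfl⟩
    refine MonoidHom.mem_ker.2 (Subtype.ext ?_)
    show (QuotientGroup.mk (conjA (Matrix.SpecialLinearGroup.toGL s)) : Cfsg.Out (PSLn n F)) = 1
    rw [QuotientGroup.eq_one_iff]
    exact ⟨mkP s, (conjA_toGL s).symm⟩
  haveI : Nonempty (Fin n) := ⟨⟨0, by omega⟩⟩
  refine ⟨φ, hsurj, ?_, ?_⟩
  · refine isCyclic_of_surjective ((Matrix.GeneralLinearGroup.det : GL (Fin n) F →* Fˣ).liftOfRightInverse
      _ (Function.rightInverse_surjInv Matrix.GeneralLinearGroup.det_surjective) ⟨Δ, hΔker⟩) fun y => ?_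
    obtain ⟨g, rfl⟩ := hΔ y
    exact ⟨Matrix.GeneralLinearGroup.det g, MonoidHom.liftOfRightInverse_comp_apply _ _ _ _ g⟩
  · have h1 := (Cfsg.Inn (PSLn n F)).card_eq_card_quotient_mul_card_subgroup
    have h2 := φ.ker.card_eq_card_quotient_mul_card_subgroup
    have h3 : Nat.card (Cfsg.Out (PSLn n F) ⧸ φ.ker) = Nat.card H :=
      Nat.card_congr (QuotientGroup.quotientKerEquivOfSurjective φ hsurj).toEquiv
    rw [h3] at h2
    have hg := Classical.card_psl_mul (ι := Fin n) (F := F)
    rw [Fintype.card_fin] at hg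
    rw [card_mulAut p hJ hn, show Nat.card (MulAut (PSLn n F) ⧸ Cfsg.Inn (PSLn n F)) =
      Nat.card (Cfsg.Out (PSLn n F)) from rfl, h2, card_inn p hn, Classical.card_pgl, ← hg] at h1
    have hH : 0 < Nat.card H := by
      haveI : Finite H := Finite.of_surjective φ hsurj
      exact Nat.card_pos
    have hP : 0 < Nat.card (PSLn n F) := Nat.card_pos
    rw [← mul_assoc] at h1
    exact (Nat.eq_of_mul_eq_mul_left hH (Nat.eq_of_mul_eq_mul_right hP h1)).symm

end Count

end Cfsg.Agent.AutPSL
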