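import Cfsg.Agent.AutPSL.Structure

/-!
Hilbert 90 for GL_n and cyclic groups of field automorphisms, norms onto fixed fields, Hermitian forms over
finite fields.
-/

set_option autoImplicit false

namespace Cfsg.Agent.AutPSL

open Matrix

variable {n : ℕ} {F : Type*} [Field F]

/-- The twisted partial products `g σ(g) ... σ^(k-1)(g)`. -/
def twN (σ : F ≃+* F) (g : GL (Fin n) F) : ℕ → GL (Fin n) F
  | 0 => 1
  | k + 1 => g * fieldGL σ (twN σ g k)

theorem fieldGL_fieldGL (σ τ : F ≃+* F) (g : GL (Fin n) F) : fieldGL σ (fieldGL τ g) = fieldGL (σ * τ) g :=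
  Units.ext (Matrix.ext fun _ _ => rfl)

theorem fieldGL_one (g : GL (Fin n) F) : fieldGL (1 : F ≃+* F) g = g :=
  Units.ext (Matrix.ext fun _ _ => rfl)

theorem twN_succ' (σ : F ≃+* F) (g : GL (Fin n) F) :
    ∀ k, twN σ g (k + 1) = twN σ g k * fieldGL (σ ^ k) g
  | 0 => by
    show g * fieldGL σ 1 = 1 * fieldGL (σ ^ 0) g
    rw [map_one, mul_one, one_mul, pow_zero, fieldGL_one]
  | k + 1 => by
    show g * fieldGL σ (twN σ g (k + 1)) = _
    conv_lhs => rw [twN_succ' σ g k]
    rw [map_mul, fieldGL_fieldGL, ← pow_succ', ← mul_assoc]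
    rfl

theorem conjA_field_pow (σ : F ≃+* F) (g : GL (Fin n) F) :
    ∀ k, (conjA g * fieldA σ) ^ k = conjA (twN σ g k) * fieldA (σ ^ k)
  | 0 => by simp [twN]
  | k + 1 => by
    rw [pow_succ', conjA_field_pow σ g k]
    show _ = conjA (g * fieldGL σ (twN σ g k)) * fieldA (σ ^ (k + 1))
    rw [map_mul, pow_succ', map_mul, mul_assoc (conjA g), ← mul_assoc (fieldA σ), conjA_field]
    group

theorem pow_inj_of_orderOf {σ : F ≃+* F} {r : ℕ} (hr : orderOf σ = r) {i j : ℕ} (hi : i < r) (hj : j < r)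
    (h : σ ^ i = σ ^ j) : i = j :=
  pow_injOn_Iio_orderOf (Set.mem_Iio.2 (hr ▸ hi)) (Set.mem_Iio.2 (hr ▸ hj)) h

/-- Hilbert 90 for GL_n: fixed vectors of a semilinear map of finite order span. -/
theorem hilbert90 {σ : F ≃+* F} {r : ℕ} (hr : orderOf σ = r) (hr0 : 0 < r) (g : GL (Fin n) F)
    (hg : twN σ g r = 1) : ∃ h : GL (Fin n) F, g = h * (fieldGL σ h)⁻¹ := by
  classical
  set S : Set (Fin n → F) := {w | (g : Matrix (Fin n) (Fin n) F) *ᵥ (fun i => σ (w i)) = w} with hS
  have hσr : σ ^ r = 1 := by rw [← hr]; exact pow_orderOf_eq_one σ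
  let W : (Fin n → F) → (Fin n → F) := fun v =>
    ∑ k ∈ Finset.range r, (twN σ g k : Matrix (Fin n) (Fin n) F) *ᵥ fun i => (σ ^ k) (v i)
  have hW : ∀ v, W v ∈ S := fun v => by
    let T : ℕ → Fin n → F := fun k => (twN σ g k : Matrix (Fin n) (Fin n) F) *ᵥ fun i => (σ ^ k) (v i)
    have hstep : ∀ k, (g : Matrix (Fin n) (Fin n) F) *ᵥ (fun i => σ (T k i)) = T (k + 1) := fun k => by
      have e : (fun i => σ (T k i)) = (twN σ g k : Matrix (Fin n) (Fin n) F).map σ *ᵥ fun i => (σ ^ (k + 1)) (v i) := by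
        funext i
        rw [pow_succ']
        exact RingHom.map_mulVec (σ : F →+* F) _ _ i
      rw [e, Matrix.mulVec_mulVec]
      rfl
    show (g : Matrix (Fin n) (Fin n) F) *ᵥ (fun i => σ ((∑ k ∈ Finset.range r, T k) i)) = ∑ k ∈ Finset.range r, T k
    have e : (fun i => σ ((∑ k ∈ Finset.range r, T k) i)) = ∑ k ∈ Finset.range r, fun i => σ (T k i) := by
      funext i; simp [Finset.sum_apply, map_sum]
    rw [e, Matrix.mulVec_sum, Finset.sum_congr rfl fun k _ => hstep k]
    have h1 := Finset.sum_range_succ' T r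
    rw [Finset.sum_range_succ] at h1
    have h2 : T r = T 0 := by
      simp only [T, hg, hσr, pow_zero]
      rfl
    rw [h2] at h1
    exact (add_right_cancel h1).symm
  have hspan : Submodule.span F S = ⊤ := by
    by_contra hne
    obtain ⟨φ, hφ0, hφ⟩ := Submodule.exists_le_ker_of_lt_top _ (lt_top_iff_ne_top.2 hne)
    refine hφ0 (LinearMap.ext fun v => ?_)
    let M : Fin r → (F →* F) := fun k => ((σ ^ (k : ℕ) : F ≃+* F) : F →+* F).toMonoidHom
    have hMinj : Function.Injective M := fun a b hab => Fin.ext (pow_inj_of_orderOf hr a.2 b.2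
      (RingEquiv.ext fun x => DFunLike.congr_fun hab x))
    have li := (linearIndependent_monoidHom F F).comp M hMinj
    rw [Fintype.linearIndependent_iff] at li
    have h0 := li (fun k => φ ((twN σ g k : Matrix (Fin n) (Fin n) F) *ᵥ fun i => (σ ^ (k : ℕ)) (v i))) ?_ ⟨0, hr0⟩
    · simpa [twN] using h0
    · funext a
      have h1 : φ (W (a • v)) = 0 := hφ (Submodule.subset_span (hW _))
      simp only [W, map_sum] at h1
      rw [Finset.sum_range] at h1
      simp only [Finset.sum_apply, Pi.smul_apply, Function.comp_apply, smul_eq_mul, Pi.zero_apply]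
      refine Eq.trans (Finset.sum_congr rfl fun k _ => ?_) h1
      have e : (fun i => (σ ^ (k : ℕ)) (a • v i)) = (σ ^ (k : ℕ)) a • fun i => (σ ^ (k : ℕ)) (v i) :=
        funext fun i => map_mul _ _ _
      show φ _ * (σ ^ (k : ℕ)) a = φ (_ *ᵥ fun i => (σ ^ (k : ℕ)) (a • v i))
      rw [e, Matrix.mulVec_smul, map_smul, smul_eq_mul, mul_comm]
  obtain ⟨b, hbS, hbspan, hbli⟩ := exists_linearIndependent F S
  let B := Module.Basis.mk hbli (by rw [Subtype.range_coe, hbspan, hspan])
  let e := B.indexEquiv (Pi.basisFun F (Fin n))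
  let H : Matrix (Fin n) (Fin n) F := Matrix.of fun i j => (e.symm j : Fin n → F) i
  have hH : IsUnit H := by
    rw [← Matrix.linearIndependent_cols_iff_isUnit]
    exact hbli.comp e.symm e.symm.injective
  refine ⟨hH.unit, eq_mul_inv_iff_mul_eq.2 (Units.ext (Matrix.ext fun i j => ?_))⟩
  exact congrFun (hbS (e.symm j).2) i

/-- The fixed field of a cyclic group of automorphisms of a finite field receives the norm surjectively. -/
theorem exists_twisted_norm [Finite F] {σ : F ≃+* F} {r : ℕ} (hr : orderOf σ = r) {c : F} (hc : σ c = c) :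
    ∃ a : F, ∏ k ∈ Finset.range r, (σ ^ k) a = c := by
  classical
  haveI : Finite (F ≃+* F) := Finite.of_injective (fun σ : F ≃+* F => (σ : F → F)) DFunLike.coe_injective
  let G := Subgroup.zpowers σ
  let K := FixedPoints.subfield G F
  have hfix : ∀ (k : ℕ) (x : K), (σ ^ k) (x : F) = x := fun k x =>
    x.2 (⟨σ ^ k, Subgroup.npow_mem_zpowers σ k⟩ : G)
  have hcK : c ∈ K := fun g => by
    obtain ⟨g, hg⟩ := g
    have : G ≤ MulAction.stabilizer (F ≃+* F) c := by
      rw [Subgroup.zpowers_le, MulAction.mem_stabilizer_iff]; exact hc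
    exact MulAction.mem_stabilizer_iff.1 (this hg)
  haveI : Fintype G := Fintype.ofFinite G
  let Φ : Fin r → (F ≃ₐ[K] F) := fun k => AlgEquiv.ofRingEquiv (f := σ ^ (k : ℕ)) fun x => hfix k x
  have hΦi : Function.Injective Φ := fun a b hab => Fin.ext (pow_inj_of_orderOf hr a.2 b.2
    (RingEquiv.ext fun x => AlgEquiv.congr_fun hab x))
  have hcard : Nat.card (F ≃ₐ[K] F) = r := by
    haveI := IsGalois.of_fixed_field F G
    rw [IsGalois.card_aut_eq_finrank, FixedPoints.finrank_eq_card G F, ← Nat.card_eq_fintype_card, Nat.card_zpowers,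
      hr]
  have hΦ : Function.Bijective Φ :=
    (Fintype.bijective_iff_injective_and_card Φ).2 ⟨hΦi, by rw [Fintype.card_fin, ← Nat.card_eq_fintype_card, hcard]⟩
  obtain ⟨a, ha⟩ := FiniteField.norm_surjective K F ⟨c, hcK⟩
  refine ⟨a, ?_⟩
  have h := Algebra.norm_eq_prod_automorphisms K a
  rw [ha, ← (Fintype.prod_bijective Φ hΦ (fun k => Φ k a) (fun τ => τ a) fun _ => rfl : _ = ∏ τ : F ≃ₐ[K] F, τ a)] at h
  rw [Finset.prod_range]
  exact h.symm

/-- A finite field has an element of twisted norm any given fixed unit. -/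
theorem exists_unit_norm [Finite F] {σ : F ≃+* F} {r : ℕ} (hr : orderOf σ = r) (c : Fˣ) (hc : σ c = c) :
    ∃ a : Fˣ, ∏ k ∈ Finset.range r, (σ ^ k) (a : F) = c := by
  obtain ⟨a, ha⟩ := exists_twisted_norm hr hc
  have hr0 : 0 < r := by
    haveI : Finite (F ≃+* F) := Finite.of_injective (fun σ : F ≃+* F => (σ : F → F)) DFunLike.coe_injective
    rw [← hr]; exact orderOf_pos σ
  refine ⟨Units.mk0 a fun h => ?_, ha⟩
  rw [h] at ha
  rw [Finset.prod_eq_zero (Finset.mem_range.2 hr0) (by simp)] at ha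
  exact c.ne_zero ha.symm

theorem fieldGL_scalar (σ : F ≃+* F) (a : Fˣ) :
    fieldGL σ (Matrix.GeneralLinearGroup.scalar (Fin n) a) =
      Matrix.GeneralLinearGroup.scalar (Fin n) (Units.map ((σ : F →+* F) : F →* F) a) := by
  refine Units.ext ?_
  show (Matrix.scalar (Fin n) (a : F)).map σ = Matrix.scalar (Fin n) (σ a)
  rw [Matrix.scalar_apply, Matrix.scalar_apply, Matrix.diagonal_map (map_zero σ)]

theorem scalar_comm (a : Fˣ) (g : GL (Fin n) F) :
    Matrix.GeneralLinearGroup.scalar (Fin n) a * g = g * Matrix.GeneralLinearGroup.scalar (Fin n) a := by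
  have : Matrix.GeneralLinearGroup.scalar (Fin n) a ∈ Subgroup.center (GL (Fin n) F) := by
    rw [Matrix.GeneralLinearGroup.center_eq_range_scalar]; exact ⟨a, rfl⟩
  exact (Subgroup.mem_center_iff.1 this g).symm

theorem twN_scalar_mul (σ : F ≃+* F) (a : Fˣ) (g : GL (Fin n) F) : ∀ k,
    twN σ (Matrix.GeneralLinearGroup.scalar (Fin n) a * g) k =
      Matrix.GeneralLinearGroup.scalar (Fin n) (∏ i ∈ Finset.range k, Units.map (((σ ^ i : F ≃+* F) : F →+* F) : F →* F) a)
        * twN σ g k
  | 0 => by simp [twN]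
  | k + 1 => by
    rw [twN_succ', twN_scalar_mul σ a g k, twN_succ' σ g k, map_mul (fieldGL (σ ^ k)), fieldGL_scalar,
      Finset.prod_range_succ, map_mul (Matrix.GeneralLinearGroup.scalar (Fin n))]
    rw [mul_assoc, mul_assoc, ← mul_assoc (twN σ g k), ← scalar_comm _ (twN σ g k), mul_assoc]

/-- A twisted coboundary: central twisted norm means coboundary up to scalars. -/
theorem exists_coboundary [Finite F] (hn : 0 < n) {σ : F ≃+* F} {r : ℕ} (hr : orderOf σ = r) (g : GL (Fin n) F)
    (hg : twN σ g r ∈ Subgroup.center (GL (Fin n) F)) :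
    ∃ (a : Fˣ) (h : GL (Fin n) F), g = Matrix.GeneralLinearGroup.scalar (Fin n) a * (h * (fieldGL σ h)⁻¹) := by
  haveI : Finite (F ≃+* F) := Finite.of_injective (fun σ : F ≃+* F => (σ : F → F)) DFunLike.coe_injective
  have hr0 : 0 < r := by rw [← hr]; exact orderOf_pos σ
  rw [Matrix.GeneralLinearGroup.center_eq_range_scalar] at hg
  obtain ⟨c, hc⟩ := hg
  have hσr : σ ^ r = 1 := by rw [← hr]; exact pow_orderOf_eq_one σ
  have h1 : twN σ g (r + 1) = twN σ g r * g := by rw [twN_succ', hσr, fieldGL_one]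
  have h2 : g * fieldGL σ (twN σ g r) = twN σ g r * g := h1
  rw [← hc, fieldGL_scalar, scalar_comm c] at h2
  have h3 := congrArg Units.val (mul_left_cancel h2)
  have hcfix : σ (c : F) = c := by
    have := congrFun (congrFun h3 ⟨0, hn⟩) ⟨0, hn⟩
    simpa using this
  obtain ⟨a, ha⟩ := exists_unit_norm hr c⁻¹ (by rw [Units.val_inv_eq_inv_val, map_inv₀, hcfix])
  obtain ⟨h, hh⟩ := hilbert90 hr hr0 (Matrix.GeneralLinearGroup.scalar (Fin n) a * g) (by
    rw [twN_scalar_mul, ← hc, ← map_mul, ← map_one (Matrix.GeneralLinearGroup.scalar (Fin n))]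
    congr 1
    refine Units.ext ?_
    rw [Units.val_mul, Units.coe_prod, Units.val_one]
    rw [show (∏ i ∈ Finset.range r, ((Units.map (((σ ^ i : F ≃+* F) : F →+* F) : F →* F) a : Fˣ) : F)) = (c⁻¹ : Fˣ) from ha]
    exact Units.inv_mul c)
  refine ⟨a⁻¹, h, ?_⟩
  rw [← hh, ← mul_assoc, ← map_mul, inv_mul_cancel, map_one, one_mul]

/-! Hermitian forms. -/

theorem hermitian_exists [Finite F] {σ : F ≃+* F} (hσ : orderOf σ = 2) (G : Matrix (Fin n) (Fin n) F)
    (hG : G.det ≠ 0) (hherm : Gᵀ.map σ = G) : ∃ h : GL (Fin n) F,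
      G = (h : Matrix (Fin n) (Fin n) F) * ((h : Matrix (Fin n) (Fin n) F)ᵀ).map σ := by
  classical
  have h2 : ∀ x, σ (σ x) = x := fun x => by
    have := pow_orderOf_eq_one σ
    rw [hσ, pow_two] at this
    exact RingEquiv.congr_fun this x
  have hne : ∃ x, σ x ≠ x := by
    by_contra hc
    push Not at hc
    have : σ = 1 := RingEquiv.ext hc
    rw [this, orderOf_one] at hσ
    omega
  let B : (Fin n → F) → (Fin n → F) → F := fun u v => (fun i => σ (u i)) ⬝ᵥ G *ᵥ v
  have Bsymm : ∀ u v, σ (B u v) = B v u := fun u v => by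
    have e : (fun i => σ ((G *ᵥ v) i)) = G.map σ *ᵥ fun i => σ (v i) :=
      funext fun i => RingHom.map_mulVec (σ : F →+* F) G v i
    show σ (∑ i, σ (u i) * (G *ᵥ v) i) = _
    rw [map_sum]
    simp only [map_mul, h2]
    show u ⬝ᵥ (fun i => σ ((G *ᵥ v) i)) = (fun i => σ (v i)) ⬝ᵥ G *ᵥ u
    rw [e, ← Matrix.transpose_transpose (G.map σ), Matrix.mulVec_transpose, dotProduct_comm,
      ← Matrix.dotProduct_mulVec, ← Matrix.transpose_map, hherm]
  have Badd : ∀ u v w, B u (v + w) = B u v + B u w := fun u v w => by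
    simp only [B, Matrix.mulVec_add, dotProduct_add]
  have Bsmul : ∀ u (a : F) v, B u (a • v) = a * B u v := fun u a v => by
    simp only [B, Matrix.mulVec_smul, dotProduct_smul, smul_eq_mul]
  have Badd' : ∀ u v w, B (u + v) w = B u w + B v w := fun u v w => by
    rw [← Bsymm w, Badd, map_add, Bsymm, Bsymm]
  have Bsmul' : ∀ (a : F) u v, B (a • u) v = σ a * B u v := fun a u v => by
    rw [← Bsymm v, Bsmul, map_mul, Bsymm]
  have Bsum : ∀ {ι : Type} (s : Finset ι) u (w : ι → Fin n → F), B u (∑ i ∈ s, w i) = ∑ i ∈ s, B u (w i) :=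
    fun s u w => by simp only [B, Matrix.mulVec_sum, dotProduct_sum]
  have Bzero : ∀ v, (∀ u, B u v = 0) → v = 0 := fun v hv => by
    refine Matrix.eq_zero_of_mulVec_eq_zero hG (funext fun i => ?_)
    have := hv (Pi.single i 1)
    simp only [B] at this
    rwa [show (fun j => σ ((Pi.single i 1 : Fin n → F) j)) = Pi.single i 1 from
      funext fun j => by by_cases h : j = i <;> simp [Pi.single_apply, h],
      single_dotProduct, one_mul] at this
  have main : ∀ k ≤ n, ∃ e : Fin k → Fin n → F, ∀ i j, B (e i) (e j) = if i = j then 1 else 0 := by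
    intro k hk
    induction k with
    | zero => exact ⟨fun i => i.elim0, fun i => i.elim0⟩
    | succ k ih =>
      obtain ⟨e, he⟩ := ih (by omega)
      let L : (Fin n → F) →ₗ[F] (Fin k → F) :=
        { toFun := fun v i => B (e i) v
          map_add' := fun v w => funext fun i => Badd _ _ _
          map_smul' := fun a v => funext fun i => Bsmul _ _ _ }
      obtain ⟨w0, hw0, hw0ne⟩ : ∃ w, L w = 0 ∧ w ≠ 0 := by
        have : LinearMap.ker L ≠ ⊥ := LinearMap.ker_ne_bot_of_finrank_lt (by
          rw [Module.finrank_pi, Module.finrank_pi, Fintype.card_fin, Fintype.card_fin]; omega)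
        obtain ⟨w, hw, hwne⟩ := Submodule.exists_mem_ne_zero_of_ne_bot this
        exact ⟨w, hw, hwne⟩
      obtain ⟨w, hw, hww⟩ : ∃ w, L w = 0 ∧ B w w ≠ 0 := by
        obtain ⟨u, hu⟩ : ∃ u, B u w0 ≠ 0 := by
          by_contra hc; push Not at hc; exact hw0ne (Bzero _ hc)
        set u' := u - ∑ i, B (e i) u • e i with hu'
        have hLu' : L u' = 0 := funext fun j => by
          show B (e j) u' = 0
          have e1 : B (e j) u' + B (e j) (∑ i, B (e i) u • e i) = B (e j) u := by
            rw [← Badd, hu', sub_add_cancel]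
          rw [Bsum] at e1
          simp only [Bsmul, he] at e1
          simpa using e1
        have hu'w : B u' w0 = B u w0 := by
          have hperp : B (∑ i, B (e i) u • e i) w0 = 0 := by
            rw [← Bsymm, Bsum, Finset.sum_eq_zero, map_zero]
            intro i _
            rw [Bsmul, ← Bsymm (e i) w0, show B (e i) w0 = 0 from congrFun hw0 i, map_zero, mul_zero]
          have e1 : B u' w0 + B (∑ i, B (e i) u • e i) w0 = B u w0 := by rw [← Badd', hu', sub_add_cancel]
          rwa [hperp, add_zero] at e1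
        by_contra hc
        push Not at hc
        have hall : ∀ t : F, t + σ t = 0 := fun t => by
          have hb : B u' w0 ≠ 0 := by rwa [hu'w]
          have h0 := hc (u' + (t / B u' w0) • w0) (by rw [map_add, map_smul, hLu', hw0, smul_zero, add_zero])
          rw [Badd, Badd', Badd', Bsmul, Bsmul, Bsmul', Bsmul', hc u' hLu', hc w0 hw0, ← Bsymm u' w0,
            div_mul_cancel₀ _ hb, ← map_mul, div_mul_cancel₀ _ hb] at h0
          simpa [add_comm] using h0
        obtain ⟨x, hx⟩ := hne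
        have h1 := hall 1
        rw [map_one] at h1
        have hx' := hall x
        refine hx ?_
        linear_combination hx' - x * h1
      have hfix : σ (B w w) = B w w := Bsymm w w
      obtain ⟨a, ha⟩ := exists_twisted_norm hσ (c := (B w w)⁻¹) (by rw [map_inv₀, hfix])
      rw [Finset.prod_range_succ, Finset.prod_range_one, pow_zero, pow_one, RingAut.one_apply] at ha
      refine ⟨Fin.snoc e (a • w), fun i j => ?_⟩
      induction i using Fin.lastCases with
      | last =>
        induction j using Fin.lastCases with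
        | last =>
          rw [Fin.snoc_last, if_pos rfl, Bsmul, Bsmul', ← mul_assoc, ha, inv_mul_cancel₀ hww]
        | cast j =>
          rw [Fin.snoc_last, Fin.snoc_castSucc, if_neg (Fin.castSucc_ne_last j).symm, Bsmul',
            ← Bsymm, show B (e j) w = 0 from congrFun hw j, map_zero, mul_zero]
      | cast i =>
        induction j using Fin.lastCases with
        | last =>
          rw [Fin.snoc_last, Fin.snoc_castSucc, if_neg (Fin.castSucc_ne_last i), Bsmul,
            show B (e i) w = 0 from congrFun hw i, mul_zero]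
        | cast j =>
          rw [Fin.snoc_castSucc, Fin.snoc_castSucc, he]
          simp only [Fin.castSucc_inj]
  obtain ⟨e, he⟩ := main n le_rfl
  let P : Matrix (Fin n) (Fin n) F := Matrix.of fun i j => e j i
  have hP : (P.map σ)ᵀ * G * P = 1 := by
    ext i j
    rw [Matrix.one_apply, ← he i j, Matrix.mul_assoc]
    show _ = (fun a => σ (e i a)) ⬝ᵥ G *ᵥ e j
    rfl
  have hu : IsUnit P := by
    rw [Matrix.isUnit_iff_isUnit_det]
    exact isUnit_of_mul_isUnit_right (x := ((P.map σ)ᵀ * G).det) (by rw [← Matrix.det_mul, hP, Matrix.det_one]; exact isUnit_one)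
  let Q : GL (Fin n) F := ⟨(P.map σ)ᵀ, G * P, by rw [← Matrix.mul_assoc, hP],
    mul_eq_one_comm.1 (by rw [← Matrix.mul_assoc, hP])⟩
  refine ⟨Q⁻¹, ?_⟩
  show G = G * P * ((G * P)ᵀ).map σ
  have hT : ((G * P)ᵀ).map σ = (P.map σ)ᵀ * G := by
    rw [Matrix.transpose_mul, Matrix.map_mul, hherm, Matrix.transpose_map]
  rw [hT, Matrix.mul_assoc, mul_eq_one_comm.1 hP, Matrix.mul_one]

end Cfsg.Agent.AutPSL
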