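import Cfsg.Agent.AutPSL.Classes
import Cfsg.Prelude.Def_GeometricClasses

/-!
The centralizers of standard field and graph-field automorphisms of PSL_n in the inner-diagonal group.
-/

set_option autoImplicit false

namespace Cfsg.Agent.AutPSL

open Matrix

variable {n : ℕ} {F : Type*} [Field F]

theorem scalars_eq_center (n : ℕ) (F : Type*) [Field F] :
    Geo.scalars (Fin n) F = Subgroup.center (GL (Fin n) F) := by
  rw [Matrix.GeneralLinearGroup.center_eq_range_scalar]
  rfl

/-- An embedding of the field of the given size onto the fixed field. -/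
theorem exists_fixed_embedding [Fintype F] {p f : ℕ} [Fact p.Prime] (hF : Fintype.card F = p ^ f)
    {σ : F ≃+* F} {r : ℕ} (hr : orderOf σ = r) (hrf : r ∣ f) (F₀ : Type*) [Field F₀] [Fintype F₀]
    (hF₀ : Fintype.card F₀ = p ^ (f / r)) :
    ∃ i : F₀ →+* F, ∀ x : F, σ x = x ↔ x ∈ i.range := by
  classical
  haveI : Finite (F ≃+* F) := Finite.of_injective (fun σ : F ≃+* F => (σ : F → F)) DFunLike.coe_injective
  let G := Subgroup.zpowers σ
  let K := FixedPoints.subfield G F
  haveI : Fintype G := Fintype.ofFinite G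
  haveI : Fintype K := Fintype.ofFinite K
  have hfin : Module.finrank K F = r := by
    rw [FixedPoints.finrank_eq_card G F, ← Nat.card_eq_fintype_card, Nat.card_zpowers, hr]
  have hr0 : r ≠ 0 := by
    rw [← hr]; exact (orderOf_pos σ).ne'
  have hK : Fintype.card K = p ^ (f / r) := by
    have h1 := Module.card_eq_pow_finrank (K := K) (V := F)
    rw [hfin, hF] at h1
    refine Nat.pow_left_injective hr0 ?_
    show Fintype.card K ^ r = (p ^ (f / r)) ^ r
    rw [← pow_mul, Nat.div_mul_cancel hrf, h1]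
  obtain ⟨e⟩ : Nonempty (F₀ ≃+* K) := ⟨FiniteField.ringEquivOfCardEq (hF₀.trans hK.symm)⟩
  refine ⟨K.subtype.comp e.toRingHom, fun x => ⟨fun hx => ?_, ?_⟩⟩
  · have hxK : x ∈ K := fun g => by
      obtain ⟨g, hg⟩ := g
      have : G ≤ MulAction.stabilizer (F ≃+* F) x := by
        rw [Subgroup.zpowers_le, MulAction.mem_stabilizer_iff]; exact hx
      exact MulAction.mem_stabilizer_iff.1 (this hg)
    exact ⟨e.symm ⟨x, hxK⟩, by simp⟩
  · rintro ⟨y, rfl⟩
    exact (e y).2 (⟨σ, Subgroup.mem_zpowers σ⟩ : G)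

theorem fieldGL_eq_iff {σ : F ≃+* F} {g : GL (Fin n) F} :
    fieldGL σ g = g ↔ ∀ i j, σ ((g : Matrix (Fin n) (Fin n) F) i j) = (g : Matrix (Fin n) (Fin n) F) i j :=
  ⟨fun h i j => congrFun (congrFun (congrArg (fun x : GL (Fin n) F => (x : Matrix (Fin n) (Fin n) F)) h) i) j,
    fun h => Units.ext (Matrix.ext h)⟩

theorem scalar_mem_center (a : Fˣ) :
    Matrix.GeneralLinearGroup.scalar (Fin n) a ∈ Subgroup.center (GL (Fin n) F) := by
  rw [Matrix.GeneralLinearGroup.center_eq_range_scalar]; exact ⟨a, rfl⟩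

/-- Multiplicative Hilbert 90. -/
theorem hilbert90_units {σ : F ≃+* F} {r : ℕ} (hr : orderOf σ = r) (hr0 : 0 < r) {c : Fˣ}
    (hc : ∏ k ∈ Finset.range r, (σ ^ k) (c : F) = 1) : ∃ a : Fˣ, (c : F) * σ a = a := by
  have hone : ∀ k, twN σ (1 : GL (Fin 1) F) k = 1 := fun k => by
    induction k with
    | zero => rfl
    | succ k ih => show 1 * fieldGL σ (twN σ 1 k) = 1; rw [ih, map_one, mul_one]
  obtain ⟨k, hk⟩ := hilbert90 (n := 1) hr hr0 (Matrix.GeneralLinearGroup.scalar (Fin 1) c * 1) (by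
    rw [twN_scalar_mul, hone, mul_one, ← map_one (Matrix.GeneralLinearGroup.scalar (Fin 1))]
    congr 1
    refine Units.ext ?_
    rw [Units.coe_prod, Units.val_one]
    exact hc)
  rw [mul_one] at hk
  have ha : (k : Matrix (Fin 1) (Fin 1) F) 0 0 ≠ 0 := fun h0 =>
    Matrix.GeneralLinearGroup.det_ne_zero k (by rw [Matrix.det_fin_one]; exact h0)
  refine ⟨Units.mk0 _ ha, ?_⟩
  have h7 := congrArg Units.val (eq_mul_inv_iff_mul_eq.1 hk)
  have h8 := congrFun (congrFun h7 0) 0
  simpa [Matrix.mul_apply, fieldGL_coe] using h8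

section FieldCase

variable [Finite F] (p : ℕ) [Fact p.Prime] [CharP F p] {σ : F ≃+* F} {r : ℕ}
include p

/-- The centralizer of a standard field automorphism. -/
theorem centralizer_field (hn : 2 ≤ n) (hr : orderOf σ = r) {F₀ : Type*} [Field F₀] (i : F₀ →+* F)
    (hi : ∀ x : F, σ x = x ↔ x ∈ i.range) :
    (Matrix.GeneralLinearGroup.map (n := Fin n) i).range.map conjA =
      inndiagPSL n F ⊓ Subgroup.centralizer {fieldA σ} := by
  haveI : Finite (F ≃+* F) := Finite.of_injective (fun σ : F ≃+* F => (σ : F → F)) DFunLike.coe_injective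
  have hr0 : 0 < r := by rw [← hr]; exact orderOf_pos σ
  ext x
  constructor
  · rintro ⟨g, ⟨g0, rfl⟩, rfl⟩
    refine Subgroup.mem_inf.2 ⟨conjA_mem _, ?_⟩
    rw [Subgroup.mem_centralizer_singleton_iff, conjA_field]
    congr 2
    exact (fieldGL_eq_iff.2 fun a b => (hi _).2 ⟨_, rfl⟩).symm
  · intro hx
    obtain ⟨hx, hc⟩ := Subgroup.mem_inf.1 hx
    rw [inndiagPSL_eq] at hx
    obtain ⟨g, rfl⟩ := hx
    rw [Subgroup.mem_centralizer_singleton_iff, conjA_field] at hc
    have h1 : conjA (fieldGL σ g * g⁻¹) = (1 : MulAut (PSLn n F)) := by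
      rw [map_mul, map_inv, ← mul_right_cancel hc, mul_inv_cancel]
    rw [conjA_eq_one_iff p hn, Matrix.GeneralLinearGroup.center_eq_range_scalar] at h1
    obtain ⟨c, hcg⟩ := h1
    have hσg : fieldGL σ g = Matrix.GeneralLinearGroup.scalar (Fin n) c * g := by
      rw [hcg, inv_mul_cancel_right]
    have hpow : ∀ k, fieldGL (σ ^ k) g =
        Matrix.GeneralLinearGroup.scalar (Fin n)
          (∏ j ∈ Finset.range k, Units.map (((σ ^ j : F ≃+* F) : F →+* F) : F →* F) c) * g := fun k => by
      induction k with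
      | zero => simp [fieldGL_one]
      | succ k ih =>
        rw [pow_succ, ← fieldGL_fieldGL, hσg, map_mul, fieldGL_scalar, ih, Finset.prod_range_succ, map_mul,
          ← mul_assoc, scalar_comm, mul_assoc]
    have hN : ∏ j ∈ Finset.range r, (σ ^ j) (c : F) = 1 := by
      have h2 := hpow r
      rw [← hr, pow_orderOf_eq_one, fieldGL_one, hr] at h2
      have h4 := congrArg Units.val (mul_eq_right.1 h2.symm)
      have h5 := congrFun (congrFun h4 ⟨0, by omega⟩) ⟨0, by omega⟩
      simpa [Units.coe_prod] using h5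
    obtain ⟨a, ha⟩ := hilbert90_units hr hr0 hN
    set g' := Matrix.GeneralLinearGroup.scalar (Fin n) a * g with hg'
    have hfix : fieldGL σ g' = g' := by
      rw [hg', map_mul, fieldGL_scalar, hσg, ← mul_assoc, ← map_mul]
      congr 2
      refine Units.ext ?_
      show σ (a : F) * (c : F) = a
      rw [mul_comm]; exact ha
    choose m hm using fun u v => (hi _).1 ((fieldGL_eq_iff.1 hfix) u v)
    have hdet : (Matrix.of m).det ≠ 0 := fun h0 => by
      apply Matrix.GeneralLinearGroup.det_ne_zero g'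
      rw [show (g' : Matrix (Fin n) (Fin n) F) = i.mapMatrix (Matrix.of m) from Matrix.ext fun u v => (hm u v).symm,
        ← RingHom.map_det, h0, map_zero]
    refine ⟨g', ⟨Matrix.GeneralLinearGroup.mkOfDetNeZero _ hdet, Units.ext (Matrix.ext fun u v => hm u v)⟩, ?_⟩
    rw [hg', map_mul, center_le_ker _ (scalar_mem_center a), one_mul]

omit [Finite F] p [Fact p.Prime] [CharP F p] in
theorem center_comap_map (hn : 0 < n) {F₀ : Type*} [Field F₀] (i : F₀ →+* F) :
    (Subgroup.center (GL (Fin n) F)).comap (Matrix.GeneralLinearGroup.map (n := Fin n) i) =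
      Subgroup.center (GL (Fin n) F₀) := by
  ext g
  rw [Subgroup.mem_comap, center_gl_iff, center_gl_iff]
  constructor
  · rintro ⟨c, hc⟩
    have e : ∀ u v, i ((g : Matrix (Fin n) (Fin n) F₀) u v) = if u = v then (c : F) else 0 := fun u v => by
      have := congrFun (congrFun hc u) v
      rwa [Matrix.scalar_apply, Matrix.diagonal_apply] at this
    let o : Fin n := ⟨0, hn⟩
    have ho : (g : Matrix (Fin n) (Fin n) F₀) o o ≠ 0 := fun h0 => by
      have := e o o
      rw [h0, map_zero, if_pos rfl] at this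
      exact c.ne_zero this.symm
    refine ⟨Units.mk0 _ ho, Matrix.ext fun u v => i.injective ?_⟩
    rw [e, Matrix.scalar_apply, Matrix.diagonal_apply]
    by_cases huv : u = v
    · rw [if_pos huv, if_pos huv, Units.val_mk0, e, if_pos rfl]
    · rw [if_neg huv, if_neg huv, map_zero]
  · rintro ⟨c, hc⟩
    refine ⟨Units.map (i : F₀ →* F) c, ?_⟩
    show ((g : Matrix (Fin n) (Fin n) F₀)).map i = _
    rw [hc, Matrix.scalar_apply, Matrix.diagonal_map (map_zero i), Matrix.scalar_apply]
    rfl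

end FieldCase

theorem card_range_units_map {F₀ : Type*} [Field F₀] [Fintype F₀] (i : F₀ →+* F) :
    Nat.card (Units.map (i : F₀ →* F)).range = Fintype.card F₀ - 1 := by
  have h := (Nat.card_congr (MonoidHom.ofInjective
    (Units.map_injective (f := (i : F₀ →* F)) i.injective)).toEquiv).symm
  rw [Nat.card_units, Nat.card_eq_fintype_card (α := F₀)] at h
  exact h

theorem det_range_map (hn : 0 < n) {F₀ : Type*} [Field F₀] (i : F₀ →+* F) :
    (Matrix.GeneralLinearGroup.map (n := Fin n) i).range.map Matrix.GeneralLinearGroup.det =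
      (Units.map (i : F₀ →* F)).range := by
  haveI : Nonempty (Fin n) := ⟨⟨0, hn⟩⟩
  ext a
  constructor
  · rintro ⟨_, ⟨g, rfl⟩, rfl⟩
    exact ⟨Matrix.GeneralLinearGroup.det g, Units.ext (i.map_det _)⟩
  · rintro ⟨b, rfl⟩
    obtain ⟨g, rfl⟩ := Matrix.GeneralLinearGroup.det_surjective (n := Fin n) (R := F₀) b
    exact ⟨_, ⟨g, rfl⟩, Units.ext (i.map_det _).symm⟩

/-- The index arithmetic for the splitting of classes. -/
theorem index_pow_sup [Fintype F] (n : ℕ) (S : Subgroup Fˣ) {d : ℕ} (hd : d * Nat.card S = Fintype.card F - 1) :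
    ((powMonoidHom n : Fˣ →* Fˣ).range ⊔ S).index = Nat.gcd n d := by
  have hm : Nat.card Fˣ = Fintype.card F - 1 := Classical.card_units_field
  have hS : S.index = d := by
    have h1 := S.index_mul_card
    rw [hm, ← hd] at h1
    exact Nat.eq_of_mul_eq_mul_right Nat.card_pos h1
  rw [cyclic_index_sup, IsCyclic.index_powMonoidHom_range, hS, hm, Nat.gcd_comm (Fintype.card F - 1) n,
    Nat.gcd_assoc, Nat.gcd_eq_right (show d ∣ Fintype.card F - 1 from ⟨_, hd.symm⟩)]

section Unitary

variable [Fintype F] {p f : ℕ} [Fact p.Prime]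

theorem involution_eq_frobenius (hf : 1 ≤ f) (hF : Fintype.card F = p ^ f) {σ : F ≃+* F} (hσ : orderOf σ = 2) :
    Even f ∧ ∀ x, σ x = x ^ p ^ (f / 2) := by
  haveI : CharP F p := charP_of_card hF
  obtain ⟨hc, hcard⟩ := card_gal (F := F) hf hF
  haveI : Finite (F ≃+* F) := Finite.of_injective (fun σ : F ≃+* F => (σ : F → F)) DFunLike.coe_injective
  have he : 2 ∣ f := by rw [← hcard, ← hσ]; exact orderOf_dvd_natCard σ
  refine ⟨even_iff_two_dvd.2 he, ?_⟩
  set k := f / 2 with hk
  have hfk : k + k = f := by omega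
  let τ : F ≃+* F := iterateFrobeniusEquiv F p k
  have hτ : ∀ x, τ x = x ^ p ^ k := fun x => rfl
  have hτ2 : τ ^ 2 = 1 := RingEquiv.ext fun x => by
    rw [pow_two]
    show τ (τ x) = x
    rw [hτ, hτ, ← pow_mul, ← pow_add, hfk, ← hF, FiniteField.pow_card]
  have hτ1 : τ ≠ 1 := fun h => by
    obtain ⟨z, hz⟩ := IsCyclic.exists_generator (α := Fˣ)
    have hord : orderOf z = Fintype.card F - 1 := by
      rw [orderOf_eq_card_of_forall_mem_zpowers hz, Classical.card_units_field]
    have h1 : (z : F) ^ p ^ k = z := by rw [← hτ, h]; rfl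
    have hpk : 1 ≤ p ^ k := Nat.one_le_pow _ _ (Fact.out : p.Prime).pos
    have h2 : z ^ (p ^ k - 1) = 1 := by
      refine mul_left_cancel (a := z) ?_
      rw [← pow_succ', Nat.sub_add_cancel hpk, mul_one]
      exact Units.ext (by rw [Units.val_pow_eq_pow_val]; exact h1)
    have h3 := Nat.le_of_dvd (by
      have : 1 < p ^ k := Nat.one_lt_pow (by omega) (Fact.out : p.Prime).one_lt
      omega) (orderOf_dvd_of_pow_eq_one h2)
    rw [hord, hF] at h3
    have : p ^ k < p ^ f := Nat.pow_lt_pow_right (Fact.out : p.Prime).one_lt (by omega)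
    omega
  have := eq_of_orderOf_two hσ (orderOf_eq_prime hτ2 hτ1)
  intro x
  rw [this, hτ]

variable {q : ℕ} {σ : F ≃+* F} (hq : ∀ x, σ x = x ^ q)
include hq

omit [Fintype F] in
theorem mem_GU_iff {g : GL (Fin n) F} :
    g ∈ GU n F q ↔ (g : Matrix (Fin n) (Fin n) F)ᵀ * (g : Matrix (Fin n) (Fin n) F).map σ = 1 := by
  have e : ∀ u v, hermForm n F q u v = u ⬝ᵥ fun j => σ (v j) := fun u v => by
    simp only [hermForm, dotProduct, hq]
  have e2 : ∀ u v, hermForm n F q ((g : Matrix (Fin n) (Fin n) F) *ᵥ u) ((g : Matrix (Fin n) (Fin n) F) *ᵥ v) =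
      u ⬝ᵥ (((g : Matrix (Fin n) (Fin n) F)ᵀ * (g : Matrix (Fin n) (Fin n) F).map σ) *ᵥ fun j => σ (v j)) := by
    intro u v
    rw [e, show (fun j => σ (((g : Matrix (Fin n) (Fin n) F) *ᵥ v) j)) =
      (g : Matrix (Fin n) (Fin n) F).map σ *ᵥ fun j => σ (v j) from
        funext fun j => RingHom.map_mulVec (σ : F →+* F) _ v j,
      ← Matrix.mulVec_mulVec, Matrix.dotProduct_mulVec _ (g : Matrix (Fin n) (Fin n) F)ᵀ, Matrix.vecMul_transpose]
  constructor
  · intro h
    ext a b
    have h' : hermForm n F q ((g : Matrix (Fin n) (Fin n) F) *ᵥ Pi.single a 1)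
        ((g : Matrix (Fin n) (Fin n) F) *ᵥ Pi.single b 1) = hermForm n F q (Pi.single a 1) (Pi.single b 1) :=
      h _ _
    rw [e2, e, show (fun j => σ ((Pi.single b 1 : Fin n → F) j)) = Pi.single b 1 from
      funext fun j => by by_cases hj : j = b <;> simp [Pi.single_apply, hj],
      single_dotProduct, single_dotProduct, Matrix.mulVec_single_one, one_mul, one_mul] at h'
    rw [Matrix.one_apply]
    rw [Matrix.col_apply] at h'
    rw [h', Pi.single_apply]
  · intro h u v
    show hermForm n F q ((g : Matrix (Fin n) (Fin n) F) *ᵥ u) ((g : Matrix (Fin n) (Fin n) F) *ᵥ v) = _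
    rw [e2, h, Matrix.one_mulVec, ← e]

theorem centralizer_graphField {p : ℕ} [Fact p.Prime] [CharP F p] (hn : 3 ≤ n) (hσ : orderOf σ = 2) :
    (GU n F q).map conjA = inndiagPSL n F ⊓ Subgroup.centralizer {fieldA σ * iotaA} := by
  have h2 : ∀ x, σ (σ x) = x := fun x => by
    have := pow_orderOf_eq_one σ
    rw [hσ, pow_two] at this
    exact RingEquiv.congr_fun this x
  have key : ∀ k : GL (Fin n) F,
      (fieldA σ * iotaA) * conjA k = conjA (fieldGL σ (itGL k)) * (fieldA σ * iotaA) := fun k => by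
    rw [mul_assoc, conjA_iota, ← mul_assoc, conjA_field, mul_assoc]
  have hmm : ∀ M : Matrix (Fin n) (Fin n) F, (M.map σ).map σ = M := fun M => Matrix.ext fun a b => h2 _
  have hfix : ∀ g : GL (Fin n) F, g ∈ GU n F q ↔ fieldGL σ (itGL g) = g := fun g => by
    rw [mem_GU_iff hq]
    constructor
    · intro h
      refine Units.ext ?_
      show (((g⁻¹ : GL (Fin n) F) : Matrix (Fin n) (Fin n) F)ᵀ).map σ = _
      have h1 : ((g : Matrix (Fin n) (Fin n) F).map σ) = ((g⁻¹ : GL (Fin n) F) : Matrix (Fin n) (Fin n) F)ᵀ := by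
        calc (g : Matrix (Fin n) (Fin n) F).map σ
            = ((g⁻¹ : GL (Fin n) F) : Matrix (Fin n) (Fin n) F)ᵀ *
                ((g : Matrix (Fin n) (Fin n) F)ᵀ * (g : Matrix (Fin n) (Fin n) F).map σ) := by
              rw [← Matrix.mul_assoc, ← Matrix.transpose_mul, Units.mul_inv, Matrix.transpose_one, Matrix.one_mul]
          _ = _ := by rw [h, Matrix.mul_one]
      rw [← h1, hmm]
    · intro h
      have h1 : (((g⁻¹ : GL (Fin n) F) : Matrix (Fin n) (Fin n) F)ᵀ).map σ = (g : Matrix (Fin n) (Fin n) F) :=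
        congrArg Units.val h
      conv_lhs => arg 2; rw [← h1]
      rw [hmm, ← Matrix.transpose_mul, Units.inv_mul, Matrix.transpose_one]
  ext x
  constructor
  · rintro ⟨g, hg, rfl⟩
    refine Subgroup.mem_inf.2 ⟨conjA_mem _, ?_⟩
    rw [Subgroup.mem_centralizer_singleton_iff, key, (hfix g).1 hg]
  · intro hx
    obtain ⟨hx, hc⟩ := Subgroup.mem_inf.1 hx
    rw [inndiagPSL_eq] at hx
    obtain ⟨g, rfl⟩ := hx
    rw [Subgroup.mem_centralizer_singleton_iff, key] at hc
    have h1 : conjA (g * (fieldGL σ (itGL g))⁻¹) = (1 : MulAut (PSLn n F)) := by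
      rw [map_mul, map_inv, ← mul_right_cancel hc, mul_inv_cancel]
    rw [conjA_eq_one_iff p (by omega), Matrix.GeneralLinearGroup.center_eq_range_scalar] at h1
    obtain ⟨c, hcg⟩ := h1
    -- g = c • σ(g^{-T})
    have hg : g = Matrix.GeneralLinearGroup.scalar (Fin n) c * fieldGL σ (itGL g) := by
      rw [hcg, inv_mul_cancel_right]
    have hval : (g : Matrix (Fin n) (Fin n) F) * ((g : Matrix (Fin n) (Fin n) F)ᵀ).map σ =
        (c : F) • (1 : Matrix (Fin n) (Fin n) F) := by
      have hv := congrArg Units.val hg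
      rw [Units.val_mul, scalar_coe, Matrix.scalar_apply, ← Matrix.smul_one_eq_diagonal, Matrix.smul_mul,
        Matrix.one_mul] at hv
      have hinv : (((g⁻¹ : GL (Fin n) F) : Matrix (Fin n) (Fin n) F)ᵀ).map σ *
          ((g : Matrix (Fin n) (Fin n) F)ᵀ).map σ = 1 := by
        rw [← Matrix.map_mul, ← Matrix.transpose_mul, Units.mul_inv, Matrix.transpose_one,
          Matrix.map_one _ (map_zero _) (map_one _)]
      conv_lhs => arg 1; rw [hv]
      rw [Matrix.smul_mul]
      congr 1
    have hcfix : σ (c : F) = c := by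
      have h3 := congrArg (fun M : Matrix (Fin n) (Fin n) F => (Mᵀ).map σ) hval
      simp only [Matrix.transpose_mul, Matrix.map_mul, Matrix.transpose_smul, Matrix.transpose_one] at h3
      rw [show ((g : Matrix (Fin n) (Fin n) F)ᵀ.map σ)ᵀ.map σ = (g : Matrix (Fin n) (Fin n) F) from
        Matrix.ext fun a b => h2 _, hval] at h3
      have h4 := congrFun (congrFun h3 ⟨0, by omega⟩) ⟨0, by omega⟩
      simpa using h4.symm
    obtain ⟨b, hb⟩ := exists_unit_norm hσ c⁻¹ (by rw [Units.val_inv_eq_inv_val, map_inv₀, hcfix])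
    rw [Finset.prod_range_succ, Finset.prod_range_one, pow_zero, pow_one] at hb
    refine ⟨Matrix.GeneralLinearGroup.scalar (Fin n) b * g, (mem_GU_iff hq).2 ?_, ?_⟩
    · rw [Units.val_mul, scalar_coe, Matrix.scalar_apply, ← Matrix.smul_one_eq_diagonal, Matrix.smul_mul,
        Matrix.one_mul, Matrix.transpose_smul, show ((b : F) • (g : Matrix (Fin n) (Fin n) F)).map σ =
          σ (b : F) • (g : Matrix (Fin n) (Fin n) F).map σ from Matrix.ext fun i j => map_mul σ _ _,
        Matrix.smul_mul, Matrix.mul_smul, smul_smul]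
      have h5 : (g : Matrix (Fin n) (Fin n) F)ᵀ * (g : Matrix (Fin n) (Fin n) F).map σ =
          (c : F) • (1 : Matrix (Fin n) (Fin n) F) := by
        have h6 : ((c : F)⁻¹ • ((g : Matrix (Fin n) (Fin n) F)ᵀ).map σ) * (g : Matrix (Fin n) (Fin n) F) = 1 :=
          mul_eq_one_comm.1 (by rw [Matrix.mul_smul, hval, smul_smul, inv_mul_cancel₀ c.ne_zero, one_smul])
        rw [Matrix.smul_mul] at h6
        have h7 := congrArg (fun M : Matrix (Fin n) (Fin n) F => M.map σ) h6
        simp only [Matrix.map_one σ (map_zero σ) (map_one σ)] at h7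
        rw [show ((c : F)⁻¹ • (((g : Matrix (Fin n) (Fin n) F)ᵀ).map σ * (g : Matrix (Fin n) (Fin n) F))).map σ =
          σ (c : F)⁻¹ • (((g : Matrix (Fin n) (Fin n) F)ᵀ).map σ * (g : Matrix (Fin n) (Fin n) F)).map σ from
            Matrix.ext fun i j => map_mul σ _ _, Matrix.map_mul, hmm, map_inv₀, hcfix] at h7
        calc _ = (c : F) • ((c : F)⁻¹ • ((g : Matrix (Fin n) (Fin n) F)ᵀ * (g : Matrix (Fin n) (Fin n) F).map σ)) := by
              rw [smul_smul, mul_inv_cancel₀ c.ne_zero, one_smul]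
          _ = _ := by rw [h7]
      rw [h5, smul_smul]
      rw [show ((b : F) * σ (b : F)) = ((c⁻¹ : Fˣ) : F) from hb, Units.val_inv_eq_inv_val,
        inv_mul_cancel₀ c.ne_zero, one_smul]
    · rw [map_mul, center_le_ker _ (scalar_mem_center b), one_mul]

omit [Fintype F] in
theorem det_GU (hσσ : ∀ x, σ (σ x) = x) (hn : 0 < n) :
    (GU n F q).map Matrix.GeneralLinearGroup.det = (powMonoidHom (q + 1) : Fˣ →* Fˣ).ker := by
  ext a
  rw [MonoidHom.mem_ker, powMonoidHom_apply]
  constructor
  · rintro ⟨g, hg, rfl⟩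
    have h := congrArg Matrix.det ((mem_GU_iff hq).1 hg)
    rw [Matrix.det_mul, Matrix.det_transpose, Matrix.det_one] at h
    refine Units.ext ?_
    rw [Units.val_pow_eq_pow_val, Units.val_one, pow_succ']
    show (g : Matrix (Fin n) (Fin n) F).det * (g : Matrix (Fin n) (Fin n) F).det ^ q = 1
    rw [← hq]
    have e : σ (g : Matrix (Fin n) (Fin n) F).det = ((g : Matrix (Fin n) (Fin n) F).map σ).det := RingEquiv.map_det σ _
    rw [e]; exact h
  · intro ha
    let o : Fin n := ⟨0, hn⟩
    refine ⟨Classical.diagGL (Function.update 1 o a), (mem_GU_iff hq).2 ?_, Units.ext ?_⟩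
    · rw [Classical.diagGL_coe, Matrix.diagonal_transpose, Matrix.diagonal_map (map_zero σ), Matrix.diagonal_mul_diagonal,
        ← Matrix.diagonal_one]
      congr 1
      funext i
      by_cases hi : i = o
      · subst hi
        rw [Function.update_self, hq, ← pow_succ', ← Units.val_pow_eq_pow_val, ha, Units.val_one]
      · rw [Function.update_of_ne hi, Pi.one_apply, Units.val_one, map_one, one_mul]
    · show (Classical.diagGL (Function.update 1 o a) : Matrix (Fin n) (Fin n) F).det = a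
      rw [Classical.diagGL_coe, Matrix.det_diagonal, Finset.prod_eq_single o]
      · simp
      · intro i _ hi; simp [Function.update_of_ne hi]
      · simp

end Unitary

end Cfsg.Agent.AutPSL
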