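import Cfsg.Agent.AutPSL.Twisted
import Cfsg.Prelude.Def_LieClassical

/-!
Field and graph-field automorphisms of prime order of PSL_n: standard representatives, conjugacy in the
inner-diagonal coset, centralizers, and the splitting of classes under the inner automorphisms.
-/

set_option autoImplicit false

namespace Cfsg.Agent.AutPSL

open Matrix

theorem orderOf_conj_eq {X : Type*} [Group X] (h x : X) : orderOf (h * x * h⁻¹) = orderOf x :=
  orderOf_injective (MulAut.conj h).toMonoidHom (MulAut.conj h).injective x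

theorem isConjUnder_symm {X : Type*} [Group X] {H : Subgroup X} {x y : X} (h : IsConjUnder H x y) :
    IsConjUnder H y x := by
  obtain ⟨a, ha, rfl⟩ := h
  exact ⟨a⁻¹, inv_mem ha, by group⟩

theorem isConjUnder_trans {X : Type*} [Group X] {H : Subgroup X} {x y z : X} (h : IsConjUnder H x y)
    (h' : IsConjUnder H y z) : IsConjUnder H x z := by
  obtain ⟨a, ha, rfl⟩ := h
  obtain ⟨b, hb, rfl⟩ := h'
  exact ⟨b * a, mul_mem hb ha, by group⟩

/-- The number of pieces of a class is an index. -/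
theorem splitClassCount_eq_relIndex {X : Type*} [Group X] (H K : Subgroup X) [hK : K.Normal] (hKH : K ≤ H)
    (x : X) : splitClassCount H K x = (K ⊔ (H ⊓ Subgroup.centralizer {x})).relIndex H := by
  classical
  set C := H ⊓ Subgroup.centralizer {x} with hC
  let r : {y : X // IsConjUnder H x y} → {y : X // IsConjUnder H x y} → Prop := fun y z => IsConjUnder K y.1 z.1
  have hequiv : Equivalence r :=
    ⟨fun y => ⟨1, one_mem _, by group⟩, fun h => isConjUnder_symm h, fun h h' => isConjUnder_trans h h'⟩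
  let cl : H → {y : X // IsConjUnder H x y} := fun h => ⟨h.1 * x * h.1⁻¹, h.1, h.2, rfl⟩
  let Q : H ⧸ (K ⊔ C).subgroupOf H → Quot r := Quotient.lift (fun h => Quot.mk r (cl h)) (by
    intro a b hab
    have h1 : (a : X)⁻¹ * b ∈ K ⊔ C := by
      have h2 := QuotientGroup.leftRel_apply.1 hab
      rw [Subgroup.mem_subgroupOf] at h2
      simpa using h2
    obtain ⟨k, hk, c, hc, hkc⟩ := Subgroup.mem_sup_of_normal_left.1 h1
    refine Quot.sound ⟨(a : X) * k * (a : X)⁻¹, hK.conj_mem k hk _, ?_⟩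
    have hcx : c * x = x * c := (Subgroup.mem_centralizer_singleton_iff.1 hc.2)
    have hb : (b : X) = a * k * c := by rw [mul_assoc, hkc, mul_inv_cancel_left]
    show (b : X) * x * (b : X)⁻¹ = (a : X) * k * (a : X)⁻¹ * ((a : X) * x * (a : X)⁻¹) * ((a : X) * k * (a : X)⁻¹)⁻¹
    rw [hb, show (a : X) * k * c * x * ((a : X) * k * c)⁻¹ = a * k * (c * x) * c⁻¹ * k⁻¹ * (a : X)⁻¹ by group, hcx]
    group)
  have hbij : Function.Bijective Q := by
    constructor
    · intro u v
      induction u using Quotient.inductionOn with | h a => ?_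
      induction v using Quotient.inductionOn with | h b => ?_
      intro h
      have h' : r (cl a) (cl b) := (hequiv.eqvGen_iff).1 (Quot.eqvGen_exact h)
      obtain ⟨k, hk, hkab⟩ := h'
      have hkab' : (b : X) * x * (b : X)⁻¹ = k * ((a : X) * x * (a : X)⁻¹) * k⁻¹ := hkab
      refine Quotient.sound (QuotientGroup.leftRel_apply.2 ?_)
      rw [Subgroup.mem_subgroupOf]
      show (a : X)⁻¹ * b ∈ K ⊔ C
      have hc : (k * a)⁻¹ * b ∈ C := by
        refine Subgroup.mem_inf.2 ⟨mul_mem (inv_mem (mul_mem (hKH hk) a.2)) b.2, ?_⟩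
        rw [Subgroup.mem_centralizer_singleton_iff]
        calc (k * a)⁻¹ * b * x = (k * a)⁻¹ * ((b : X) * x * (b : X)⁻¹) * b := by group
          _ = x * ((k * a)⁻¹ * b) := by rw [hkab']; group
      have e : (a : X)⁻¹ * b = ((a : X)⁻¹ * k * (a : X)⁻¹⁻¹) * ((k * a)⁻¹ * b) := by group
      rw [e]
      exact mul_mem (Subgroup.mem_sup_left (hK.conj_mem k hk _)) (Subgroup.mem_sup_right hc)
    · rintro ⟨⟨y, h, hh, rfl⟩⟩
      exact ⟨QuotientGroup.mk ⟨h, hh⟩, rfl⟩
  exact (Nat.card_congr (Equiv.ofBijective Q hbij)).symm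

theorem splitClassCount_conj {X : Type*} [Group X] {H : Subgroup X} (K : Subgroup X) {x y : X}
    (h : IsConjUnder H x y) : splitClassCount H K y = splitClassCount H K x := by
  have e : ∀ z, IsConjUnder H y z ↔ IsConjUnder H x z :=
    fun z => ⟨isConjUnder_trans h, isConjUnder_trans (isConjUnder_symm h)⟩
  exact Nat.card_congr (Quot.congr (Equiv.subtypeEquivRight e) fun _ _ => Iff.rfl)

theorem centralizer_inf_congr {X : Type*} [Group X] {H : Subgroup X} {x y : X} (h : IsConjUnder H x y) :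
    Nonempty (↥(H ⊓ Subgroup.centralizer {y}) ≃* ↥(H ⊓ Subgroup.centralizer {x})) := by
  obtain ⟨a, ha, rfl⟩ := h
  refine ⟨(MulEquiv.subgroupCongr ?_).trans ((H ⊓ Subgroup.centralizer {x}).equivMapOfInjective
    (MulAut.conj a).toMonoidHom (MulAut.conj a).injective).symm⟩
  ext z
  constructor
  · intro hzz
    obtain ⟨hz, hz'⟩ := Subgroup.mem_inf.1 hzz
    rw [Subgroup.mem_centralizer_singleton_iff] at hz'
    refine ⟨a⁻¹ * z * a, Subgroup.mem_inf.2 ⟨mul_mem (mul_mem (inv_mem ha) hz) ha, ?_⟩, by simp [mul_assoc]⟩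
    rw [Subgroup.mem_centralizer_singleton_iff]
    calc a⁻¹ * z * a * x = a⁻¹ * (z * (a * x * a⁻¹)) * a := by group
      _ = x * (a⁻¹ * z * a) := by rw [hz']; group
  · rintro ⟨w, hww, rfl⟩
    obtain ⟨hw, hw'⟩ := Subgroup.mem_inf.1 hww
    rw [Subgroup.mem_centralizer_singleton_iff] at hw'
    refine Subgroup.mem_inf.2 ⟨mul_mem (mul_mem ha hw) (inv_mem ha), ?_⟩
    rw [Subgroup.mem_centralizer_singleton_iff]
    show a * w * a⁻¹ * (a * x * a⁻¹) = a * x * a⁻¹ * (a * w * a⁻¹)
    calc a * w * a⁻¹ * (a * x * a⁻¹) = a * (w * x) * a⁻¹ := by group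
      _ = a * x * a⁻¹ * (a * w * a⁻¹) := by rw [hw']; group

theorem cyclic_index_sup {A : Type*} [CommGroup A] [Finite A] [IsCyclic A] (H K : Subgroup A) :
    (H ⊔ K).index = Nat.gcd H.index K.index := by
  have hrange : ∀ L : Subgroup A, L = (powMonoidHom L.index : A →* A).range := fun L => by
    symm
    refine Subgroup.eq_of_le_of_card_ge ?_ ?_
    · rintro _ ⟨a, rfl⟩
      exact Subgroup.pow_index_mem L a
    · have h1 := L.index_mul_card
      have h2 := (powMonoidHom L.index : A →* A).range.index_mul_card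
      rw [IsCyclic.index_powMonoidHom_range, Nat.gcd_eq_right L.index_dvd_card] at h2
      have h0 : 0 < L.index := Nat.pos_of_ne_zero Subgroup.index_ne_zero_of_finite
      exact (Nat.eq_of_mul_eq_mul_left h0 (h1.trans h2.symm)).le
  refine Nat.dvd_antisymm (Nat.dvd_gcd (Subgroup.index_dvd_of_le le_sup_left) (Subgroup.index_dvd_of_le le_sup_right)) ?_
  set d := Nat.gcd H.index K.index with hd
  have hle : H ⊔ K ≤ (powMonoidHom d : A →* A).range := by
    refine sup_le ?_ ?_
    · conv_lhs => rw [hrange H]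
      rintro _ ⟨a, rfl⟩
      obtain ⟨t, ht⟩ : d ∣ H.index := Nat.gcd_dvd_left _ _
      exact ⟨a ^ t, by simp [powMonoidHom_apply, ← pow_mul, mul_comm, ht]⟩
    · conv_lhs => rw [hrange K]
      rintro _ ⟨a, rfl⟩
      obtain ⟨t, ht⟩ : d ∣ K.index := Nat.gcd_dvd_right _ _
      exact ⟨a ^ t, by simp [powMonoidHom_apply, ← pow_mul, mul_comm, ht]⟩
  have h1 := Subgroup.index_dvd_of_le hle
  rwa [IsCyclic.index_powMonoidHom_range,
    Nat.gcd_eq_right ((Nat.gcd_dvd_left _ _).trans H.index_dvd_card)] at h1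

theorem eq_of_orderOf_two {A : Type*} [Group A] [Finite A] [IsCyclic A] {a b : A} (ha : orderOf a = 2)
    (hb : orderOf b = 2) : a = b := by
  classical
  haveI := Fintype.ofFinite A
  by_contra hne
  have h1 := IsCyclic.card_pow_eq_one_le (α := A) (n := 2) two_pos
  have h2 : ({1, a, b} : Finset A) ⊆ Finset.univ.filter fun x => x ^ 2 = 1 := by
    intro x hx
    simp only [Finset.mem_insert, Finset.mem_singleton] at hx
    rw [Finset.mem_filter]
    refine ⟨Finset.mem_univ _, ?_⟩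
    rcases hx with rfl | rfl | rfl
    · exact one_pow 2
    · rw [← ha]; exact pow_orderOf_eq_one _
    · rw [← hb]; exact pow_orderOf_eq_one _
  have h3 := (Finset.card_le_card h2).trans h1
  have ha1 : a ≠ 1 := fun h => by rw [h, orderOf_one] at ha; omega
  have hb1 : b ≠ 1 := fun h => by rw [h, orderOf_one] at hb; omega
  have h4 : ({1, a, b} : Finset A).card = 3 :=
    Finset.card_eq_three.2 ⟨1, a, b, ha1.symm, hb1.symm, hne, rfl⟩
  omega

variable {n : ℕ} {F : Type*} [Field F]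

theorem conjA_mem (g : GL (Fin n) F) : conjA g ∈ inndiagPSL n F := by
  rw [inndiagPSL_eq]; exact ⟨g, rfl⟩

/-- Splitting of a class in terms of determinants. -/
theorem split_eq_det_index [Finite F] (p : ℕ) [Fact p.Prime] [CharP F p] (hn : 2 ≤ n)
    (x0 : MulAut (PSLn n F)) (S : Subgroup (GL (Fin n) F))
    (hS : S.map conjA = inndiagPSL n F ⊓ Subgroup.centralizer {x0}) :
    splitClassCount (inndiagPSL n F) (Cfsg.Inn (PSLn n F)) x0 =
      ((powMonoidHom n : Fˣ →* Fˣ).range ⊔ S.map Matrix.GeneralLinearGroup.det).index := by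
  haveI : Nonempty (Fin n) := ⟨⟨0, by omega⟩⟩
  rw [splitClassCount_eq_relIndex _ _ inn_le_inndiag, ← hS, inndiagPSL_eq, ← Subgroup.index_comap]
  have e1 : Cfsg.Inn (PSLn n F) = (Matrix.SpecialLinearGroup.toGL (n := Fin n) (R := F)).range.map conjA := by
    show (MulAut.conj : PSLn n F →* MulAut (PSLn n F)).range = _
    rw [conj_range_eq, MonoidHom.range_comp]
  rw [e1, ← Subgroup.map_sup, Subgroup.comap_map_eq, ker_conjA p hn,
    ← Subgroup.index_map_eq (f := (Matrix.GeneralLinearGroup.det : GL (Fin n) F →* Fˣ)) _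
      Matrix.GeneralLinearGroup.det_surjective
      (le_sup_of_le_left (le_sup_of_le_left (le_of_eq Classical.range_toGL_eq_ker_det.symm)))]
  congr 1
  rw [Subgroup.map_sup, Subgroup.map_sup, Classical.range_toGL_eq_ker_det,
    (Subgroup.map_eq_bot_iff _).2 le_rfl, bot_sup_eq, sup_comm,
    Matrix.GeneralLinearGroup.center_eq_range_scalar, MonoidHom.map_range]
  congr 1
  congr 1
  ext a
  simp

/-- The centralizer as a quotient of a matrix group. -/
theorem centralizer_iso [Finite F] (p : ℕ) [Fact p.Prime] [CharP F p] (hn : 2 ≤ n)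
    {A : Type*} [Group A] (φ : A →* GL (Fin n) F) (N : Subgroup A) [N.Normal]
    (hN : (Subgroup.center (GL (Fin n) F)).comap φ = N) {x0 : MulAut (PSLn n F)}
    (hS : φ.range.map conjA = inndiagPSL n F ⊓ Subgroup.centralizer {x0}) :
    Nonempty (↥(inndiagPSL n F ⊓ Subgroup.centralizer {x0}) ≃* A ⧸ N) := by
  have hk : (conjA.comp φ).ker = N := by rw [← MonoidHom.comap_ker, ker_conjA p hn, hN]
  refine ⟨((MulEquiv.subgroupCongr hS.symm).trans (MulEquiv.subgroupCongr (MonoidHom.map_range _ _))).trans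
    ((QuotientGroup.quotientKerEquivRange _).symm.trans (QuotientGroup.quotientMulEquivOfEq hk))⟩

section Reduce

variable [Fintype F] {p f : ℕ} [Fact p.Prime]

theorem gal_comm (hf : 1 ≤ f) (hF : Fintype.card F = p ^ f) (σ τ : F ≃+* F) : Commute σ τ := by
  obtain ⟨hc, -⟩ := card_gal (F := F) hf hF
  obtain ⟨g, hg⟩ := hc.exists_generator
  obtain ⟨a, rfl⟩ := hg σ
  obtain ⟨b, rfl⟩ := hg τ
  exact (Commute.refl g).zpow_zpow a b

/-- A conjugate of a standard automorphism is an inner-diagonal conjugate of it. -/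
theorem conjUnder_of_conj (hf : 1 ≤ f) (hF : Fintype.card F = p ^ f) (hn : 2 ≤ n)
    {α x x0 : MulAut (PSLn n F)} (h : α * x * α⁻¹ = x0) {σ : F ≃+* F}
    (h0 : x0 = fieldA σ ∨ (3 ≤ n ∧ x0 = fieldA σ * iotaA)) : IsConjUnder (inndiagPSL n F) x0 x := by
  haveI : CharP F p := charP_of_card hF
  haveI := inndiag_normal (F := F) p hn
  obtain ⟨a, τ, γ, hγ, rfl⟩ := exists_decomp_all p hn α
  have hc1 : Commute (fieldA τ) (fieldA σ : MulAut (PSLn n F)) := (gal_comm hf hF τ σ).map _
  have hi : ∀ s : F ≃+* F, Commute (iotaA (n := n)) (fieldA s) := fun s => fieldA_iota s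
  have hJ : Commute (fieldA τ * γ) x0 := by
    rcases h0 with rfl | ⟨-, rfl⟩ <;> rcases hγ with rfl | ⟨rfl, -⟩
    · rw [mul_one]; exact hc1
    · exact hc1.mul_left (hi σ)
    · rw [mul_one]; exact hc1.mul_right (hi τ).symm
    · exact (hc1.mul_right (hi τ).symm).mul_left ((hi σ).mul_right (Commute.refl _))
  set J := fieldA τ * γ with hJd
  refine ⟨J⁻¹ * (conjA a)⁻¹ * J⁻¹⁻¹, Subgroup.Normal.conj_mem inferInstance _ (inv_mem (conjA_mem a)) _, ?_⟩
  have hx : x = J⁻¹ * (conjA a)⁻¹ * x0 * (conjA a) * J := by rw [← h, hJd]; group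
  rw [hx]
  calc J⁻¹ * (conjA a)⁻¹ * x0 * conjA a * J
      = J⁻¹ * (conjA a)⁻¹ * (J * x0 * J⁻¹) * conjA a * J := by rw [hJ.eq, mul_inv_cancel_right]
    _ = J⁻¹ * (conjA a)⁻¹ * J⁻¹⁻¹ * x0 * (J⁻¹ * (conjA a)⁻¹ * J⁻¹⁻¹)⁻¹ := by group

theorem fieldA_injective (p : ℕ) [Fact p.Prime] [CharP F p] (hn : 2 ≤ n) :
    Function.Injective (fieldA (n := n) (F := F)) :=
  (injective_iff_map_eq_one _).2 fun σ h =>
    (eq_one_of_conj_field p hn (g := 1) (σ := σ) (by rw [map_one, one_mul, h])).1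

theorem graphField_order (p : ℕ) [Fact p.Prime] [CharP F p] (hn : 3 ≤ n) {σ : F ≃+* F} (hσ : σ ≠ 1) {r : ℕ}
    (hr : r.Prime) (h : orderOf (fieldA σ * iotaA : MulAut (PSLn n F)) = r) : r = 2 ∧ orderOf σ = 2 := by
  have hpow := pow_orderOf_eq_one (fieldA σ * iotaA : MulAut (PSLn n F))
  rw [h, (show Commute (fieldA σ) (iotaA (n := n) (F := F)) from (fieldA_iota σ).symm).mul_pow, ← map_pow] at hpow
  have hr2 : r = 2 := by
    rcases hr.eq_two_or_odd' with h2 | ⟨k, hk⟩
    · exact h2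
    · exfalso
      rw [hk, pow_add (iotaA (n := n)), pow_mul, pow_two, iotaA_mul_self, one_pow, one_mul, pow_one] at hpow
      exact field_iota_notMem p hn (by rw [hpow]; exact one_mem _)
  subst hr2
  rw [pow_two (iotaA (n := n)), iotaA_mul_self, mul_one] at hpow
  exact ⟨rfl, orderOf_eq_prime (fieldA_injective p (by omega) (hpow.trans (map_one _).symm)) hσ⟩

theorem coboundary_field (p : ℕ) [Fact p.Prime] [CharP F p] (hn : 2 ≤ n) {σ : F ≃+* F} {r : ℕ}
    (hσ : orderOf σ = r) (g : GL (Fin n) F) (h : (conjA g * fieldA σ) ^ r = 1) :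
    IsConjUnder (inndiagPSL n F) (fieldA σ) (conjA g * fieldA σ) := by
  have hσr : σ ^ r = 1 := by rw [← hσ]; exact pow_orderOf_eq_one σ
  rw [conjA_field_pow, hσr, map_one, mul_one, conjA_eq_one_iff p hn] at h
  obtain ⟨a, k, rfl⟩ := exists_coboundary (by omega) hσ g h
  refine ⟨conjA k, conjA_mem k, ?_⟩
  have hz : conjA (Matrix.GeneralLinearGroup.scalar (Fin n) a) = (1 : MulAut (PSLn n F)) :=
    center_le_ker _ (by rw [Matrix.GeneralLinearGroup.center_eq_range_scalar]; exact ⟨a, rfl⟩)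
  rw [map_mul, hz, one_mul, map_mul, mul_assoc _ (fieldA σ), ← map_inv conjA k, conjA_field, map_inv (fieldGL σ),
    mul_assoc]

end Reduce

section GraphField

variable [Finite F] (p : ℕ) [Fact p.Prime] [CharP F p]

omit [Finite F] in
theorem scalar_coe (c : Fˣ) :
    (Matrix.GeneralLinearGroup.scalar (Fin n) c : Matrix (Fin n) (Fin n) F) = Matrix.scalar (Fin n) (c : F) := rfl

include p in
theorem coboundary_graph (hn : 3 ≤ n) {σ : F ≃+* F} (hσ : orderOf σ = 2) (g : GL (Fin n) F)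
    (h : (conjA g * (fieldA σ * iotaA)) ^ 2 = 1) :
    IsConjUnder (inndiagPSL n F) (fieldA σ * iotaA) (conjA g * (fieldA σ * iotaA)) := by
  have h2 : ∀ x, σ (σ x) = x := fun x => by
    have := pow_orderOf_eq_one σ
    rw [hσ, pow_two] at this
    exact RingEquiv.congr_fun this x
  have hσσ : σ * σ = 1 := RingEquiv.ext h2
  have key : ∀ k : GL (Fin n) F,
      (fieldA σ * iotaA) * conjA k = conjA (fieldGL σ (itGL k)) * (fieldA σ * iotaA) := fun k => by
    rw [mul_assoc, conjA_iota, ← mul_assoc, conjA_field, mul_assoc]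
  have h1 : conjA (g * fieldGL σ (itGL g)) = (1 : MulAut (PSLn n F)) := by
    have hsq : (fieldA σ * iotaA : MulAut (PSLn n F)) * (fieldA σ * iotaA) = 1 := by
      rw [show fieldA σ * iotaA * (fieldA σ * iotaA) = fieldA σ * (iotaA * fieldA σ) * iotaA by group, fieldA_iota,
        show fieldA σ * (fieldA σ * iotaA) * iotaA = fieldA σ * fieldA σ * (iotaA * iotaA) by group, iotaA_mul_self,
        mul_one, ← map_mul, hσσ, map_one]
    rw [← h, pow_two, mul_assoc (conjA g), ← mul_assoc (fieldA σ * iotaA) (conjA g), key,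
      mul_assoc (conjA (fieldGL σ (itGL g))), hsq, mul_one, ← map_mul]
  rw [conjA_eq_one_iff p (by omega), Matrix.GeneralLinearGroup.center_eq_range_scalar] at h1
  obtain ⟨c, hc⟩ := h1
  have hinv : fieldGL σ (itGL g) * fieldGL σ (itGL g⁻¹) = 1 := by
    rw [← map_mul]
    conv_rhs => rw [← map_one (fieldGL σ)]
    congr 1
    refine Units.ext ?_
    show ((g⁻¹ : GL (Fin n) F) : Matrix (Fin n) (Fin n) F)ᵀ * ((g⁻¹⁻¹ : GL (Fin n) F) : Matrix (Fin n) (Fin n) F)ᵀ = 1
    rw [← Matrix.transpose_mul, inv_inv, Units.mul_inv, Matrix.transpose_one]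
  have hg : g = Matrix.GeneralLinearGroup.scalar (Fin n) c * fieldGL σ (itGL g⁻¹) := by
    rw [hc, mul_assoc, hinv, mul_one]
  have hmat : ((g : Matrix (Fin n) (Fin n) F)ᵀ).map σ = (c⁻¹ : F) • (g : Matrix (Fin n) (Fin n) F) := by
    have hv := congrArg Units.val hg
    rw [Units.val_mul, scalar_coe, Matrix.scalar_apply, ← Matrix.smul_one_eq_diagonal, Matrix.smul_mul,
      Matrix.one_mul] at hv
    have e : ((fieldGL σ (itGL g⁻¹) : GL (Fin n) F) : Matrix (Fin n) (Fin n) F) =
        ((g : Matrix (Fin n) (Fin n) F)ᵀ).map σ := by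
      show (((g⁻¹⁻¹ : GL (Fin n) F) : Matrix (Fin n) (Fin n) F)ᵀ).map σ = _
      rw [inv_inv]
    rw [e] at hv
    conv_rhs => rw [hv]
    rw [smul_smul, inv_mul_cancel₀ c.ne_zero, one_smul]
  have hcc : (c : F) * σ c = 1 := by
    have h3 : ((((g : Matrix (Fin n) (Fin n) F)ᵀ).map σ)ᵀ).map σ =
        (σ (c⁻¹ : F) * (c⁻¹ : F)) • (g : Matrix (Fin n) (Fin n) F) := by
      rw [hmat, Matrix.transpose_smul, show ((c⁻¹ : F) • (g : Matrix (Fin n) (Fin n) F)ᵀ).map σ =
        σ (c⁻¹ : F) • ((g : Matrix (Fin n) (Fin n) F)ᵀ).map σ from Matrix.ext fun i j => map_mul σ _ _, hmat,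
        smul_smul]
    have h4 : ((((g : Matrix (Fin n) (Fin n) F)ᵀ).map σ)ᵀ).map σ = (g : Matrix (Fin n) (Fin n) F) :=
      Matrix.ext fun i j => h2 _
    rw [h4] at h3
    obtain ⟨i, j, hij⟩ : ∃ i j, (g : Matrix (Fin n) (Fin n) F) i j ≠ 0 := by
      by_contra hc'
      push Not at hc'
      exact Matrix.GeneralLinearGroup.det_ne_zero g (Matrix.det_eq_zero_of_row_eq_zero ⟨0, by omega⟩ (hc' _))
    have h5 : (g : Matrix (Fin n) (Fin n) F) i j = σ (c⁻¹ : F) * (c⁻¹ : F) * (g : Matrix (Fin n) (Fin n) F) i j :=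
      congrFun (congrFun h3 i) j
    have h6 : σ (c⁻¹ : F) * (c⁻¹ : F) = 1 := mul_right_cancel₀ hij (h5.symm.trans (one_mul _).symm)
    rw [map_inv₀] at h6
    field_simp at h6
    linear_combination -h6
  obtain ⟨k, hk⟩ := hilbert90 (n := 1) hσ two_pos (Matrix.GeneralLinearGroup.scalar (Fin 1) c) (by
    show Matrix.GeneralLinearGroup.scalar (Fin 1) c * fieldGL σ
      (Matrix.GeneralLinearGroup.scalar (Fin 1) c * fieldGL σ 1) = 1
    rw [map_one, mul_one, fieldGL_scalar, ← map_mul, ← map_one (Matrix.GeneralLinearGroup.scalar (Fin 1))]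
    congr 1
    exact Units.ext hcc)
  set a := (k : Matrix (Fin 1) (Fin 1) F) 0 0
  have ha : a ≠ 0 := by
    intro h0
    exact Matrix.GeneralLinearGroup.det_ne_zero k (by rw [Matrix.det_fin_one]; exact h0)
  have hca : (c : F) * σ a = a := by
    have h7 := congrArg Units.val (eq_mul_inv_iff_mul_eq.1 hk)
    have h8 := congrFun (congrFun h7 0) 0
    simpa [Matrix.mul_apply, fieldGL_coe, a] using h8
  let G : Matrix (Fin n) (Fin n) F := a⁻¹ • (g : Matrix (Fin n) (Fin n) F)
  obtain ⟨h', hh'⟩ := hermitian_exists hσ G (by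
    rw [Matrix.det_smul]
    exact mul_ne_zero (pow_ne_zero _ (inv_ne_zero ha)) (Matrix.GeneralLinearGroup.det_ne_zero g)) (by
    show (a⁻¹ • (g : Matrix (Fin n) (Fin n) F))ᵀ.map σ = _
    rw [Matrix.transpose_smul, show (a⁻¹ • (g : Matrix (Fin n) (Fin n) F)ᵀ).map σ =
      σ a⁻¹ • ((g : Matrix (Fin n) (Fin n) F)ᵀ).map σ from Matrix.ext fun i j => map_mul σ _ _, hmat, smul_smul,
      map_inv₀, ← mul_inv, mul_comm, hca])
  refine ⟨conjA h', conjA_mem h', ?_⟩
  rw [mul_assoc (conjA h'), ← map_inv, key, ← mul_assoc (conjA h') (conjA (fieldGL σ (itGL h'⁻¹))) (fieldA σ * iotaA), ← map_mul]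
  congr 1
  have e : g = Matrix.GeneralLinearGroup.scalar (Fin n) (Units.mk0 a ha) * (h' * fieldGL σ (itGL h'⁻¹)) := by
    refine Units.ext ?_
    rw [Units.val_mul, Units.val_mul, scalar_coe, Units.val_mk0, Matrix.scalar_apply, ← Matrix.smul_one_eq_diagonal,
      Matrix.smul_mul, Matrix.one_mul]
    show _ = a • ((h' : Matrix (Fin n) (Fin n) F) *
      (((h'⁻¹⁻¹ : GL (Fin n) F) : Matrix (Fin n) (Fin n) F)ᵀ).map σ)
    rw [inv_inv, ← hh', smul_smul, mul_inv_cancel₀ ha, one_smul]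
  rw [e, map_mul, center_le_ker _ (by
    rw [Matrix.GeneralLinearGroup.center_eq_range_scalar]; exact ⟨_, rfl⟩), one_mul]

end GraphField

end Cfsg.Agent.AutPSL
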