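import Cfsg.Agent.AutPSL.BalanceGraph
import Cfsg.Agent.AutPSL.Classes

/-!
The criterion for failure of local balance in almost simple groups with linear socle.
-/

set_option autoImplicit false

namespace Cfsg.Agent.AutPSL

open Matrix

theorem balance {F : Type*} [Field F] [Fintype F] (r : ℕ) [Fact r.Prime] [CharP F r] {n : ℕ} (hn : 2 ≤ n)
    [IsSimpleGroup (PSLn n F)] (A : Subgroup (MulAut (PSLn n F))) (hinn : ∀ k : PSLn n F, MulAut.conj k ∈ A)
    {p : ℕ} (hp : p.Prime) (hpr : p ≠ r) (x : MulAut (PSLn n F)) (hord : orderOf x = p)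
    (hnot : ¬ Cfsg.IsInnerDiagonalAutPSL x) :
    Cfsg.pPrimeCore p ↥(A ⊓ Subgroup.centralizer {x}) ≠ ⊥ ↔
      ((∃ γ φ : MulAut (PSLn n F), Cfsg.IsInnerDiagonalAutPSL γ ∧ Cfsg.IsFieldAutPSL φ ∧ x = φ.trans γ) ∧
        Nat.Coprime p (Nat.card ↥(MonoidHom.eqLocus x.toMonoidHom (MonoidHom.id (PSLn n F))))) := by
  classical
  haveI := LocalBalance.finite_mulAut (K := PSLn n F)
  haveI : NeZero n := ⟨by omega⟩
  have hinj := conj_injective (F := F) r hn
  let i₀ : Fin n := ⟨0, by omega⟩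
  let i₁ : Fin n := ⟨1, by omega⟩
  have h01 : i₀ ≠ i₁ := by simp [i₀, i₁]
  have hnil : ¬ Group.IsNilpotent (PSLn n F) := by
    refine (LocalBalance.conj_injective_of_simple (a := mkP (xr h01 (1 : F))) (b := mkP (xr h01.symm 1)) fun h => ?_).2
    have h2 := congrArg (fun s : SLn n F => (s : Matrix (Fin n) (Fin n) F) i₀ i₀)
      (commute_of_mkP r (xr_pow r h01 (1 : F)) h).eq
    simp [Matrix.SpecialLinearGroup.transvection_coe, Matrix.add_mul, Matrix.mul_add, h01, h01.symm] at h2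
  have hA : LocalBalance.innR (PSLn n F) ≤ A := by rintro _ ⟨k, rfl⟩; exact hinn k
  obtain ⟨g, σ, γ, hγ, rfl⟩ := exists_decomp_all r hn x
  rcases hγ with rfl | ⟨rfl, hn3⟩
  · rw [mul_one] at hord hnot ⊢
    have hσ1 : σ ≠ 1 := fun h => hnot (isInnerDiagonal_iff.2 ⟨g, by rw [h, map_one, mul_one]⟩)
    have hpow : (conjA g * fieldA σ : MulAut (PSLn n F)) ^ p = 1 := hord ▸ pow_orderOf_eq_one _
    have hσp : orderOf σ = p := by
      refine @orderOf_eq_prime _ _ _ p ⟨hp⟩ ?_ hσ1
      rw [conjA_field_pow] at hpow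
      exact (eq_one_of_conj_field r hn hpow).1
    have htype : ∃ γ φ : MulAut (PSLn n F), Cfsg.IsInnerDiagonalAutPSL γ ∧ Cfsg.IsFieldAutPSL φ ∧
        (conjA g * fieldA σ : MulAut (PSLn n F)) = φ.trans γ :=
      ⟨conjA g, fieldA σ, isInnerDiagonal_iff.2 ⟨g, rfl⟩, ⟨σ, (isStdField_iff (σ := σ)).2 rfl⟩, rfl⟩
    rw [and_iff_right htype]
    obtain ⟨a, -, ha⟩ := coboundary_field r hn hσp g hpow
    refine LocalBalance.core_ne_bot_iff_coprime hinj hnil hp hord hA fun hdvd => ?_
    rw [ha] at hdvd ⊢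
    rw [LocalBalance.card_fixed_conj] at hdvd
    exact (witness_field r hn hp hpr hσp hdvd).conj a
  · have hno : ¬ ∃ γ φ : MulAut (PSLn n F), Cfsg.IsInnerDiagonalAutPSL γ ∧ Cfsg.IsFieldAutPSL φ ∧
        (conjA g * fieldA σ * iotaA : MulAut (PSLn n F)) = φ.trans γ := by
      rintro ⟨γ, φ, hγ, ⟨τ, hτ⟩, he⟩
      obtain ⟨k, rfl⟩ := isInnerDiagonal_iff.1 hγ
      obtain rfl : φ = fieldA τ := (isStdField_iff (σ := τ)).1 hτ
      have he' : (conjA g * fieldA σ * iotaA : MulAut (PSLn n F)) = conjA k * fieldA τ := he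
      refine conj_field_ne_iota r hn3 (g := fieldGL τ⁻¹ (k⁻¹ * g)) (σ := τ⁻¹ * σ) ?_
      rw [map_mul (fieldA (n := n) (F := F)), ← mul_assoc (conjA _) (fieldA τ⁻¹), ← conjA_field, map_inv fieldA,
        map_mul conjA, map_inv conjA]
      rw [show (fieldA τ : MulAut (PSLn n F))⁻¹ * ((conjA k)⁻¹ * conjA g) * fieldA σ * iotaA =
        (fieldA τ)⁻¹ * (conjA k)⁻¹ * (conjA g * fieldA σ * iotaA) by group, he']
      group
    refine ⟨fun hne => absurd ?_ hne, fun h => absurd h.1 hno⟩
    have hpow : (conjA g * fieldA σ * iotaA : MulAut (PSLn n F)) ^ p = 1 := hord ▸ pow_orderOf_eq_one _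
    have hsq : (conjA g * fieldA σ * iotaA : MulAut (PSLn n F)) ^ 2 =
        conjA (g * fieldGL σ (itGL g)) * fieldA (σ * σ) := by
      rw [pow_two]
      calc conjA g * fieldA σ * iotaA * (conjA g * fieldA σ * iotaA)
          = conjA g * fieldA σ * (iotaA * conjA g) * fieldA σ * iotaA := by group
        _ = conjA g * (fieldA σ * conjA (itGL g)) * (iotaA * fieldA σ) * iotaA := by rw [conjA_iota]; group
        _ = conjA g * conjA (fieldGL σ (itGL g)) * fieldA σ * fieldA σ * (iotaA * iotaA) := by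
          rw [conjA_field, fieldA_iota]; group
        _ = _ := by rw [iotaA_mul_self, mul_one, ← map_mul, mul_assoc, ← map_mul]
    have hp2 : p = 2 := by
      rcases hp.eq_two_or_odd' with h | ⟨j, hj⟩
      · exact h
      exfalso
      rw [hj, pow_succ, pow_mul, hsq, conjA_field_pow] at hpow
      refine conj_field_ne_iota r hn3 (g := twN (σ * σ) (g * fieldGL σ (itGL g)) j * fieldGL ((σ * σ) ^ j) g)
        (σ := (σ * σ) ^ j * σ) ?_
      rw [map_mul conjA, map_mul fieldA, mul_assoc _ (conjA (fieldGL _ g)), ← mul_assoc (conjA (fieldGL _ g)),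
        ← conjA_field, ← hpow]
      group
    subst hp2
    have h2r : r ≠ 2 := fun h => hpr h.symm
    have h2F : (2 : F) ≠ 0 := Ring.two_ne_zero (R := F) (by rw [ringChar.eq F r]; exact h2r)
    rw [hsq] at hpow
    obtain ⟨hσ2, hg⟩ := eq_one_of_conj_field r hn hpow
    refine LocalBalance.core_eq_bot hord ?_ hA
    by_cases hσ : σ = 1
    · subst hσ
      rw [map_one, mul_one]
      rw [fieldGL_one, center_gl_iff] at hg
      obtain ⟨c, hc⟩ := hg
      have hgT : (g : Matrix (Fin n) (Fin n) F) = (c : F) • (g : Matrix (Fin n) (Fin n) F)ᵀ := by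
        have h1 : (g : Matrix (Fin n) (Fin n) F) * ((g⁻¹ : GL (Fin n) F) : Matrix (Fin n) (Fin n) F)ᵀ *
            (g : Matrix (Fin n) (Fin n) F)ᵀ = g := by
          rw [Matrix.mul_assoc, ← Matrix.transpose_mul, Units.mul_inv, Matrix.transpose_one, Matrix.mul_one]
        refine h1.symm.trans ?_
        rw [show (g : Matrix (Fin n) (Fin n) F) * ((g⁻¹ : GL (Fin n) F) : Matrix (Fin n) (Fin n) F)ᵀ =
          Matrix.scalar (Fin n) (c : F) from hc, Matrix.scalar_apply, ← Matrix.smul_one_eq_diagonal, Matrix.smul_mul,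
          Matrix.one_mul]
      have hcc : (c : F) * c = 1 := by
        by_contra hne
        refine Matrix.GeneralLinearGroup.det_ne_zero g (Matrix.det_eq_zero_of_row_eq_zero i₀ fun j => ?_)
        have e1 := congrFun (congrFun hgT i₀) j
        have e2 := congrFun (congrFun hgT j) i₀
        rw [Matrix.smul_apply, Matrix.transpose_apply, smul_eq_mul] at e1 e2
        rw [e2, ← mul_assoc] at e1
        exact (mul_eq_zero.1 (show ((c : F) * c - 1) * (g : Matrix (Fin n) (Fin n) F) i₀ j = 0 by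
          linear_combination -e1)).resolve_left (sub_ne_zero.2 hne)
      rcases mul_self_eq_one_iff.1 hcc with h | h
      · rw [h, one_smul] at hgT
        exact witness_orth r hn3 h2F hgT.symm
      · rw [h] at hgT
        refine witness_symp r hn3 h2F ?_
        conv_rhs => rw [hgT]
        simp
    · have hσo : orderOf σ = 2 := orderOf_eq_prime (by rw [pow_two]; exact hσ2) hσ
      have hpow2 : (conjA g * (fieldA σ * iotaA) : MulAut (PSLn n F)) ^ 2 = 1 := by
        rw [← mul_assoc, hsq]; exact hpow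
      obtain ⟨a, -, ha⟩ := coboundary_graph r hn3 hσo g hpow2
      rw [mul_assoc, ha]
      exact (witness_graphField r hn3 hσo h2r).conj a

end Cfsg.Agent.AutPSL
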