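import Cfsg.Agent.AutPSL.UnitaryFix
import Cfsg.Agent.AutPSU.Structure
import Cfsg.Agent.LocalBalance.Range
import Cfsg.Agent.Classical.UnitaryGroup

/-!
Witnesses for field and graph-field automorphisms of PSL_n.
-/

set_option autoImplicit false

namespace Cfsg.Agent.AutPSL

open Matrix

variable {n : ℕ} {F : Type*} [Field F]

theorem xr_map {F₀ : Type*} [Field F₀] (i : F₀ →+* F) {k l : Fin n} (hkl : k ≠ l) (t : F₀) :
    Matrix.SpecialLinearGroup.map i (xr hkl t) = xr hkl (i t) := by
  refine sl_ext ?_
  show ((xr hkl t : SLn n F₀) : Matrix (Fin n) (Fin n) F₀).map i = _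
  rw [Matrix.SpecialLinearGroup.transvection_coe, Matrix.SpecialLinearGroup.transvection_coe,
    Matrix.map_add _ (fun x y => map_add _ x y), Matrix.map_one _ (map_zero _) (map_one _), Matrix.map_single]

theorem swap_conj (x : MulAut (PSLn n F)) (k : PSLn n F) : x * MulAut.conj k = MulAut.conj (x k) * x :=
  MulEquiv.ext fun t => by simp [MulAut.conj_apply, MulAut.mul_apply]

theorem scalar_of_mem_center {s : SLn n F} (hs : s ∈ Subgroup.center (SLn n F)) :
    ∃ r : F, (s : Matrix (Fin n) (Fin n) F) = Matrix.scalar (Fin n) r := by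
  obtain ⟨r, -, hr⟩ := Matrix.SpecialLinearGroup.mem_center_iff.1 hs
  exact ⟨r, hr.symm⟩

theorem conj_injective [Finite F] (p : ℕ) [Fact p.Prime] [CharP F p] (hn : 2 ≤ n) :
    Function.Injective (MulAut.conj : PSLn n F →* MulAut (PSLn n F)) :=
  (injective_iff_map_eq_one _).2 fun x hx => by
    obtain ⟨s, rfl⟩ := mkP_surjective x
    rw [← conjA_toGL, conjA_eq_one_iff p hn, Subgroup.mem_center_iff] at hx
    rw [mkP_eq_one_iff, Subgroup.mem_center_iff]
    intro t
    refine sl_ext ?_
    simpa using congrArg Units.val (hx (Matrix.SpecialLinearGroup.toGL t))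

/-- A prime dividing the order of GL_n and prime to the characteristic divides the order of PSL_n. -/
theorem dvd_card_psl {r : ℕ} {L : Type*} [Field L] [Fintype L] [CharP L r] (hn : 2 ≤ n) {p : ℕ} (hp : p.Prime) (hpr : p ≠ r)
    (hr : r.Prime) (h : p ∣ Nat.card (GL (Fin n) L)) : p ∣ Nat.card (PSLn n L) := by
  classical
  haveI : Nonempty (Fin n) := ⟨⟨0, by omega⟩⟩
  haveI := Fact.mk hp
  by_cases h1 : p ∣ Fintype.card L - 1
  · rw [← Classical.card_units_field] at h1
    obtain ⟨ζ, hζ⟩ := exists_prime_orderOf_dvd_card' p h1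
    let k : Fin n := ⟨0, by omega⟩
    let l : Fin n := ⟨1, by omega⟩
    have hkl : k ≠ l := by simp [k, l]
    by_cases hc : n = 2 ∧ p = 2
    · obtain ⟨rfl, rfl⟩ := hc
      let s : SLn 2 L := ⟨!![0, 1; -1, 0], by simp [Matrix.det_fin_two]⟩
      have hs1 : mkP s ≠ 1 := fun h0 => by
        obtain ⟨c, hc⟩ := scalar_of_mem_center (mkP_eq_one_iff.1 h0)
        simpa [s] using congrFun (congrFun hc 0) 1
      have hs2 : mkP s ^ 2 = 1 := by
        rw [← map_pow, mkP_eq_one_iff, Matrix.SpecialLinearGroup.mem_center_iff]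
        refine ⟨-1, by simp, ?_⟩
        rw [Matrix.SpecialLinearGroup.coe_pow, pow_two]
        ext u v; fin_cases u <;> fin_cases v <;> simp [s, Matrix.mul_apply, Fin.sum_univ_two]
      exact (dvd_of_eq (orderOf_eq_prime hs2 hs1).symm).trans (orderOf_dvd_natCard _)
    · let d : Fin n → Lˣ := fun j => if j = k then ζ else if j = l then ζ⁻¹ else 1
      let s : SLn n L := ⟨Matrix.diagonal fun j => (d j : L), by
        rw [Matrix.det_diagonal, ← Units.coe_prod, Finset.prod_eq_mul k l hkl
          (fun j _ hj => by simp [d, hj.1, hj.2]) (by simp) (by simp)]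
        simp [d, hkl.symm]⟩
      have hs1 : mkP s ≠ 1 := fun h0 => by
        obtain ⟨c, hc'⟩ := scalar_of_mem_center (mkP_eq_one_iff.1 h0)
        have ek := congrFun (congrFun hc' k) k
        have el := congrFun (congrFun hc' l) l
        simp [s, d, hkl.symm] at ek el
        have e2 : ζ⁻¹ = ζ := Units.ext (by rw [Units.val_inv_eq_inv_val]; exact el.trans ek.symm)
        have hp2 : p = 2 := by
          have : ζ ^ 2 = 1 := by rw [pow_two]; nth_rewrite 1 [← e2]; rw [inv_mul_cancel]
          have := orderOf_dvd_of_pow_eq_one this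
          rw [hζ] at this
          exact (Nat.prime_dvd_prime_iff_eq hp Nat.prime_two).1 this
        have hn3 : 3 ≤ n := by
          by_contra hlt
          exact hc ⟨by omega, hp2⟩
        let m : Fin n := ⟨2, by omega⟩
        have em := congrFun (congrFun hc' m) m
        simp [s, d, m, k, l, Fin.ext_iff] at em
        have h1' : ζ = 1 := Units.ext (by rw [ek, ← em, Units.val_one])
        rw [h1', orderOf_one] at hζ
        exact hp.one_lt.ne hζ
      have hs2 : mkP s ^ p = 1 := by
        rw [← map_pow, show s ^ p = 1 from sl_ext (by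
          rw [Matrix.SpecialLinearGroup.coe_pow, Matrix.diagonal_pow, Matrix.SpecialLinearGroup.coe_one,
            ← Matrix.diagonal_one]
          congr 1
          funext j
          have : d j ^ p = 1 := by
            by_cases hjk : j = k
            · simp [d, hjk, ← hζ, pow_orderOf_eq_one]
            · by_cases hjl : j = l
              · simp [d, hjl, hkl.symm, ← hζ, pow_orderOf_eq_one]
              · simp [d, hjk, hjl]
          simpa using congrArg Units.val this), map_one]
      exact (dvd_of_eq (orderOf_eq_prime hs2 hs1).symm).trans (orderOf_dvd_natCard _)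
  · rw [Classical.card_gl_eq_mul_card_sl] at h
    have h2 := (hp.dvd_mul.1 h).resolve_left h1
    rw [← Classical.card_psl_mul (ι := Fin n)] at h2
    exact (hp.dvd_mul.1 h2).resolve_left fun h3 => h1 (h3.trans (Nat.gcd_dvd_right _ _))

/-- The small cases have trivial core. -/
theorem core_small {r : ℕ} {L : Type*} [Field L] [Fintype L] [CharP L r] (hr : r.Prime) (hL : Fintype.card L = r)
    (hr23 : r = 2 ∨ r = 3) {p : ℕ} (hp : p.Prime) (hpr : p ≠ r) (hdvd : p ∣ Nat.card (PSLn 2 L))
    (M : Subgroup (PSLn 2 L)) (hM : M.Normal) (hc : (Nat.card M).Coprime p) : M = ⊥ := by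
  classical
  haveI := Fact.mk hr
  have hG : Nat.card (PSLn 2 L) = if r = 2 then 6 else 12 := by
    have h1 := Classical.card_psl_mul (ι := Fin 2) (F := L)
    have h2 := Classical.card_sl_mul hL 2 (by norm_num)
    rw [Fin.prod_univ_two] at h2
    rw [Fintype.card_fin, hL] at h1
    rcases hr23 with rfl | rfl
    · show Nat.card (Matrix.ProjectiveSpecialLinearGroup (Fin 2) L) = _
      norm_num [-Nat.card_eq_fintype_card] at h1 h2 ⊢; omega
    · show Nat.card (Matrix.ProjectiveSpecialLinearGroup (Fin 2) L) = _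
      norm_num [-Nat.card_eq_fintype_card] at h1 h2 ⊢; omega
  have hMdvd : Nat.card M ∣ r := by
    have h1 := Subgroup.card_subgroup_dvd_card M
    rw [hG] at h1 hdvd
    have h3 : ¬ p ∣ Nat.card M := hp.coprime_iff_not_dvd.1 hc.symm
    have hle := Nat.le_of_dvd (by split_ifs <;> norm_num) h1
    have hp' := hp.two_le
    have hple := Nat.le_of_dvd (by split_ifs <;> norm_num) hdvd
    rcases hr23 with rfl | rfl
    · norm_num [-Nat.card_eq_fintype_card] at h1 hdvd hle hple
      interval_cases p <;> (try omega) <;>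
      interval_cases hh : Nat.card M <;> simp_all (config := { decide := true }) <;> norm_num at hp
    · norm_num [-Nat.card_eq_fintype_card] at h1 hdvd hle hple
      interval_cases p <;> (try omega) <;>
      interval_cases hh : Nat.card M <;> simp_all (config := { decide := true }) <;> norm_num at hp
  rcases (Nat.dvd_prime hr).1 hMdvd with h1 | h1
  · exact Subgroup.card_eq_one.1 h1
  exfalso
  haveI : IsCyclic M := isCyclic_of_prime_card h1
  have hidx : M.index.Coprime r := by
    have h2 := M.card_mul_index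
    rw [hG, h1] at h2
    rcases hr23 with rfl | rfl <;> norm_num at h2
    · rw [show M.index = 3 by omega]; norm_num
    · rw [show M.index = 4 by omega]; norm_num
  haveI := hM
  have hmem : ∀ z : PSLn 2 L, z ^ r = 1 → z ∈ M := fun z hz => by
    rw [← QuotientGroup.eq_one_iff z, ← orderOf_eq_one_iff]
    refine Nat.eq_one_of_dvd_coprimes hidx (orderOf_dvd_natCard _) (orderOf_dvd_of_pow_eq_one ?_)
    rw [← QuotientGroup.mk_pow, hz, QuotientGroup.mk_one]
  have hx : ∀ (k l : Fin 2) (hkl : k ≠ l), mkP (xr hkl (1 : L)) ∈ M := fun k l hkl => hmem _ (by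
    rw [← map_pow, show r = r ^ 1 from (pow_one r).symm, xr_pow r, map_one])
  letI := IsCyclic.commGroup (α := M)
  have hcomm : Commute (mkP (xr (zero_ne_one : (0 : Fin 2) ≠ 1) (1 : L))) (mkP (xr (one_ne_zero : (1 : Fin 2) ≠ 0) 1)) :=
    congrArg Subtype.val (mul_comm (⟨_, hx _ _ _⟩ : M) ⟨_, hx _ _ _⟩)
  have h2 := congrArg (fun s : SLn 2 L => (s : Matrix (Fin 2) (Fin 2) L) 0 0)
    (commute_of_mkP r (xr_pow r (zero_ne_one : (0 : Fin 2) ≠ 1) 1) hcomm).eq
  simp [Matrix.SpecialLinearGroup.transvection_coe, Matrix.mul_apply, Fin.sum_univ_two] at h2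

variable [Finite F] (r : ℕ) [Fact r.Prime] [CharP F r]
include r

/-- What centralises the transvections of a subfield. -/
theorem fix_subfield (hn : 2 ≤ n) {F₀ : Type*} [Field F₀] (i : F₀ →+* F) {y : MulAut (PSLn n F)}
    (h : ∀ (k l : Fin n) (hkl : k ≠ l) (t : F₀), y (mkP (xr hkl (i t))) = mkP (xr hkl (i t))) :
    ∃ τ : F ≃+* F, y = fieldA τ ∧ ∀ t, τ (i t) = i t := by
  haveI : NeZero n := ⟨by omega⟩
  obtain ⟨a, τ, γ, hγ, rfl⟩ := exists_decomp_all r hn y
  rcases hγ with rfl | ⟨rfl, hn3⟩
  · simp only [mul_one] at h ⊢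
    have key : ∀ (k l : Fin n), k ≠ l → ∀ t : F₀,
        (a : Matrix (Fin n) (Fin n) F) * Matrix.single k l (τ (i t)) =
          Matrix.single k l (i t) * (a : Matrix (Fin n) (Fin n) F) := fun k l hkl t => by
      refine single_eq_of_conj r (hij := hkl) (hkl := hkl) ?_
      have := h k l hkl t
      rwa [MulAut.mul_apply, fieldA_mkP, fieldA_xr r, conjA_mkP] at this
    set A := (a : Matrix (Fin n) (Fin n) F)
    have other : ∀ k : Fin n, ∃ l, k ≠ l := fun k => by
      obtain ⟨l, hl⟩ := Fintype.exists_ne_of_one_lt_card (α := Fin n) (by simp; omega) k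
      exact ⟨l, hl.symm⟩
    have hoff : ∀ u k : Fin n, u ≠ k → A u k = 0 := fun u k huk => by
      obtain ⟨l, hkl⟩ := other k
      have := congrFun (congrFun (key k l hkl 1) u) l
      rwa [map_one, map_one, Matrix.mul_single_apply_same, Matrix.single_mul_apply_of_ne _ _ _ _ _ huk, mul_one] at this
    have hdiag : ∀ (k l : Fin n), k ≠ l → ∀ t, A k k * τ (i t) = i t * A l l := fun k l hkl t => by
      have := congrFun (congrFun (key k l hkl t) k) l
      rwa [Matrix.mul_single_apply_same, Matrix.single_mul_apply_same] at this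
    let o : Fin n := ⟨0, by omega⟩
    have hoo : A o o ≠ 0 := fun h0 => Matrix.GeneralLinearGroup.det_ne_zero a
      (Matrix.det_eq_zero_of_row_eq_zero o fun j => by
        by_cases hj : o = j
        · rw [← hj]; exact h0
        · exact hoff o j hj)
    have hall : ∀ k, A k k = A o o := fun k => by
      by_cases hk : k = o
      · rw [hk]
      · simpa using hdiag k o hk 1
    refine ⟨τ, ?_, fun t => ?_⟩
    · rw [center_le_ker a (center_gl_iff.2 ⟨Units.mk0 _ hoo, ?_⟩), one_mul]
      ext u v
      rw [Matrix.scalar_apply, Matrix.diagonal_apply]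
      by_cases huv : u = v
      · subst huv; rw [if_pos rfl]; exact hall u
      · rw [if_neg huv]; exact hoff u v huv
    · obtain ⟨l, hl⟩ := other o
      have := hdiag o l hl t
      rw [hall l, mul_comm (i t)] at this
      exact mul_left_cancel₀ hoo this
  · exfalso
    have key : ∀ (k l : Fin n), k ≠ l →
        (a : Matrix (Fin n) (Fin n) F) * Matrix.single l k (-1) =
          Matrix.single k l 1 * (a : Matrix (Fin n) (Fin n) F) := fun k l hkl => by
      refine single_eq_of_conj r (hij := hkl) (hkl := hkl.symm) ?_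
      have := h k l hkl 1
      rwa [MulAut.mul_apply, MulAut.mul_apply, iotaA_mkP, fieldA_mkP, conjA_mkP, iotaSL_xr, fieldA_xr r, map_neg,
        map_one, map_one] at this
    have hz : ∀ u v w : Fin n, u ≠ v → w ≠ u → (a : Matrix (Fin n) (Fin n) F) w v = 0 := fun u v w huv hwu => by
      have := congrFun (congrFun (key u v huv) w) u
      rw [Matrix.mul_single_apply_same, Matrix.single_mul_apply_of_ne _ _ _ _ _ hwu] at this
      simpa using this
    let x : Fin n := ⟨0, by omega⟩
    let y : Fin n := ⟨1, by omega⟩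
    let z : Fin n := ⟨2, by omega⟩
    refine Matrix.GeneralLinearGroup.det_ne_zero a (Matrix.det_eq_zero_of_column_eq_zero x fun k => ?_)
    by_cases hk : k = y
    · refine hz z x k (Ne.symm ?_) (hk ▸ ?_) <;> simp [x, y, z, Fin.ext_iff]
    · refine hz y x k ?_ hk
      simp [x, y, Fin.ext_iff]

set_option maxHeartbeats 1000000 in
/-- The witness for a field automorphism. -/
theorem witness_field (hn : 2 ≤ n) {σ : F ≃+* F} {p : ℕ} (hp : p.Prime) (hpr : p ≠ r) (hσ : orderOf σ = p)
    (hdvd : p ∣ Nat.card ↥(LocalBalance.innR (PSLn n F) ⊓ Subgroup.centralizer {(fieldA σ : MulAut (PSLn n F))})) :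
    LocalBalance.Witness p (fieldA σ : MulAut (PSLn n F)) := by
  classical
  let K : Subfield F := (σ : F →+* F).eqLocusField (RingHom.id F)
  have hi : ∀ y : F, σ y = y ↔ y ∈ K.subtype.range := fun y =>
    ⟨fun h => ⟨⟨y, h⟩, rfl⟩, fun ⟨z, hz⟩ => hz ▸ z.2⟩
  haveI : Fintype K := Fintype.ofFinite K
  haveI : CharP K r := (RingHom.charP_iff K.subtype K.subtype.injective r).2 inferInstance
  haveI := LocalBalance.finite_mulAut (K := PSLn n F)
  set i := K.subtype
  have hcent := centralizer_field r hn hσ i hi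
  have hY : ∀ y ∈ LocalBalance.innR (PSLn n F), y * fieldA σ = fieldA σ * y →
      ∃ g, y = conjA (Matrix.GeneralLinearGroup.map i g) := fun y hy hyx => by
    have h1 : y ∈ inndiagPSL n F ⊓ Subgroup.centralizer {fieldA σ} :=
      Subgroup.mem_inf.2 ⟨inn_le_inndiag hy, Subgroup.mem_centralizer_singleton_iff.2 hyx⟩
    rw [← hcent] at h1
    obtain ⟨_, ⟨g, rfl⟩, rfl⟩ := h1
    exact ⟨g, rfl⟩
  let φ : SLn n K →* MulAut (PSLn n F) := MulAut.conj.comp (mkP.comp (Matrix.SpecialLinearGroup.map i))
  have hker : φ.ker = Subgroup.center (SLn n K) := by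
    ext s
    rw [MonoidHom.mem_ker]
    show MulAut.conj (mkP (Matrix.SpecialLinearGroup.map i s)) = 1 ↔ _
    rw [← conjA_toGL, conjA_eq_one_iff r hn,
      show Matrix.SpecialLinearGroup.toGL (Matrix.SpecialLinearGroup.map i s) =
        Matrix.GeneralLinearGroup.map i (Matrix.SpecialLinearGroup.toGL s) from Units.ext rfl,
      ← Subgroup.mem_comap, center_comap_map (by omega) i, center_gl_iff]
    constructor
    · rintro ⟨c, hc⟩
      rw [Subgroup.mem_center_iff]
      intro t
      refine sl_ext ?_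
      have hc' : (s : Matrix (Fin n) (Fin n) K) = Matrix.scalar (Fin n) (c : K) := hc
      rw [Matrix.SpecialLinearGroup.coe_mul, Matrix.SpecialLinearGroup.coe_mul, hc']
      exact (Matrix.scalar_commute _ (fun r' => Commute.all _ r') _).symm.eq
    · intro hs
      obtain ⟨c, hc⟩ := scalar_of_mem_center hs
      refine ⟨Units.mk0 c fun h0 => ?_, hc⟩
      have := s.2
      rw [hc, h0, map_zero] at this
      haveI hne : Nonempty (Fin n) := ⟨⟨0, by omega⟩⟩
      rw [Matrix.det_zero] at this
      exact zero_ne_one this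
  have hpG : p ∣ Nat.card (PSLn n K) := by
    refine dvd_card_psl hn hp hpr Fact.out ?_
    have h1 : Nat.card ↥(LocalBalance.innR (PSLn n F) ⊓ Subgroup.centralizer {(fieldA σ : MulAut (PSLn n F))}) ∣
        Nat.card ((conjA (n := n) (F := F)).comp (Matrix.GeneralLinearGroup.map i)).range := by
      refine Subgroup.card_dvd_of_le fun y hy => ?_
      obtain ⟨g, hg⟩ := hY y (Subgroup.mem_inf.1 hy).1
        (Subgroup.mem_centralizer_singleton_iff.1 (Subgroup.mem_inf.1 hy).2)
      exact ⟨g, hg.symm⟩
    exact (hdvd.trans h1).trans (Subgroup.card_range_dvd _)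
  refine LocalBalance.witness_of_hom φ hker (fun M hM hc => ?_) (fun s => ⟨_, rfl⟩) (fun s => ?_) ?_ ?_
  · by_cases hbig : 3 ≤ n ∨ ∃ x : K, x ≠ 0 ∧ x ^ 2 ≠ 1
    · haveI : IsSimpleGroup (PSLn n K) := Classical.isSimpleGroup_psl (by
        rw [Fintype.card_fin]; exact hbig.imp id fun h => ⟨hn, h⟩)
      exact LocalBalance.core_of_simple hp hpG M hM hc
    · push Not at hbig
      obtain ⟨hn3, hsq⟩ := hbig
      obtain rfl : n = 2 := by omega
      have hle : Fintype.card K ≤ 3 := by
        refine le_trans ?_ (Finset.card_le_three (a := (0 : K)) (b := 1) (c := -1))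
        refine Finset.card_le_card fun x _ => ?_
        by_cases hx : x = 0
        · simp [hx]
        · rcases sq_eq_one_iff.1 (hsq x hx) with h | h <;> simp [h]
      obtain ⟨j, hrp, hj⟩ := FiniteField.card K r
      have hKr : Fintype.card K = r := by
        rcases Nat.lt_or_ge (j : ℕ) 2 with h | h
        · have hj0 : 0 < (j : ℕ) := j.2
          have hj1 : (j : ℕ) = 1 := by omega
          rw [hj, hj1, pow_one]
        · have h4 : 2 ^ 2 ≤ r ^ (j : ℕ) := (Nat.pow_le_pow_left hrp.two_le 2).trans (Nat.pow_le_pow_right hrp.pos h)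
          have h5 : 4 ≤ Fintype.card K := by rw [hj]; simpa using h4
          omega
      refine core_small Fact.out hKr ?_ hp hpr hpG M hM hc
      have := hrp.two_le
      omega
  · show MulAut.conj (mkP (Matrix.SpecialLinearGroup.map i s)) * fieldA σ =
      fieldA σ * MulAut.conj (mkP (Matrix.SpecialLinearGroup.map i s))
    rw [swap_conj, fieldA_mkP]
    congr 3
    refine sl_ext (Matrix.ext fun u v => ?_)
    exact ((hi _).2 ⟨_, rfl⟩).symm
  · intro y hy hyx s
    obtain ⟨g, rfl⟩ := hY y hy hyx
    refine ⟨conjSL g s, ?_⟩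
    show MulAut.conj (mkP (Matrix.SpecialLinearGroup.map i (conjSL g s))) =
      conjA _ * MulAut.conj (mkP (Matrix.SpecialLinearGroup.map i s)) * (conjA _)⁻¹
    rw [← conjA_toGL, ← conjA_toGL, ← map_inv, ← map_mul, ← map_mul]
    refine congrArg conjA (Units.ext ?_)
    show ((g : Matrix (Fin n) (Fin n) K) * (s : Matrix (Fin n) (Fin n) K) *
      ((g⁻¹ : GL (Fin n) K) : Matrix (Fin n) (Fin n) K)).map i = _
    rw [Matrix.map_mul, Matrix.map_mul]
    rfl
  · intro y _ hy
    obtain ⟨τ, rfl, hτ⟩ := fix_subfield r hn i (y := y) fun k l hkl t => by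
      have h1 := hy (xr hkl t)
      change _ * MulAut.conj (mkP (Matrix.SpecialLinearGroup.map i (xr hkl t))) =
        MulAut.conj (mkP (Matrix.SpecialLinearGroup.map i (xr hkl t))) * _ at h1
      rw [swap_conj, mul_left_inj, xr_map] at h1
      exact conj_injective r hn h1
    obtain ⟨k, hk⟩ := LocalBalance.mem_zpowers_of_fix (σ := σ) (τ := τ) fun x hx => by
      obtain ⟨z, rfl⟩ := (hi x).1 hx
      exact hτ z
    exact ⟨k, by show fieldA σ ^ k = fieldA τ; rw [← map_zpow]; exact congrArg _ hk⟩

set_option maxHeartbeats 1000000 in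
/-- The witness for an involutory graph-field automorphism. -/
theorem witness_graphField [Fintype F] (hn : 3 ≤ n) {σ : F ≃+* F} (hσ : orderOf σ = 2) (h2r : r ≠ 2) :
    LocalBalance.Witness 2 (fieldA σ * iotaA : MulAut (PSLn n F)) := by
  classical
  obtain ⟨j, hrp, hj⟩ := FiniteField.card F r
  obtain ⟨hev, hfrob⟩ := involution_eq_frobenius (p := r) (f := j) (Nat.succ_le_of_lt j.pos) hj hσ
  set q := r ^ ((j : ℕ) / 2) with hq
  have hF : Fintype.card F = q ^ 2 := by
    rw [hj, hq, ← pow_mul, Nat.div_mul_cancel (even_iff_two_dvd.1 hev)]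
  obtain ⟨σ', hu⟩ := AutPSU.exists_uctx hF
  have hσσ' : ∀ x, σ x = σ' x := fun x => by rw [hfrob, hu.pow]
  haveI := LocalBalance.finite_mulAut (K := PSLn n F)
  have hcent := centralizer_graphField hfrob (p := r) hn hσ
  set x₀ := (fieldA σ * iotaA : MulAut (PSLn n F))
  let φ : AutPSU.Su n F q →* MulAut (PSLn n F) := MulAut.conj.comp (mkP.comp (Cfsg.SU n F q).subtype)
  have hφ : ∀ s : AutPSU.Su n F q, φ s = conjA (AutPSU.suToGU s).1 := fun s => (conjA_toGL s.1).symm
  have hmem : ∀ g : Cfsg.GU n F q, conjA g.1 ∈ inndiagPSL n F ⊓ Subgroup.centralizer {x₀} := fun g => by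
    rw [← hcent]; exact ⟨g.1, g.2, rfl⟩
  haveI : IsSimpleGroup (Cfsg.PSU n F q) := Classical.isSimpleGroup_psu hF n hn (fun h => by
    have h1 := hj
    rw [hF, h.2] at h1
    exact h2r ((Nat.prime_dvd_prime_iff_eq hrp Nat.prime_two).1
      (hrp.dvd_of_dvd_pow ((dvd_pow_self r j.ne_zero).trans (dvd_of_eq h1.symm)))))
  refine LocalBalance.witness_of_hom φ (N := Subgroup.center (AutPSU.Su n F q)) ?_
    (fun M hM hc => LocalBalance.core_of_simple Nat.prime_two ?_ M hM hc) (fun s => ⟨_, rfl⟩) (fun s => ?_) ?_ ?_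
  · ext s
    rw [MonoidHom.mem_ker, hφ, conjA_eq_one_iff r (by omega), center_gl_iff]
    constructor
    · rintro ⟨c, hc⟩
      refine AutPSU.mem_center_of_scalar (a := (c : F)) fun v => ?_
      show (AutPSU.suToGU s).1.1 *ᵥ v = _
      rw [hc, Matrix.scalar_apply, ← Matrix.smul_one_eq_diagonal, Matrix.smul_mulVec, Matrix.one_mulVec]
    · intro hs
      obtain ⟨c, hc⟩ := AutPSU.center_scalar hu (by omega) hs
      have hm : AutPSU.mat s = Matrix.scalar (Fin n) c := Matrix.ext_of_mulVec_single fun l => by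
        rw [hc, Matrix.scalar_apply, ← Matrix.smul_one_eq_diagonal, Matrix.smul_mulVec, Matrix.one_mulVec]
      refine ⟨Units.mk0 c fun h0 => ?_, hm⟩
      have hd := s.1.2
      rw [show s.1.1 = Matrix.scalar (Fin n) c from hm, h0, map_zero] at hd
      haveI : Nonempty (Fin n) := ⟨⟨0, by omega⟩⟩
      rw [Matrix.det_zero] at hd
      exact zero_ne_one hd
  · -- an involution
    let k : Fin n := ⟨0, by omega⟩
    let l : Fin n := ⟨1, by omega⟩
    let m : Fin n := ⟨2, by omega⟩
    have hkl : k ≠ l := by simp [k, l]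
    let d : Fin n → F := fun j => if j = k ∨ j = l then -1 else 1
    let S : SLn n F := ⟨Matrix.diagonal d, by
      rw [Matrix.det_diagonal, Finset.prod_eq_mul k l hkl (fun j _ hj => by simp [d, hj.1, hj.2]) (by simp) (by simp)]
      simp [d]⟩
    have hdd : ∀ u, d u * d u = 1 := fun u => by by_cases h : u = k ∨ u = l <;> simp [d, h]
    let s : AutPSU.Su n F q := ⟨S, (Classical.mem_SU_iff hu.pow S).2 fun u v => by
      rw [Classical.hermB_apply, Classical.hermB_apply]
      refine Finset.sum_congr rfl fun t _ => ?_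
      show σ' ((Matrix.diagonal d *ᵥ u) t) * (Matrix.diagonal d *ᵥ v) t = _
      rw [Matrix.mulVec_diagonal, Matrix.mulVec_diagonal, map_mul]
      have : σ' (d t) = d t := by by_cases h : t = k ∨ t = l <;> simp [d, h]
      rw [this, mul_mul_mul_comm, hdd, one_mul]⟩
    have hs2 : s ^ 2 = 1 := AutPSU.su_ext (by
      rw [pow_two, AutPSU.mat_mul]
      show Matrix.diagonal d * Matrix.diagonal d = 1
      rw [Matrix.diagonal_mul_diagonal, ← Matrix.diagonal_one]
      exact congrArg Matrix.diagonal (funext hdd))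
    have hs1 : AutPSU.mkU s ≠ 1 := fun h0 => by
      obtain ⟨c, hc⟩ := AutPSU.center_scalar hu (by omega) (AutPSU.mkU_eq_one_iff.1 h0)
      have ek := congrFun (hc (Pi.single k 1)) k
      have em := congrFun (hc (Pi.single m 1)) m
      rw [show AutPSU.mat s = Matrix.diagonal d from rfl, Matrix.mulVec_diagonal] at ek em
      simp [d, k, l, m, Fin.ext_iff] at ek em
      exact Ring.two_ne_zero (R := F) (by rw [ringChar.eq F r]; exact h2r) (by rw [← em] at ek; linear_combination -ek)
    exact (orderOf_eq_prime (by rw [← map_pow, hs2, map_one]) hs1) ▸ orderOf_dvd_natCard _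
  · rw [hφ]; exact Subgroup.mem_centralizer_singleton_iff.1 (Subgroup.mem_inf.1 (hmem _)).2
  · intro y hy hyx s
    have h1 : y ∈ inndiagPSL n F ⊓ Subgroup.centralizer {x₀} :=
      Subgroup.mem_inf.2 ⟨inn_le_inndiag hy, Subgroup.mem_centralizer_singleton_iff.2 hyx⟩
    rw [← hcent] at h1
    obtain ⟨g, hg, rfl⟩ := h1
    refine ⟨AutPSU.conjSu ⟨g, hg⟩ s, ?_⟩
    rw [hφ, hφ, ← map_inv, ← map_mul, ← map_mul]
    exact congrArg conjA (Units.ext rfl)
  · -- what centralises
    have key : ∀ (a : GL (Fin n) F) (τ : F ≃+* F),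
        (∀ s, conjA a * fieldA τ * φ s = φ s * (conjA a * fieldA τ)) → conjA a * fieldA τ = 1 := by
      intro a τ h
      obtain ⟨ha, hτ⟩ := unitary_fix_scalar hu σ' (RingHom.id F) (fun _ => rfl) hn τ
        (fun x => by rw [hu.pow, hu.pow, map_pow]) a fun v c hv hc => by
          show _ * (AutPSU.mat (AutPSU.tr hu v c)).map τ = AutPSU.mat (AutPSU.tr hu v c) * _
          set s := AutPSU.tr hu v c
          have h1 : conjA a * fieldA τ * MulAut.conj (mkP s.1) = MulAut.conj (mkP s.1) * (conjA a * fieldA τ) := h s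
          rw [swap_conj, mul_left_inj] at h1
          replace h1 := conj_injective r (by omega) h1
          rw [MulAut.mul_apply, fieldA_mkP, conjA_mkP] at h1
          have hpow : s ^ r ^ 1 = 1 := by
            have hmul : ∀ m : ℕ, AutPSU.mat (s ^ m) = 1 + (m : F) • (AutPSU.mat s - 1) := fun m => by
              induction m with
              | zero => rw [pow_zero, Nat.cast_zero, zero_smul, add_zero]; rfl
              | succ m ih =>
                refine Matrix.ext_of_mulVec_single fun l => ?_
                rw [pow_succ, AutPSU.mat_mul_mulVec, ih]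
                simp only [Matrix.add_mulVec, Matrix.one_mulVec, Matrix.smul_mulVec, Matrix.sub_mulVec, s,
                  AutPSU.tr_mulVec hu hv hc, map_add, map_smul, hv, Nat.cast_succ, smul_eq_mul, mul_zero, add_zero]
                module
            exact AutPSU.su_ext (by rw [hmul, pow_one, CharP.cast_eq_zero, zero_smul, add_zero]; rfl)
          have h2 := eq_of_mkP_eq r (k := 1) (l := 1)
            (by rw [← map_pow, ← map_pow, ← SubgroupClass.coe_pow, hpow, OneMemClass.coe_one, map_one, map_one])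
            (by rw [← SubgroupClass.coe_pow, hpow, OneMemClass.coe_one]) h1
          have h3 := congrArg Subtype.val h2
          rw [conjSL_coe, fieldSL_coe] at h3
          show _ = AutPSU.mat s * _
          conv_rhs => rw [show AutPSU.mat s = s.1.1 from rfl, ← h3]
          rw [Matrix.mul_assoc, Units.inv_mul, Matrix.mul_one]
      rw [center_le_ker a ha, one_mul, show τ = 1 from RingEquiv.ext hτ, map_one]
    intro y _ hy
    obtain ⟨a, τ, γ, hγ, rfl⟩ := exists_decomp_all r (by omega) y
    rcases hγ with rfl | ⟨rfl, -⟩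
    · rw [mul_one] at hy ⊢
      rw [key a τ hy]
      exact one_mem _
    · have he : conjA a * fieldA τ * iotaA * x₀ = conjA a * fieldA (τ * σ) := by
        show conjA a * fieldA τ * iotaA * (fieldA σ * iotaA) = _
        rw [← fieldA_iota, map_mul, show conjA a * fieldA τ * iotaA * (iotaA * fieldA σ) =
          conjA a * fieldA τ * (iotaA * iotaA) * fieldA σ by group, iotaA_mul_self, mul_one, mul_assoc]
      have h1 : conjA a * fieldA τ * iotaA * x₀ = 1 := by
        rw [he]
        refine key a _ fun s => ?_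
        rw [← he, mul_assoc, ← (show φ s * x₀ = x₀ * φ s by
          rw [hφ]; exact Subgroup.mem_centralizer_singleton_iff.1 (Subgroup.mem_inf.1 (hmem _)).2),
          ← mul_assoc, hy, mul_assoc]
      rw [eq_inv_of_mul_eq_one_left h1]
      exact inv_mem (Subgroup.mem_zpowers _)

end Cfsg.Agent.AutPSL
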