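import Cfsg.Agent.AutPSL.BalanceField
import Cfsg.Agent.AutPOmega.OddNormal
import Cfsg.Agent.LocalBalance.Reflect
import Cfsg.Agent.Classical.AltSimple

/-!
Witnesses for graph automorphisms of PSL_n of order two in odd characteristic.
-/

set_option autoImplicit false

namespace Cfsg.Agent.AutPSL

open Matrix Module QuadraticMap

variable {n : ℕ} {F : Type*} [Field F]

/-- Invertible matrices as linear automorphisms. -/
def glLE : GL (Fin n) F ≃* ((Fin n → F) ≃ₗ[F] (Fin n → F)) :=
  Matrix.GeneralLinearGroup.toLin.trans (LinearMap.GeneralLinearGroup.generalLinearEquiv F _)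

theorem glLE_apply (h : GL (Fin n) F) (v : Fin n → F) : glLE h v = (h : Matrix (Fin n) (Fin n) F) *ᵥ v := rfl

theorem glLE_symm_mulVec (e : (Fin n → F) ≃ₗ[F] (Fin n → F)) (v : Fin n → F) :
    ((glLE.symm e : GL (Fin n) F) : Matrix (Fin n) (Fin n) F) *ᵥ v = e v := by
  rw [← glLE_apply, MulEquiv.apply_symm_apply]

/-- Similitudes of the bilinear form of J in terms of matrices. -/
theorem sim_iff {J : Matrix (Fin n) (Fin n) F} {h : Matrix (Fin n) (Fin n) F} {c : F} :
    (∀ u v, (h *ᵥ u) ⬝ᵥ J *ᵥ (h *ᵥ v) = c * (u ⬝ᵥ J *ᵥ v)) ↔ hᵀ * J * h = c • J := by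
  have e : ∀ u v, (h *ᵥ u) ⬝ᵥ J *ᵥ (h *ᵥ v) = u ⬝ᵥ (hᵀ * J * h) *ᵥ v := fun u v => by
    rw [← Matrix.mulVec_mulVec, ← Matrix.mulVec_mulVec, Matrix.dotProduct_mulVec u hᵀ, Matrix.vecMul_transpose]
  constructor
  · intro H
    refine Matrix.ext fun a b => ?_
    have := H (Pi.single a 1) (Pi.single b 1)
    rw [e] at this
    simpa [Matrix.mulVec_single_one, single_dotProduct] using this
  · intro H u v
    rw [e, H, Matrix.smul_mulVec, dotProduct_smul, smul_eq_mul]

theorem two_dvd_iso_quot {F V : Type*} [Field F] [AddCommGroup V] [Module F V] [FiniteDimensional F V] [Nontrivial V]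
    {B : LinearMap.BilinForm F V} [Finite (Classical.Alt.isoGroup B)] (hA : B.IsAlt) (hB : B.Nondegenerate)
    (h2 : (2 : F) ≠ 0) (hdim : 4 ≤ finrank F V) :
    2 ∣ Nat.card (Classical.Alt.isoGroup B ⧸ Subgroup.center (Classical.Alt.isoGroup B)) := by
  obtain ⟨e, he⟩ := exists_ne (0 : V)
  obtain ⟨z, -, hz⟩ := Classical.Alt.ndon_top hB e trivial he
  set f := (B e z)⁻¹ • z with hf
  have hef : B e f = 1 := by rw [hf, map_smul, smul_eq_mul, inv_mul_cancel₀ hz]
  have hfe : B f e = -1 := by rw [Classical.Alt.neg' hA e f, hef]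
  let L : V →ₗ[F] V :=
    LinearMap.id - 2 • ((B.flip f).smulRight e) + 2 • ((B.flip e).smulRight f)
  have hL : ∀ v, L v = v - (2 * B v f) • e + (2 * B v e) • f := fun v => by
    simp [L, two_mul, add_smul, two_nsmul]
  have hinv : Function.Involutive L := fun v => by
    rw [hL (L v), hL v]
    simp only [map_sub, map_add, map_smul, LinearMap.sub_apply, LinearMap.add_apply, LinearMap.smul_apply,
      smul_eq_mul, hA e, hA f, hef, hfe]
    module
  let s : Classical.Alt.isoGroup B := ⟨LinearEquiv.ofInvolutive L hinv, fun u v => by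
    show B (L u) (L v) = B u v
    simp only [hL, map_sub, map_add, map_smul, LinearMap.sub_apply, LinearMap.add_apply, LinearMap.smul_apply,
      smul_eq_mul, hA e, hA f, hef, hfe, Classical.Alt.neg' hA v e, Classical.Alt.neg' hA v f]
    ring⟩
  have hs2 : s ^ 2 = 1 := by
    rw [pow_two]
    exact Subtype.ext (LinearEquiv.ext hinv)
  have hs1 : (QuotientGroup.mk s : _ ⧸ Subgroup.center (Classical.Alt.isoGroup B)) ≠ 1 := fun h0 => by
    obtain ⟨c, hc⟩ := Classical.Alt.scalar_of_center hA hB ((QuotientGroup.eq_one_iff s).1 h0)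
    obtain ⟨w, hw, hw0⟩ : ∃ w, w ∈ LinearMap.ker ((B.flip e).prod (B.flip f)) ∧ w ≠ 0 := by
      refine Submodule.exists_mem_ne_zero_of_ne_bot fun h1 => ?_
      have h3 := ((B.flip e).prod (B.flip f)).finrank_range_add_finrank_ker
      have h4 := Submodule.finrank_le (LinearMap.range ((B.flip e).prod (B.flip f)))
      rw [Module.finrank_prod, Module.finrank_self] at h4
      rw [h1, finrank_bot] at h3
      omega
    simp only [LinearMap.mem_ker, LinearMap.prod_apply, Function.prod_apply, Prod.mk_eq_zero] at hw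
    replace hw : B w e = 0 ∧ B w f = 0 := hw
    have h1 : L e = c • e := hc e
    have h3 : L w = c • w := hc w
    rw [hL, hw.1, hw.2] at h3
    rw [hL, hA e, hef] at h1
    have hc1 : c = 1 := smul_left_injective F hw0 (show c • w = (1 : F) • w by rw [← h3]; module)
    have h5 : (2 : F) • e = 0 := by rw [hc1] at h1; linear_combination (norm := module) -h1
    exact he ((smul_eq_zero.1 h5).resolve_left h2)
  exact (dvd_of_eq (orderOf_eq_prime (by rw [← QuotientGroup.mk_pow, hs2, QuotientGroup.mk_one]) hs1).symm).trans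
    (orderOf_dvd_natCard _)

variable [Finite F] (r : ℕ) [Fact r.Prime] [CharP F r]
include r

theorem conjA_eq_iff (hn : 2 ≤ n) {a b : GL (Fin n) F} :
    conjA a = conjA b ↔ a⁻¹ * b ∈ Subgroup.center (GL (Fin n) F) := by
  rw [← conjA_eq_one_iff r hn, map_mul, map_inv, inv_mul_eq_one]

/-- What commutes with a graph automorphism: the similitudes. -/
theorem conjA_commute_iota_iff (hn : 2 ≤ n) (g h : GL (Fin n) F) :
    conjA h * (conjA g * iotaA) = conjA g * iotaA * conjA h ↔
      ∃ c : F, c ≠ 0 ∧ (h : Matrix (Fin n) (Fin n) F)ᵀ * ((g⁻¹ : GL (Fin n) F) : Matrix (Fin n) (Fin n) F) *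
        (h : Matrix (Fin n) (Fin n) F) = c • ((g⁻¹ : GL (Fin n) F) : Matrix (Fin n) (Fin n) F) := by
  rw [mul_assoc (conjA g) iotaA, conjA_iota, ← mul_assoc, ← mul_assoc, ← map_mul, ← map_mul, mul_left_inj, eq_comm,
    conjA_eq_iff r hn, center_gl_iff]
  have e : ((g * itGL h)⁻¹ * (h * g) : GL (Fin n) F) = (itGL h)⁻¹ * g⁻¹ * h * g := by group
  rw [e]
  constructor
  · rintro ⟨c, hc⟩
    refine ⟨c, c.ne_zero, ?_⟩
    rw [← Matrix.mul_left_inj_of_invertible (g : Matrix (Fin n) (Fin n) F)] 
    rw [Matrix.smul_mul, Units.inv_mul, Matrix.smul_one_eq_diagonal, ← Matrix.scalar_apply]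
    exact hc
  · rintro ⟨c, hc, H⟩
    refine ⟨Units.mk0 c hc, ?_⟩
    show (h : Matrix (Fin n) (Fin n) F)ᵀ * _ * _ * _ = _
    rw [H, Matrix.smul_mul, Units.inv_mul, Matrix.smul_one_eq_diagonal, ← Matrix.scalar_apply, Units.val_mk0]

theorem sl_conj_mem_inn (s : SLn n F) : conjA (Matrix.SpecialLinearGroup.toGL s) ∈ LocalBalance.innR (PSLn n F) :=
  ⟨mkP s, (conjA_toGL s).symm⟩

/-- An element of order r has determinant one. -/
theorem det_eq_one_of_pow {S : GL (Fin n) F} (h : S ^ r = 1) : (S : Matrix (Fin n) (Fin n) F).det = 1 := by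
  have h1 : (S : Matrix (Fin n) (Fin n) F).det ^ r = 1 := by
    rw [← Matrix.det_pow, ← Units.val_pow_eq_pow_val, h, Units.val_one, Matrix.det_one]
  exact sub_eq_zero.1 (eq_zero_of_pow_eq_zero (n := r) (by rw [sub_pow_char, h1, one_pow, sub_self]))

/-- An element of order r commuting in PSL commutes with the semilinear map. -/
theorem semi_commute {a : GL (Fin n) F} {τ : F ≃+* F} {S : GL (Fin n) F} (hS : S ^ r = 1) (hn : 2 ≤ n)
    (hy : conjA a * fieldA τ * conjA S = conjA S * (conjA a * fieldA τ)) :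
    (a : Matrix (Fin n) (Fin n) F) * (S : Matrix (Fin n) (Fin n) F).map τ =
      (S : Matrix (Fin n) (Fin n) F) * (a : Matrix (Fin n) (Fin n) F) := by
  let s : SLn n F := ⟨S, det_eq_one_of_pow r hS⟩
  have hs : S = Matrix.SpecialLinearGroup.toGL s := Units.ext rfl
  rw [hs, conjA_toGL, swap_conj, mul_left_inj] at hy
  replace hy := conj_injective r hn hy
  rw [MulAut.mul_apply, fieldA_mkP, conjA_mkP] at hy
  have hpow : s ^ r ^ 1 = 1 := sl_ext (by
    rw [pow_one, Matrix.SpecialLinearGroup.coe_pow]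
    exact congrArg Units.val hS)
  have h2 := eq_of_mkP_eq r (k := 1) (l := 1) (by rw [← map_pow, ← map_pow, hpow, map_one, map_one]) hpow hy
  have h3 := congrArg Subtype.val h2
  rw [conjSL_coe, fieldSL_coe] at h3
  show _ = (s : Matrix (Fin n) (Fin n) F) * _
  conv_rhs => rw [← h3]
  rw [Matrix.mul_assoc, Units.inv_mul, Matrix.mul_one]

variable (hn : 3 ≤ n) (h2 : (2 : F) ≠ 0) {g : GL (Fin n) F}
include hn

/-- Reduction of the centraliser: it is enough to treat semilinear maps. -/
theorem mem_zpowers_of_key {X : Set (MulAut (PSLn n F))} (hX : ∀ z ∈ X, z * (conjA g * iotaA) = conjA g * iotaA * z)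
    (key : ∀ (a : GL (Fin n) F) (τ : F ≃+* F),
      (∀ z ∈ X, conjA a * fieldA τ * z = z * (conjA a * fieldA τ)) → conjA a * fieldA τ = 1)
    {y : MulAut (PSLn n F)} (hy : ∀ z ∈ X, y * z = z * y) :
    y ∈ Subgroup.zpowers (conjA g * iotaA : MulAut (PSLn n F)) := by
  obtain ⟨a, τ, γ, hγ, rfl⟩ := exists_decomp_all r (by omega) y
  rcases hγ with rfl | ⟨rfl, -⟩
  · rw [mul_one] at hy ⊢
    rw [key a τ hy]
    exact one_mem _
  · have he : conjA a * fieldA τ * iotaA * (conjA g * iotaA) = conjA (a * fieldGL τ (itGL g)) * fieldA τ := by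
      calc conjA a * fieldA τ * iotaA * (conjA g * iotaA)
          = conjA a * fieldA τ * (iotaA * conjA g) * iotaA := by group
        _ = conjA a * (fieldA τ * conjA (itGL g)) * (iotaA * iotaA) := by rw [conjA_iota]; group
        _ = _ := by rw [conjA_field, iotaA_mul_self, mul_one, ← mul_assoc, ← map_mul]
    have h1 : conjA a * fieldA τ * iotaA * (conjA g * iotaA) = 1 := by
      rw [he]
      refine key _ _ fun z hz => ?_
      rw [← he, mul_assoc, ← hX z hz, ← mul_assoc, hy z hz, mul_assoc]
    rw [eq_inv_of_mul_eq_one_left h1]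
    exact inv_mem (Subgroup.mem_zpowers _)

include h2

set_option maxHeartbeats 1000000 in
/-- The witness of an orthogonal graph automorphism. -/
theorem witness_orth (hg : ((g : GL (Fin n) F) : Matrix (Fin n) (Fin n) F)ᵀ = g) :
    LocalBalance.Witness 2 (conjA g * iotaA : MulAut (PSLn n F)) := by
  classical
  haveI := LocalBalance.finite_mulAut (K := PSLn n F)
  set x := (conjA g * iotaA : MulAut (PSLn n F)) with hx
  set J : Matrix (Fin n) (Fin n) F := ((g⁻¹ : GL (Fin n) F) : Matrix (Fin n) (Fin n) F) with hJ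
  have hJT : Jᵀ = J := by
    rw [hJ, Matrix.coe_units_inv, Matrix.transpose_nonsing_inv, hg]
  let B : LinearMap.BilinForm F (Fin n → F) := Matrix.toBilin' J
  have hB : ∀ u v, B u v = u ⬝ᵥ J *ᵥ v := fun u v => Matrix.toBilin'_apply' J u v
  let Q : QuadraticForm F (Fin n → F) := LinearMap.BilinMap.toQuadraticMap B
  have hQv : ∀ v, Q v = v ⬝ᵥ J *ᵥ v := fun v => hB v v
  have hsymm : ∀ u v : Fin n → F, v ⬝ᵥ J *ᵥ u = u ⬝ᵥ J *ᵥ v := fun u v => by
    rw [Matrix.dotProduct_mulVec, ← Matrix.mulVec_transpose, hJT, dotProduct_comm]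
  have hpol : ∀ u v, polar Q u v = 2 * (u ⬝ᵥ J *ᵥ v) := fun u v => by
    rw [QuadraticMap.polar, hQv, hQv, hQv, Matrix.mulVec_add, dotProduct_add, add_dotProduct, add_dotProduct,
      hsymm u v]
    ring
  have hQ : (polarBilin Q).Nondegenerate := Classical.Quad.nondeg_of fun v hv => by
    refine Matrix.eq_zero_of_mulVec_eq_zero (Matrix.GeneralLinearGroup.det_ne_zero g⁻¹) (funext fun i => ?_)
    have h1 := hv (Pi.single i 1)
    rw [hpol, hsymm, single_one_dotProduct] at h1
    exact (mul_eq_zero.1 h1).resolve_left h2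
  have hdim : 3 ≤ finrank F (Fin n → F) := by rw [Module.finrank_pi, Fintype.card_fin]; exact hn
  have hiso : ∀ e : (Fin n → F) ≃ₗ[F] (Fin n → F), (∀ v, Q (e v) = Q v) →
      conjA (glLE.symm e) * x = x * conjA (glLE.symm e) := fun e he => by
    refine (conjA_commute_iota_iff r (by omega) g _).2 ⟨1, one_ne_zero, sim_iff.1 fun u v => ?_⟩
    rw [glLE_symm_mulVec, glLE_symm_mulVec, one_mul]
    refine mul_left_cancel₀ h2 ?_
    rw [← hpol, ← hpol, QuadraticMap.polar, QuadraticMap.polar, ← map_add e, he, he, he]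
  refine LocalBalance.witness_of_core (fun y _ hy => ?_) fun N hN hNc hNn => ?_
  · refine mem_zpowers_of_key r hn (X := {z | z ∈ LocalBalance.innR (PSLn n F) ∧ z * x = x * z}) (fun z hz => hz.2)
      (fun a τ h => ?_) (fun z hz => hy z hz.1 hz.2)
    let T : (Fin n → F) → Fin n → F := fun v => (a : Matrix (Fin n) (Fin n) F) *ᵥ fun i => τ (v i)
    obtain ⟨c, hc0, hc, hτ⟩ := AutPOmega.scalar_of_commute (T := T) (τ := τ) hQ h2 hdim
      (fun u v => by
        show (a : Matrix (Fin n) (Fin n) F) *ᵥ (fun i => τ (u i + v i)) = _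
        simp only [map_add]
        exact Matrix.mulVec_add _ _ _)
      (fun t v => by
        show (a : Matrix (Fin n) (Fin n) F) *ᵥ (fun i => τ (t * v i)) = _
        simp only [map_mul]
        exact Matrix.mulVec_smul (a : Matrix (Fin n) (Fin n) F) (τ t) (fun i => τ (v i)))
      (fun u v huv => funext fun i => τ.injective (congrFun
        (Matrix.mulVec_injective_of_isUnit a.isUnit huv) i))
      (fun e w he hw v => by
        set s := Classical.Quad.sO he hw
        have hpw : ∀ m : ℕ, ∀ z, (s ^ m).1 z = (Classical.Quad.sO he (Classical.Quad.polar_perp_smul hw (m : F))).1 z := by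
          intro m
          induction m with
          | zero =>
            intro z
            rw [pow_zero, Classical.Quad.sO_congr he _ (by simp [QuadraticMap.polar]) (show ((0 : ℕ) : F) • w = 0 by simp),
              Classical.Quad.sO_zero]
          | succ m ih =>
            intro z
            rw [pow_succ, Classical.Quad.oG_mul_apply, ih, ← Classical.Quad.oG_mul_apply, Classical.Quad.sO_mul]
            rw [Classical.Quad.sO_congr he _ (Classical.Quad.polar_perp_smul hw ((m + 1 : ℕ) : F))
              (by rw [Nat.cast_succ, add_smul, one_smul])]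
        have hr : s.1 ^ r = 1 := LinearEquiv.ext fun z => by
          rw [← SubgroupClass.coe_pow, hpw, Classical.Quad.sO_congr he _ (by simp [QuadraticMap.polar])
            (show ((r : ℕ) : F) • w = 0 by simp [CharP.cast_eq_zero]), Classical.Quad.sO_zero]
          rfl
        set S := glLE.symm s.1
        have hS : S ^ r = 1 := by rw [← map_pow, hr, map_one]
        have hmem : conjA S ∈ LocalBalance.innR (PSLn n F) := by
          have : S = Matrix.SpecialLinearGroup.toGL ⟨S, det_eq_one_of_pow r hS⟩ := Units.ext rfl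
          rw [this]; exact sl_conj_mem_inn r _
        have h1 := semi_commute r hS (by omega) (h _ ⟨hmem, hiso _ s.2⟩)
        show _ *ᵥ (fun i => τ (s.1 v i)) = s.1 (_ *ᵥ _)
        rw [← glLE_symm_mulVec s.1 v, ← glLE_symm_mulVec s.1 (_ *ᵥ _), Matrix.mulVec_mulVec, ← h1,
          ← Matrix.mulVec_mulVec]
        congr 1
        exact funext fun i => RingHom.map_mulVec (τ : F →+* F) _ _ i)
    have ha : a ∈ Subgroup.center (GL (Fin n) F) := center_gl_iff.2 ⟨Units.mk0 c hc0,
      Matrix.ext_of_mulVec_single fun l => by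
        have := hc (Pi.single l 1)
        rw [Units.val_mk0, Matrix.scalar_apply, ← Matrix.smul_one_eq_diagonal, Matrix.smul_mulVec, Matrix.one_mulVec,
          ← this]
        show _ = _ *ᵥ _
        congr 1
        funext i
        by_cases hi : i = l <;> simp [hi]⟩
    rw [center_le_ker a ha, one_mul, show τ = 1 from RingEquiv.ext hτ, map_one]
  · let P : ((Fin n → F) ≃ₗ[F] (Fin n → F)) → Prop := fun e => conjA (glLE.symm e) ∈ N
    have hsim : ∀ e, P e → ∃ μ : F, μ ≠ 0 ∧ ∀ v, Q (e v) = μ * Q v := fun e he => by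
      obtain ⟨c, hc, H⟩ := (conjA_commute_iota_iff r (by omega) g _).1
        (Subgroup.mem_centralizer_singleton_iff.1 (Subgroup.mem_inf.1 (hN he)).2)
      refine ⟨c, hc, fun v => ?_⟩
      have := sim_iff.2 H v v
      rwa [glLE_symm_mulVec, ← hQv, ← hQv] at this
    have key := LocalBalance.scalar_of_reflect hQ h2 hdim hsim (fun e he u hu => by
      show conjA (glLE.symm _) ∈ N
      set R := glLE.symm (Classical.Quad.refl hu)
      have hR : conjA R⁻¹ = conjA R := by
        rw [← map_inv, show (Classical.Quad.refl hu)⁻¹ = Classical.Quad.refl hu from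
          congrArg Subtype.val (Classical.Quad.rO_inv hu)]
      have h1 := hNn (conjA R) (hiso _ (Classical.Quad.rO hu).2) _ he
      rw [← map_inv, hR] at h1
      rw [map_mul, map_mul, map_mul, map_inv, map_mul, map_mul, map_mul, map_inv]
      exact mul_mem h1 (inv_mem he))
      (fun e he ⟨c, hc⟩ => by
        have hc0 : c ≠ 0 := fun h0 => by
          have := hc (Pi.single ⟨0, by omega⟩ 1)
          rw [h0, zero_smul] at this
          have h' := e.map_eq_zero_iff.1 (e.map_eq_zero_iff.1 this)
          simpa using congrFun h' ⟨0, by omega⟩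
        set h := glLE.symm e
        have hh : conjA h ^ 2 = 1 := by
          rw [← map_pow, center_le_ker _ (center_gl_iff.2 ⟨Units.mk0 c hc0, Matrix.ext_of_mulVec_single fun l => ?_⟩)]
          rw [Units.val_mk0, Matrix.scalar_apply, ← Matrix.smul_one_eq_diagonal, Matrix.smul_mulVec, Matrix.one_mulVec,
            pow_two, Units.val_mul, ← Matrix.mulVec_mulVec, glLE_symm_mulVec, glLE_symm_mulVec, hc]
        have h1 : conjA h = 1 := orderOf_eq_one_iff.1 (Nat.eq_one_of_dvd_coprimes hNc
          (by rw [← Subgroup.orderOf_mk (conjA h) he]; exact orderOf_dvd_natCard _) (orderOf_dvd_of_pow_eq_one hh))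
        rw [conjA_eq_one_iff r (by omega), center_gl_iff] at h1
        obtain ⟨d, hd⟩ := h1
        refine ⟨d, fun v => ?_⟩
        rw [← glLE_symm_mulVec e v, hd, Matrix.scalar_apply, ← Matrix.smul_one_eq_diagonal, Matrix.smul_mulVec,
          Matrix.one_mulVec])
    refine (Subgroup.eq_bot_iff_forall N).2 fun z hz => ?_
    have hzi := inn_le_inndiag (n := n) (F := F) (Subgroup.mem_inf.1 (hN hz)).1
    rw [inndiagPSL_eq] at hzi
    obtain ⟨h, rfl⟩ := hzi
    have hP : P (glLE h) := by show conjA _ ∈ N; rwa [MulEquiv.symm_apply_apply]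
    obtain ⟨d, hd⟩ := key _ hP
    have hd0 : d ≠ 0 := fun h0 => by
      have := hd (Pi.single ⟨0, by omega⟩ 1)
      rw [h0, zero_smul] at this
      simpa using congrFun ((glLE h).map_eq_zero_iff.1 this) ⟨0, by omega⟩
    exact center_le_ker _ (center_gl_iff.2 ⟨Units.mk0 d hd0, Matrix.ext_of_mulVec_single fun l => by
      rw [← glLE_apply, hd, Units.val_mk0, Matrix.scalar_apply, ← Matrix.smul_one_eq_diagonal, Matrix.smul_mulVec,
        Matrix.one_mulVec]⟩)

set_option maxHeartbeats 1000000 in
/-- The witness of a symplectic graph automorphism. -/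
theorem witness_symp (hg : ((g : GL (Fin n) F) : Matrix (Fin n) (Fin n) F)ᵀ = -g) :
    LocalBalance.Witness 2 (conjA g * iotaA : MulAut (PSLn n F)) := by
  classical
  haveI := LocalBalance.finite_mulAut (K := PSLn n F)
  haveI : NeZero n := ⟨by omega⟩
  haveI : Finite ((Fin n → F) ≃ₗ[F] (Fin n → F)) := Finite.of_equiv _ (glLE (n := n) (F := F)).toEquiv
  set x := (conjA g * iotaA : MulAut (PSLn n F)) with hx
  set J : Matrix (Fin n) (Fin n) F := ((g⁻¹ : GL (Fin n) F) : Matrix (Fin n) (Fin n) F) with hJ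
  have hJT : Jᵀ = -J := by
    have h1 : Jᵀ * (g : Matrix (Fin n) (Fin n) F)ᵀ = 1 := by
      rw [← Matrix.transpose_mul, hJ, Units.mul_inv, Matrix.transpose_one]
    rw [hg, Matrix.mul_neg] at h1
    have h3 : -Jᵀ = J := by
      calc -Jᵀ = -Jᵀ * ((g : Matrix (Fin n) (Fin n) F) * J) := by rw [hJ, Units.mul_inv, Matrix.mul_one]
        _ = -(Jᵀ * g) * J := by rw [Matrix.neg_mul, Matrix.neg_mul, Matrix.mul_assoc]
        _ = J := by rw [h1, Matrix.one_mul]
    conv_rhs => rw [← h3]
    rw [neg_neg]
  have hn4 : 4 ≤ n := by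
    by_contra hlt
    obtain rfl : n = 3 := by omega
    have h1 := congrArg Matrix.det hg
    rw [Matrix.det_transpose, Matrix.det_neg, Fintype.card_fin] at h1
    exact Matrix.GeneralLinearGroup.det_ne_zero g ((mul_eq_zero.1 (show (2 : F) *
      (g : Matrix (Fin 3) (Fin 3) F).det = 0 by linear_combination h1)).resolve_left h2)
  let B : LinearMap.BilinForm F (Fin n → F) := Matrix.toBilin' J
  have hBv : ∀ u v, B u v = u ⬝ᵥ J *ᵥ v := fun u v => Matrix.toBilin'_apply' J u v
  have hA : B.IsAlt := fun v => by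
    have h1 : v ⬝ᵥ J *ᵥ v = -(v ⬝ᵥ J *ᵥ v) := by
      conv_lhs => rw [Matrix.dotProduct_mulVec, ← Matrix.mulVec_transpose, hJT, dotProduct_comm, Matrix.neg_mulVec,
        dotProduct_neg]
    rw [hBv]
    exact (mul_eq_zero.1 (show (2 : F) * (v ⬝ᵥ J *ᵥ v) = 0 by linear_combination h1)).resolve_left h2
  have hB : B.Nondegenerate := Matrix.Nondegenerate.toBilin'
    (Matrix.nondegenerate_of_det_ne_zero (Matrix.GeneralLinearGroup.det_ne_zero g⁻¹))
  have hdim : 4 ≤ finrank F (Fin n → F) := by rw [Module.finrank_pi, Fintype.card_fin]; exact hn4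
  have hperf := Classical.Alt.commutator_isoGroup hA hB (Or.inr (Or.inl ⟨h2, hdim⟩))
  let φ0 : Classical.Alt.isoGroup B →* GL (Fin n) F :=
    (glLE (n := n) (F := F)).symm.toMonoidHom.comp (Classical.Alt.isoGroup B).subtype
  have hφ0 : ∀ e, φ0 e = glLE.symm e.1 := fun e => rfl
  let φ : Classical.Alt.isoGroup B →* MulAut (PSLn n F) := conjA.comp φ0
  have hdet : ∀ e, (φ0 e : Matrix (Fin n) (Fin n) F).det = 1 := fun e => by
    have he : e ∈ commutator (Classical.Alt.isoGroup B) := hperf ▸ Subgroup.mem_top e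
    have := Abelianization.commutator_subset_ker (Matrix.GeneralLinearGroup.det.comp φ0) he
    exact congrArg Units.val this
  have hcomm : ∀ e, φ e * x = x * φ e := fun e =>
    (conjA_commute_iota_iff r (by omega) g _).2 ⟨1, one_ne_zero, sim_iff.1 fun u v => by
      rw [one_mul, hφ0, glLE_symm_mulVec, glLE_symm_mulVec, ← hBv, ← hBv]
      exact e.2 u v⟩
  have hinn : ∀ e, φ e ∈ LocalBalance.innR (PSLn n F) := fun e => by
    show conjA (φ0 e) ∈ _
    rw [show φ0 e = Matrix.SpecialLinearGroup.toGL ⟨φ0 e, hdet e⟩ from Units.ext rfl]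
    exact sl_conj_mem_inn r _
  refine LocalBalance.witness_of_hom φ (N := Subgroup.center _) ?_ (fun M hM hc => ?_) hinn hcomm ?_ ?_
  · ext e
    rw [MonoidHom.mem_ker]
    show conjA (φ0 e) = 1 ↔ _
    rw [conjA_eq_one_iff r (by omega), center_gl_iff]
    constructor
    · rintro ⟨c, hc⟩
      have hev : ∀ v, e.1 v = (c : F) • v := fun v => by
        rw [← glLE_symm_mulVec e.1 v, ← hφ0, hc, Matrix.scalar_apply, ← Matrix.smul_one_eq_diagonal,
          Matrix.smul_mulVec, Matrix.one_mulVec]
      refine Subgroup.mem_center_iff.2 fun d => Subtype.ext (LinearEquiv.ext fun v => ?_)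
      show d.1 (e.1 v) = e.1 (d.1 v)
      rw [hev, hev, map_smul]
    · intro he
      obtain ⟨c, hc⟩ := Classical.Alt.scalar_of_center hA hB he
      have hc0 : c ≠ 0 := fun h0 => by
        have := hc (Pi.single 0 1)
        rw [h0, zero_smul] at this
        simpa using congrFun (e.1.map_eq_zero_iff.1 this) 0
      exact ⟨Units.mk0 c hc0, Matrix.ext_of_mulVec_single fun l => by
        rw [hφ0, glLE_symm_mulVec, hc, Units.val_mk0, Matrix.scalar_apply, ← Matrix.smul_one_eq_diagonal,
          Matrix.smul_mulVec, Matrix.one_mulVec]⟩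
  · haveI := Classical.Alt.isSimpleGroup_quot_center hA hB hperf
    refine LocalBalance.core_of_simple Nat.prime_two ?_ M hM hc
    exact two_dvd_iso_quot hA hB h2 hdim
  · intro y hy hyx e
    have hyi := inn_le_inndiag (n := n) (F := F) hy
    rw [inndiagPSL_eq] at hyi
    obtain ⟨h, rfl⟩ := hyi
    obtain ⟨c, hc, H⟩ := (conjA_commute_iota_iff r (by omega) g h).1 hyx
    have hmem : glLE h * e.1 * (glLE h)⁻¹ ∈ Classical.Alt.isoGroup B := fun u v => by
      have key : ∀ u v, B (glLE h u) (glLE h v) = c * B u v := fun u v => by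
        rw [hBv, hBv, glLE_apply, glLE_apply]; exact sim_iff.2 H u v
      show B (glLE h (e.1 ((glLE h).symm u))) (glLE h (e.1 ((glLE h).symm v))) = B u v
      rw [key, e.2, ← key, LinearEquiv.apply_symm_apply, LinearEquiv.apply_symm_apply]
    refine ⟨⟨_, hmem⟩, ?_⟩
    show conjA (glLE.symm (glLE h * e.1 * (glLE h)⁻¹)) = conjA h * conjA (glLE.symm e.1) * (conjA h)⁻¹
    rw [map_mul, map_mul, map_inv, map_mul, map_mul, map_inv, MulEquiv.symm_apply_apply]
  · intro y _ hy
    refine mem_zpowers_of_key r hn (X := Set.range φ) (by rintro _ ⟨e, rfl⟩; exact hcomm e) (fun a τ h => ?_)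
      (by rintro _ ⟨e, rfl⟩; exact hy e)
    let T : (Fin n → F) → Fin n → F := fun v => (a : Matrix (Fin n) (Fin n) F) *ᵥ fun i => τ (v i)
    have hline : ∀ v, ∃ c : F, T v = c • v := fun v => by
      by_cases hv : v = 0
      · refine ⟨0, ?_⟩
        subst hv
        show _ *ᵥ (fun i => τ 0) = _
        simp only [map_zero, zero_smul]
        exact Matrix.mulVec_zero _
      obtain ⟨z, -, hz⟩ := Classical.Alt.ndon_top hB v trivial hv
      have hz' : τ (B z v) ≠ 0 := by
        rw [map_ne_zero, Classical.Alt.neg' hA v z]; simpa using hz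
      set t := Classical.Alt.tvE hA v 1
      have hpow : ∀ m : ℕ, t ^ m = Classical.Alt.tvE hA v (m : F) := fun m => by
        induction m with
        | zero => exact Subtype.ext (by rw [pow_zero, Nat.cast_zero]; exact (Classical.Alt.tv_zero hA v).symm)
        | succ m ih => rw [pow_succ, ih, Classical.Alt.tvE_add, Nat.cast_succ]
      have hS : φ0 t ^ r = 1 := by
        rw [← map_pow, hpow, CharP.cast_eq_zero,
          show Classical.Alt.tvE hA v 0 = 1 from Subtype.ext (Classical.Alt.tv_zero hA v), map_one]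
      have h1 := semi_commute r hS (by omega) (h _ ⟨t, rfl⟩)
      refine ⟨(τ (B z v))⁻¹ * B (T z) v, ?_⟩
      have h3 : T (t.1 z) = t.1 (T z) := by
        show _ *ᵥ (fun i => τ (t.1 z i)) = t.1 (_ *ᵥ _)
        rw [← glLE_symm_mulVec t.1 z, ← glLE_symm_mulVec t.1 (_ *ᵥ _), ← hφ0, Matrix.mulVec_mulVec, ← h1,
          ← Matrix.mulVec_mulVec]
        congr 1
        exact funext fun i => RingHom.map_mulVec (τ : F →+* F) _ _ i
      have h4 : T (t.1 z) = T z + τ (B z v) • T v := by
        show _ *ᵥ (fun i => τ ((z + (1 * B z v) • v) i)) = _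
        simp only [Pi.add_apply, Pi.smul_apply, smul_eq_mul, map_add, map_mul, map_one, one_mul]
        rw [show (fun i => τ (z i) + τ (B z v) * τ (v i)) = (fun i => τ (z i)) + τ (B z v) • fun i => τ (v i) from rfl,
          Matrix.mulVec_add, Matrix.mulVec_smul]
      rw [h4, Classical.Alt.tvE_coe, Classical.Alt.tv_apply, one_mul, add_right_inj] at h3
      rw [mul_smul, ← h3, inv_smul_smul₀ hz']
    choose c hc using hline
    set A := (a : Matrix (Fin n) (Fin n) F)
    have hcol : ∀ u k, A u k = if u = k then c (Pi.single k 1) else 0 := fun u k => by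
      have h1 := congrFun (hc (Pi.single k 1)) u
      have h3 : (fun i => τ ((Pi.single k 1 : Fin n → F) i)) = Pi.single k 1 :=
        funext fun i => by by_cases hi : i = k <;> simp [hi]
      simp only [T] at h1
      rw [h3, Matrix.mulVec_single_one] at h1
      by_cases huk : u = k <;> simpa [huk] using h1
    have hrel : ∀ k l : Fin n, k ≠ l → ∀ t, τ t * A l l = t * A k k := fun k l hkl t => by
      have hv : (fun i => τ (((Pi.single k 1 : Fin n → F) + t • (Pi.single l 1 : Fin n → F)) i)) =
          (Pi.single k 1 : Fin n → F) + τ t • (Pi.single l 1 : Fin n → F) := funext fun i => by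
        by_cases hi : i = k
        · subst hi; simp [hkl]
        · by_cases hj : i = l
          · subst hj; simp [hi]
          · simp [hi, hj]
      have h1 := hc ((Pi.single k 1 : Fin n → F) + t • (Pi.single l 1 : Fin n → F))
      simp only [T] at h1
      rw [hv, Matrix.mulVec_add, Matrix.mulVec_smul, Matrix.mulVec_single_one, Matrix.mulVec_single_one] at h1
      have ek := congrFun h1 k
      have el := congrFun h1 l
      have hkl0 : (a : Matrix (Fin n) (Fin n) F) k l = 0 := (hcol k l).trans (if_neg hkl)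
      have hlk0 : (a : Matrix (Fin n) (Fin n) F) l k = 0 := (hcol l k).trans (if_neg hkl.symm)
      simp [hkl, hkl.symm, hkl0, hlk0] at ek el
      show τ t * (a : Matrix (Fin n) (Fin n) F) l l = t * (a : Matrix (Fin n) (Fin n) F) k k
      rw [el, ← ek]
      ring
    have hother : ∀ k : Fin n, ∃ l, k ≠ l := fun k => by
      obtain ⟨l, hl⟩ := Fintype.exists_ne_of_one_lt_card (α := Fin n) (by simp; omega) k
      exact ⟨l, hl.symm⟩
    have hall : ∀ k, A k k = A 0 0 := fun k => by
      by_cases hk : k = 0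
      · rw [hk]
      · simpa using (hrel 0 k (Ne.symm hk) 1)
    have hne : A 0 0 ≠ 0 := fun h0 => Matrix.GeneralLinearGroup.det_ne_zero a
      (Matrix.det_eq_zero_of_row_eq_zero 0 fun j => by
        by_cases hj : (0 : Fin n) = j
        · subst hj; exact h0
        · exact (hcol 0 j).trans (if_neg hj))
    have ha : a ∈ Subgroup.center (GL (Fin n) F) := center_gl_iff.2 ⟨Units.mk0 _ hne, Matrix.ext fun u k => by
      rw [Units.val_mk0, Matrix.scalar_apply, Matrix.diagonal_apply]
      by_cases huk : u = k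
      · subst huk; rw [if_pos rfl]; exact hall u
      · rw [if_neg huk]; exact (hcol u k).trans (if_neg huk)⟩
    have hτ : τ = 1 := RingEquiv.ext fun t => by
      obtain ⟨l, hl⟩ := hother 0
      have := hrel 0 l hl t
      rw [hall l] at this
      exact mul_right_cancel₀ hne this
    rw [center_le_ker a ha, one_mul, hτ, map_one]

end Cfsg.Agent.AutPSL
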