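import Cfsg.Prelude.Def_LieTypeDatum

/-!
Automorphisms of SL_n(F) and PSL_n(F): conjugation by GL, entrywise field automorphisms, inverse transpose;
their relation to the predicates of the prelude; unique p-element lifts from PSL to SL.
-/

set_option autoImplicit false

namespace Cfsg.Agent.AutPSL

open Matrix

variable {n : ℕ} {F : Type*} [Field F]

/-- The special linear group. -/
abbrev SLn (n : ℕ) (F : Type*) [Field F] := Matrix.SpecialLinearGroup (Fin n) F

/-- The projective special linear group. -/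
abbrev PSLn (n : ℕ) (F : Type*) [Field F] := Matrix.ProjectiveSpecialLinearGroup (Fin n) F

/-- The projection. -/
def mkP : SLn n F →* PSLn n F := QuotientGroup.mk' _

theorem mkP_apply (s : SLn n F) : mkP s = QuotientGroup.mk s := rfl

theorem mkP_surjective : Function.Surjective (mkP (n := n) (F := F)) :=
  QuotientGroup.mk'_surjective _

theorem mkP_eq_one_iff {s : SLn n F} : mkP s = 1 ↔ s ∈ Subgroup.center (SLn n F) :=
  QuotientGroup.eq_one_iff s

theorem sl_ext {A B : SLn n F} (h : (A : Matrix (Fin n) (Fin n) F) = (B : Matrix (Fin n) (Fin n) F)) :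
    A = B := Subtype.ext h

theorem map_center (e : MulAut (SLn n F)) :
    (Subgroup.center (SLn n F)).map (e : SLn n F ≃* SLn n F).toMonoidHom = Subgroup.center (SLn n F) := by
  ext x
  simp only [Subgroup.mem_map, MulEquiv.coe_toMonoidHom, Subgroup.mem_center_iff]
  constructor
  · rintro ⟨y, hy, rfl⟩ g
    have := congrArg e (hy (e.symm g))
    simpa using this
  · intro hx
    refine ⟨e.symm x, fun g => e.injective ?_, e.apply_symm_apply x⟩
    simpa using hx (e g)

/-- An automorphism of SL induces one of PSL. -/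
def toPSLAut : MulAut (SLn n F) →* MulAut (PSLn n F) where
  toFun e := QuotientGroup.congr _ _ e (map_center e)
  map_one' := by
    refine MulEquiv.ext fun x => ?_
    obtain ⟨s, rfl⟩ := mkP_surjective x
    rfl
  map_mul' a b := by
    refine MulEquiv.ext fun x => ?_
    obtain ⟨s, rfl⟩ := mkP_surjective x
    rfl

theorem toPSLAut_mkP (e : MulAut (SLn n F)) (s : SLn n F) : toPSLAut e (mkP s) = mkP (e s) := rfl

theorem toPSLAut_mk (e : MulAut (SLn n F)) (s : SLn n F) :
    toPSLAut e (QuotientGroup.mk s) = QuotientGroup.mk (e s) := rfl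

/-- Conjugation of a matrix of determinant one by an invertible matrix. -/
def conjFun (g : GL (Fin n) F) (s : SLn n F) : SLn n F :=
  ⟨(g : Matrix (Fin n) (Fin n) F) * (s : Matrix (Fin n) (Fin n) F) *
    ((g⁻¹ : GL (Fin n) F) : Matrix (Fin n) (Fin n) F), by rw [Matrix.det_units_conj, s.2]⟩

theorem conjFun_coe (g : GL (Fin n) F) (s : SLn n F) :
    (conjFun g s : Matrix (Fin n) (Fin n) F) = (g : Matrix (Fin n) (Fin n) F) *
      (s : Matrix (Fin n) (Fin n) F) * ((g⁻¹ : GL (Fin n) F) : Matrix (Fin n) (Fin n) F) := rfl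

theorem conjFun_mul (g h : GL (Fin n) F) (s : SLn n F) : conjFun (g * h) s = conjFun g (conjFun h s) :=
  sl_ext (by simp only [conjFun_coe, _root_.mul_inv_rev, Units.val_mul, Matrix.mul_assoc])

theorem conjFun_one (s : SLn n F) : conjFun 1 s = s := sl_ext (by simp [conjFun_coe])

/-- Conjugation by GL as automorphisms of SL. -/
def conjSL : GL (Fin n) F →* MulAut (SLn n F) where
  toFun g :=
    { toFun := conjFun g
      invFun := conjFun g⁻¹
      left_inv := fun s => by rw [← conjFun_mul, inv_mul_cancel, conjFun_one]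
      right_inv := fun s => by rw [← conjFun_mul, mul_inv_cancel, conjFun_one]
      map_mul' := fun a b => sl_ext (by
        simp only [conjFun_coe, Matrix.SpecialLinearGroup.coe_mul, Matrix.mul_assoc]
        rw [← Matrix.mul_assoc ((g⁻¹ : GL (Fin n) F) : Matrix (Fin n) (Fin n) F) (g : Matrix (Fin n) (Fin n) F),
          Units.inv_mul, Matrix.one_mul]) }
  map_one' := MulEquiv.ext fun s => conjFun_one s
  map_mul' g h := MulEquiv.ext fun s => conjFun_mul g h s

theorem conjSL_coe (g : GL (Fin n) F) (s : SLn n F) :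
    (conjSL g s : Matrix (Fin n) (Fin n) F) = (g : Matrix (Fin n) (Fin n) F) *
      (s : Matrix (Fin n) (Fin n) F) * ((g⁻¹ : GL (Fin n) F) : Matrix (Fin n) (Fin n) F) := rfl

/-- Field automorphisms as automorphisms of SL. -/
def fieldSL : (F ≃+* F) →* MulAut (SLn n F) where
  toFun σ :=
    { toFun := Matrix.SpecialLinearGroup.map (σ : F →+* F)
      invFun := Matrix.SpecialLinearGroup.map (σ.symm : F →+* F)
      left_inv := fun s => sl_ext (Matrix.ext fun i j => σ.symm_apply_apply _)
      right_inv := fun s => sl_ext (Matrix.ext fun i j => σ.apply_symm_apply _)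
      map_mul' := fun a b => map_mul _ a b }
  map_one' := MulEquiv.ext fun s => sl_ext (Matrix.ext fun i j => rfl)
  map_mul' σ τ := MulEquiv.ext fun s => sl_ext (Matrix.ext fun i j => rfl)

theorem fieldSL_coe (σ : F ≃+* F) (s : SLn n F) :
    (fieldSL σ s : Matrix (Fin n) (Fin n) F) = (s : Matrix (Fin n) (Fin n) F).map σ := rfl

/-- The inverse transpose as an automorphism of SL. -/
def iotaSL : MulAut (SLn n F) where
  toFun s := (s⁻¹).transpose
  invFun s := (s⁻¹).transpose
  left_inv s := sl_ext (by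
    simp only [Matrix.SpecialLinearGroup.coe_transpose, Matrix.SpecialLinearGroup.coe_inv,
      ← Matrix.adjugate_transpose, Matrix.transpose_transpose]
    rw [← Matrix.SpecialLinearGroup.coe_inv, ← Matrix.SpecialLinearGroup.coe_inv, inv_inv])
  right_inv s := sl_ext (by
    simp only [Matrix.SpecialLinearGroup.coe_transpose, Matrix.SpecialLinearGroup.coe_inv,
      ← Matrix.adjugate_transpose, Matrix.transpose_transpose]
    rw [← Matrix.SpecialLinearGroup.coe_inv, ← Matrix.SpecialLinearGroup.coe_inv, inv_inv])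
  map_mul' a b := sl_ext (by
    simp only [Matrix.SpecialLinearGroup.coe_transpose, _root_.mul_inv_rev, Matrix.SpecialLinearGroup.coe_mul,
      Matrix.transpose_mul])

theorem iotaSL_coe (s : SLn n F) :
    (iotaSL s : Matrix (Fin n) (Fin n) F) = ((s⁻¹ : SLn n F) : Matrix (Fin n) (Fin n) F)ᵀ := rfl

theorem iotaSL_iotaSL (s : SLn n F) : iotaSL (iotaSL s) = s := iotaSL.left_inv s

theorem iotaSL_mul_self : (iotaSL (n := n) (F := F)) * iotaSL = 1 := MulEquiv.ext iotaSL_iotaSL

/-- Conjugation automorphisms of PSL. -/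
def conjA : GL (Fin n) F →* MulAut (PSLn n F) := toPSLAut.comp conjSL

/-- Field automorphisms of PSL. -/
def fieldA : (F ≃+* F) →* MulAut (PSLn n F) := toPSLAut.comp fieldSL

/-- The inverse transpose automorphism of PSL. -/
def iotaA : MulAut (PSLn n F) := toPSLAut iotaSL

theorem conjA_mkP (g : GL (Fin n) F) (s : SLn n F) : conjA g (mkP s) = mkP (conjSL g s) := rfl
theorem fieldA_mkP (σ : F ≃+* F) (s : SLn n F) : fieldA σ (mkP s) = mkP (fieldSL σ s) := rfl
theorem iotaA_mkP (s : SLn n F) : iotaA (mkP s) = mkP (iotaSL s) := rfl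

theorem iotaA_mul_self : (iotaA (n := n) (F := F)) * iotaA = 1 := by
  rw [iotaA, ← map_mul, iotaSL_mul_self, map_one]

theorem autExt {α β : MulAut (PSLn n F)} (h : ∀ s : SLn n F, α (mkP s) = β (mkP s)) : α = β :=
  MulEquiv.ext fun x => by obtain ⟨s, rfl⟩ := mkP_surjective x; exact h s

/-- The transpose inverse of an invertible matrix. -/
def itGL (g : GL (Fin n) F) : GL (Fin n) F :=
  ⟨((g⁻¹ : GL (Fin n) F) : Matrix (Fin n) (Fin n) F)ᵀ, (g : Matrix (Fin n) (Fin n) F)ᵀ,
    by rw [← Matrix.transpose_mul, Units.mul_inv, Matrix.transpose_one],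
    by rw [← Matrix.transpose_mul, Units.inv_mul, Matrix.transpose_one]⟩

/-- The image of an invertible matrix under a field automorphism. -/
def fieldGL (σ : F ≃+* F) : GL (Fin n) F →* GL (Fin n) F := Matrix.GeneralLinearGroup.map (σ : F →+* F)

theorem fieldGL_coe (σ : F ≃+* F) (g : GL (Fin n) F) :
    (fieldGL σ g : Matrix (Fin n) (Fin n) F) = (g : Matrix (Fin n) (Fin n) F).map σ := rfl

theorem conjA_iota (g : GL (Fin n) F) : iotaA * conjA g = conjA (itGL g) * iotaA := by
  refine autExt fun s => ?_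
  show mkP (iotaSL (conjSL g s)) = mkP (conjSL (itGL g) (iotaSL s))
  congr 1
  refine sl_ext ?_
  rw [iotaSL_coe, ← map_inv, conjSL_coe, conjSL_coe, iotaSL_coe, Matrix.transpose_mul, Matrix.transpose_mul,
    ← Matrix.mul_assoc]
  rfl

theorem conjA_field (σ : F ≃+* F) (g : GL (Fin n) F) : fieldA σ * conjA g = conjA (fieldGL σ g) * fieldA σ := by
  refine autExt fun s => ?_
  show mkP (fieldSL σ (conjSL g s)) = mkP (conjSL (fieldGL σ g) (fieldSL σ s))
  congr 1
  refine sl_ext ?_
  rw [fieldSL_coe, conjSL_coe, conjSL_coe, fieldSL_coe, ← map_inv, fieldGL_coe, fieldGL_coe]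
  rw [Matrix.map_mul, Matrix.map_mul]

theorem fieldA_iota (σ : F ≃+* F) : iotaA * fieldA σ = (fieldA σ * iotaA : MulAut (PSLn n F)) := by
  refine autExt fun s => ?_
  show mkP (iotaSL (fieldSL σ s)) = mkP (fieldSL σ (iotaSL s))
  congr 1
  refine sl_ext ?_
  rw [iotaSL_coe, ← map_inv, fieldSL_coe, fieldSL_coe, iotaSL_coe, Matrix.transpose_map]

theorem isInnerDiagonal_iff {β : MulAut (PSLn n F)} : IsInnerDiagonalAutPSL β ↔ ∃ g, β = conjA g := by
  constructor
  · rintro ⟨g, hg⟩
    exact ⟨g, autExt fun s => hg s (conjSL g s) rfl⟩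
  · rintro ⟨g, rfl⟩
    refine ⟨g, fun s s' h => ?_⟩
    rw [← mkP_apply, ← mkP_apply, conjA_mkP]
    congr 1
    exact (sl_ext (h.trans (conjSL_coe g s).symm)).symm

theorem isStdField_iff {β : MulAut (PSLn n F)} {σ : F ≃+* F} : IsStdFieldAutPSL σ β ↔ β = fieldA σ := by
  constructor
  · intro hg
    exact autExt fun s => hg s (fieldSL σ s) rfl
  · rintro rfl s s' h
    rw [← mkP_apply, ← mkP_apply, fieldA_mkP]
    congr 1
    exact (sl_ext (h.trans (fieldSL_coe σ s).symm)).symm

theorem isInverseTranspose_iff {β : MulAut (PSLn n F)} : IsInverseTransposeAutPSL β ↔ β = iotaA := by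
  constructor
  · intro hg
    exact autExt fun s => hg s (iotaSL s) rfl
  · rintro rfl s s' h
    rw [← mkP_apply, ← mkP_apply, iotaA_mkP]
    congr 1
    exact (sl_ext (h.trans (iotaSL_coe s).symm)).symm

theorem isInduced_iff {β : MulAut (PSLn n F)} {g : GL (Fin n) F} {σ : F ≃+* F} :
    IsInducedBySemilinearPSL g σ β ↔ β = conjA g * fieldA σ := by
  constructor
  · intro hg
    refine autExt fun s => hg s (conjSL g (fieldSL σ s)) ?_
    rw [conjSL_coe, fieldSL_coe]
  · rintro rfl s s' h
    show mkP (conjSL g (fieldSL σ s)) = mkP s'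
    congr 1
    refine (sl_ext (h.trans ?_)).symm
    rw [conjSL_coe, fieldSL_coe]

theorem inndiagPSL_eq : inndiagPSL n F = (conjA (n := n) (F := F)).range := by
  have : {β : MulAut (PSLn n F) | IsInnerDiagonalAutPSL β} = ((conjA (n := n) (F := F)).range : Set _) := by
    ext β
    rw [Set.mem_ofPred_eq, isInnerDiagonal_iff]
    exact ⟨fun ⟨g, h⟩ => ⟨g, h.symm⟩, fun ⟨g, h⟩ => ⟨g, h.symm⟩⟩
  rw [inndiagPSL, autSubgroupOf, this, Subgroup.closure_eq]

/-- Conjugation by an element of SL is inner. -/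
theorem conjA_toGL (s : SLn n F) :
    conjA (Matrix.SpecialLinearGroup.toGL s) = MulAut.conj (mkP s) := by
  refine autExt fun t => ?_
  rw [conjA_mkP, MulAut.conj_apply, ← map_inv, ← map_mul, ← map_mul]
  congr 1

section Lift

variable (p : ℕ) [Fact p.Prime] [CharP F p]

/-- A central element of SL of p-power order is trivial in characteristic p. -/
theorem center_pow_p_eq_one {z : SLn n F} (hz : z ∈ Subgroup.center (SLn n F)) {k : ℕ}
    (hk : z ^ p ^ k = 1) : z = 1 := by
  obtain ⟨r, -, hr⟩ := Matrix.SpecialLinearGroup.mem_center_iff.1 hz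
  rcases Nat.eq_zero_or_pos n with hn | hn
  · subst hn
    exact sl_ext (Matrix.ext fun i => i.elim0)
  · have h1 : (Matrix.scalar (Fin n) r) ^ p ^ k = 1 := by
      rw [hr, ← Matrix.SpecialLinearGroup.coe_pow, hk]; rfl
    rw [← map_pow] at h1
    have h2 : r ^ p ^ k = 1 := by
      have := congrFun (congrFun h1 ⟨0, hn⟩) ⟨0, hn⟩
      simpa using this
    have h3 : (r - 1) ^ p ^ k = 0 := by rw [sub_pow_char_pow, h2, one_pow, sub_self]
    have h4 : r = 1 := sub_eq_zero.1 (eq_zero_of_pow_eq_zero h3)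
    exact sl_ext (by rw [← hr, h4, map_one]; rfl)

/-- p-elements are determined by their class in PSL. -/
theorem eq_of_mkP_eq {a b : SLn n F} {k l : ℕ} (ha : a ^ p ^ k = 1) (hb : b ^ p ^ l = 1)
    (h : mkP a = mkP b) : a = b := by
  have hz : a⁻¹ * b ∈ Subgroup.center (SLn n F) := mkP_eq_one_iff.1 (by rw [map_mul, map_inv, h, inv_mul_cancel])
  have hc : Commute a⁻¹ b := by
    have h1 : a * (a⁻¹ * b) = a⁻¹ * b * a := (Subgroup.mem_center_iff.1 hz) a
    rw [mul_inv_cancel_left] at h1
    show a⁻¹ * b = b * a⁻¹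
    calc a⁻¹ * b = a⁻¹ * b * a * a⁻¹ := (mul_inv_cancel_right _ _).symm
      _ = b * a⁻¹ := by rw [← h1]
  have h2 : (a⁻¹ * b) ^ p ^ (k + l) = 1 := by
    rw [hc.mul_pow, pow_add, pow_mul, inv_pow, ha, inv_one, one_pow, one_mul, mul_comm, pow_mul, hb, one_pow]
  exact eq_of_inv_mul_eq_one (center_pow_p_eq_one p hz h2)

/-- Commuting in PSL lifts for p-elements. -/
theorem commute_of_mkP {a b : SLn n F} {k : ℕ} (ha : a ^ p ^ k = 1) (h : Commute (mkP a) (mkP b)) :
    Commute a b := by
  have h1 : b * a * b⁻¹ = a := eq_of_mkP_eq p (by rw [conj_pow, ha, mul_one, mul_inv_cancel]) ha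
    (by rw [map_mul, map_mul, map_inv, ← h.eq, mul_inv_cancel_right])
  show a * b = b * a
  calc a * b = b * a * b⁻¹ * b := by rw [h1]
    _ = b * a := inv_mul_cancel_right _ _

end Lift

end Cfsg.Agent.AutPSL
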