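import Cfsg.Agent.AutPSL.RootElt

/-!
Every automorphism of PSL_n over a finite field, n at least 3, is inner-diagonal times field times
(identity or inverse transpose).
-/

set_option autoImplicit false

namespace Cfsg.Agent.AutPSL

open Matrix
open Cfsg.Agent.UniTri
open scoped commutatorElement

variable {n : ℕ} {F : Type*} [Field F]

theorem one_mapsMat (x : SLn n F) : MapsMat 1 x (x : Matrix (Fin n) (Fin n) F) := ⟨x, rfl, rfl⟩

theorem mapsMat_iota {β : MulAut (PSLn n F)} {x : SLn n F} {M : Matrix (Fin n) (Fin n) F} :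
    MapsMat (β * iotaA) x M ↔ MapsMat β (iotaSL x) M := Iff.rfl

theorem iotaSL_xr {i j : Fin n} (hij : i ≠ j) (t : F) : iotaSL (xr hij t) = xr hij.symm (-t) := by
  refine sl_ext ?_
  rw [iotaSL_coe, Matrix.SpecialLinearGroup.transvection_inv, Matrix.SpecialLinearGroup.transvection_coe,
    Matrix.SpecialLinearGroup.transvection_coe, Matrix.transpose_add, Matrix.transpose_one,
    Matrix.transpose_single]

theorem row_conj_eq {i j k : Fin n} (hij : i ≠ j) (hik : i ≠ k) (hjk : j ≠ k) :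
    xr hjk (-1 : F) * xr hij 1 * (xr hjk (-1))⁻¹ = xr hik 1 * xr hij 1 := by
  have h := Classical.comm_tv hik hij hjk (1 : F) (-1)
  rw [commutatorElement_def, one_mul] at h
  have e : (xr hik (-1 : F))⁻¹ = xr hik 1 := by rw [Matrix.SpecialLinearGroup.transvection_inv, neg_neg]
  rw [← e, show (xr hik (-1 : F)) = xr hij 1 * xr hjk (-1) * (xr hij 1)⁻¹ * (xr hjk (-1))⁻¹ from h.symm]
  group

theorem col_conj_eq {i j l : Fin n} (hij : i ≠ j) (hlj : l ≠ j) (hli : l ≠ i) :
    xr hli (1 : F) * xr hij 1 * (xr hli 1)⁻¹ = xr hlj 1 * xr hij 1 := by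
  have h := Classical.comm_tv hlj hli hij (1 : F) 1
  rw [commutatorElement_def, one_mul] at h
  rw [show xr hlj (1 : F) = xr hli 1 * xr hij 1 * (xr hli 1)⁻¹ * (xr hij 1)⁻¹ from h.symm]
  group

/-- Two automorphisms agreeing on transvections are equal. -/
theorem ext_xr {α β : MulAut (PSLn n F)}
    (h : ∀ (i j : Fin n) (hij : i ≠ j) (t : F), α (mkP (xr hij t)) = β (mkP (xr hij t))) : α = β := by
  have := Classical.sl_eq_top_of_transvection
    (MonoidHom.eqLocus ((α : PSLn n F ≃* PSLn n F).toMonoidHom.comp mkP)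
      ((β : PSLn n F ≃* PSLn n F).toMonoidHom.comp mkP)) h
  exact autExt fun s => (this.symm ▸ Subgroup.mem_top s :
    s ∈ MonoidHom.eqLocus ((α : PSLn n F ≃* PSLn n F).toMonoidHom.comp mkP)
      ((β : PSLn n F ≃* PSLn n F).toMonoidHom.comp mkP))

section Data

variable (β : MulAut (PSLn n F))

/-- A choice of rank one images of the root elements with parameter one. -/
def IsData (v f : Fin n → Fin n → Fin n → F) : Prop :=
  ∀ (i j : Fin n) (hij : i ≠ j), IsImage β hij (v i j) (f i j) ∧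
    MapsMat β (xr hij 1) (1 + Matrix.vecMulVec (v i j) (f i j))

variable [Finite F] (p : ℕ) [Fact p.Prime] [CharP F p]
include p

theorem exists_data (hn : 3 ≤ n) : ∃ v f, IsData β v f := by
  classical
  haveI : NeZero n := ⟨by omega⟩
  have key : ∀ (i j : Fin n), ∃ v f : Fin n → F, ∀ hij : i ≠ j,
      IsImage β hij v f ∧ MapsMat β (xr hij 1) (1 + Matrix.vecMulVec v f) := by
    intro i j
    by_cases hij : i = j
    · exact ⟨0, 0, fun h => absurd hij h⟩
    obtain ⟨v, f, hv, hf, hd, hall⟩ := exists_isImage p hn β hij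
    obtain ⟨c, hc⟩ := hall 1
    have hc0 : c ≠ 0 := by
      rintro rfl
      obtain ⟨s, hs, hβ⟩ := hc
      rw [zero_smul, Matrix.zero_vecMulVec, add_zero] at hs
      have hs1 : s = 1 := sl_ext hs
      rw [hs1, map_one] at hβ
      have h1 : xr hij (1 : F) = 1 :=
        eq_of_mkP_eq p (xr_pow p hij 1) (one_pow (p ^ 1))
          (by rw [map_one]; exact β.injective (hβ.trans (map_one β).symm))
      have h2 := congrFun (congrFun (congrArg Subtype.val h1) i) j
      rw [Matrix.SpecialLinearGroup.transvection_coe] at h2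
      simp [Matrix.one_apply_ne hij] at h2
    refine ⟨c • v, f, fun _ => ⟨⟨smul_ne_zero hc0 hv, hf, by rw [dotProduct_smul, hd, smul_zero], fun t => ?_⟩, hc⟩⟩
    obtain ⟨d, hd'⟩ := hall t
    exact ⟨d / c, by rwa [smul_smul, div_mul_cancel₀ _ hc0]⟩
  choose v f h using key
  exact ⟨v, f, fun i j hij => h i j hij⟩

variable {β} {v f : Fin n → Fin n → Fin n → F} (D : IsData β v f)
include D

omit [Finite F] in
theorem dot_iff [NeZero n] {i j k l : Fin n} (hij : i ≠ j) (hkl : k ≠ l) :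
    (f i j ⬝ᵥ v k l = 0 ∧ f k l ⬝ᵥ v i j = 0) ↔ (j ≠ k ∧ l ≠ i) := by
  obtain ⟨⟨hv, hf, hd, -⟩, h1⟩ := D i j hij
  obtain ⟨⟨hv', hf', hd', -⟩, h2⟩ := D k l hkl
  rw [← h1.commute_iff p h2 (xr_pow p hij 1) hd hd' hv hf hv' hf']
  have e : ∀ a b : Fin n, ((Pi.single a (1 : F) : Fin n → F) ⬝ᵥ Pi.single b 1 = 0 ↔ a ≠ b) := by
    intro a b
    rw [single_dotProduct, one_mul, Pi.single_apply]
    split_ifs with h <;> simp [h]
  have h1' : MapsMat 1 (xr hij (1 : F)) (1 + Matrix.vecMulVec (Pi.single i 1) (Pi.single j 1)) := by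
    rw [← xr_coe hij 1]; exact one_mapsMat _
  have h2' : MapsMat 1 (xr hkl (1 : F)) (1 + Matrix.vecMulVec (Pi.single k 1) (Pi.single l 1)) := by
    rw [← xr_coe hkl 1]; exact one_mapsMat _
  rw [h1'.commute_iff p h2' (xr_pow p hij 1) ((e j i).2 hij.symm) ((e l k).2 hkl.symm)
    (Pi.single_ne_zero_iff.2 one_ne_zero) (Pi.single_ne_zero_iff.2 one_ne_zero)
    (Pi.single_ne_zero_iff.2 one_ne_zero) (Pi.single_ne_zero_iff.2 one_ne_zero), e, e]

omit [Finite F] in
theorem share [NeZero n] {i j k l a b : Fin n} (hij : i ≠ j) (hkl : k ≠ l) (hab : a ≠ b) (r : F)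
    (hc : j ≠ k ∧ l ≠ i) (he : xr hab r * xr hij 1 * (xr hab r)⁻¹ = xr hkl 1 * xr hij 1) :
    Par (v i j) (v k l) ∨ Par (f i j) (f k l) := by
  obtain ⟨hd1, hd2⟩ := (dot_iff p D hij hkl).2 hc
  obtain ⟨⟨hv, hf, hd, -⟩, s, hs, hβs⟩ := D i j hij
  obtain ⟨⟨hv', hf', hd', -⟩, t, ht, hβt⟩ := D k l hkl
  obtain ⟨u, hu⟩ := mkP_surjective (β (mkP (xr hab r)))
  have hm : mkP (u * s * u⁻¹) = mkP (t * s) := by
    rw [map_mul, map_mul, map_inv, map_mul, hu, ← hβs, ← hβt, ← map_inv, ← map_mul, ← map_mul, ← map_mul,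
      ← map_inv, ← map_mul, ← map_mul, ← map_mul, he]
  have hts : ((t * s : SLn n F) : Matrix (Fin n) (Fin n) F) =
      1 + (Matrix.vecMulVec (v k l) (f k l) + Matrix.vecMulVec (v i j) (f i j)) := by
    rw [Matrix.SpecialLinearGroup.coe_mul, hs, ht, rankOne_mul, hd2, zero_smul, add_zero]
  have hp1 : (u * s * u⁻¹) ^ p ^ 1 = 1 := by
    rw [conj_pow, rankOne_pow p hs hd, mul_one, mul_inv_cancel]
  have hp2 : (t * s) ^ p ^ 1 = 1 := by
    refine sl_ext ?_
    rw [Matrix.SpecialLinearGroup.coe_pow, hts, pow_one, sq_zero_pow_p p]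
    · rfl
    · simp only [Matrix.add_mul, Matrix.mul_add, Matrix.vecMulVec_mul_vecMulVec, hd, hd', hd1, hd2, zero_smul,
        Matrix.vecMulVec_zero, add_zero]
  have heq := congrArg Subtype.val (eq_of_mkP_eq p hp1 hp2 hm)
  simp only [Matrix.SpecialLinearGroup.coe_mul] at heq
  rw [← Matrix.SpecialLinearGroup.coe_mul t s, hts, hs] at heq
  have hconj := rankOne_conj (Matrix.SpecialLinearGroup.toGL u) (v i j) (f i j)
  rw [← map_inv] at hconj
  have h3 : (1 : Matrix (Fin n) (Fin n) F) +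
      (Matrix.vecMulVec (v i j) (f i j) + Matrix.vecMulVec (v k l) (f k l)) = 1 + _ :=
    (by rw [add_comm (Matrix.vecMulVec (v i j) (f i j))]; exact heq.symm : _ = _).trans hconj
  exact par_or_par (add_left_cancel h3)

omit [Finite F] in
theorem row_share [NeZero n] {i j k : Fin n} (hij : i ≠ j) (hik : i ≠ k) (hjk : j ≠ k) :
    Par (v i j) (v i k) ∨ Par (f i j) (f i k) :=
  share p D hij hik hjk (-1) ⟨hij.symm, hik.symm⟩ (row_conj_eq hij hik hjk)

omit [Finite F] in
theorem col_share [NeZero n] {i j l : Fin n} (hij : i ≠ j) (hlj : l ≠ j) (hli : l ≠ i) :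
    Par (v i j) (v l j) ∨ Par (f i j) (f l j) :=
  share p D hij hlj hli 1 ⟨hlj.symm, hij.symm⟩ (col_conj_eq hij hlj hli)

omit [Finite F] in
theorem row_excl [NeZero n] {i j k : Fin n} (hij : i ≠ j) (hik : i ≠ k) (hjk : j ≠ k) :
    ¬ (Par (v i j) (v i k) ∧ Par (f i j) (f i k)) := by
  rintro ⟨hP, hK⟩
  obtain ⟨h1, h2⟩ := (dot_iff p D hik hjk).2 ⟨hjk.symm, hik.symm⟩
  obtain ⟨⟨hv, hf, -, -⟩, -⟩ := D i k hik
  exact ((dot_iff p D hij hjk).1
    ⟨hK.symm.dot_eq_zero' hf h1, hP.symm.dot_eq_zero hv h2⟩).1 rfl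

omit [Finite F] in
theorem par_v_iff [NeZero n] {i j k : Fin n} (hij : i ≠ j) (hik : i ≠ k) (hjk : j ≠ k) :
    Par (v i j) (v i k) ↔ Par (f i j) (f k j) := by
  obtain ⟨⟨hv, hf, -, -⟩, -⟩ := D i j hij
  obtain ⟨⟨hvk, hfk, hdk, -⟩, -⟩ := D i k hik
  obtain ⟨⟨hvl, hfl, hdl, -⟩, -⟩ := D k j hjk.symm
  have chain : ¬ (f i k ⬝ᵥ v k j = 0 ∧ f k j ⬝ᵥ v i k = 0) := fun h =>
    ((dot_iff p D hik hjk.symm).1 h).1 rfl
  have c1 : Par (v i j) (v i k) → ¬ Par (v i j) (v k j) := fun h1 h2 =>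
    chain ⟨(Par.trans hv h1.symm h2).dot_eq_zero hvk hdk, (Par.trans hv h2.symm h1).dot_eq_zero hvl hdl⟩
  have c2 : Par (f i j) (f i k) → ¬ Par (f i j) (f k j) := fun h1 h2 =>
    chain ⟨(Par.trans hf h2.symm h1).dot_eq_zero' hfl hdl, (Par.trans hf h1.symm h2).dot_eq_zero' hfk hdk⟩
  constructor
  · intro h
    exact (col_share p D hij hjk.symm hik.symm).resolve_left (c1 h)
  · intro h
    exact (row_share p D hij hik hjk).resolve_right fun h' => c2 h' h

omit [Finite F] in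
theorem par_v_symm [NeZero n] {i j k : Fin n} (hij : i ≠ j) (hik : i ≠ k) (hjk : j ≠ k)
    (h : Par (v i j) (v i k)) : Par (v k j) (v k i) :=
  (par_v_iff p D hjk.symm hik.symm hij.symm).2 ((par_v_iff p D hij hik hjk).1 h).symm

omit [Finite F] in
theorem par_v_adj [NeZero n] {i j k l : Fin n} (hij : i ≠ j) (hik : i ≠ k) (hjk : j ≠ k) (hil : i ≠ l)
    (h : Par (v i j) (v i k)) : Par (v i j) (v i l) := by
  by_cases hjl : j = l
  · subst hjl; exact fun a b => mul_comm _ _
  by_cases hkl : k = l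
  · subst hkl; exact h
  rcases row_share p D hij hil hjl with h1 | h1
  · exact h1
  rcases row_share p D hik hil hkl with h2 | h2
  · exact Par.trans (D i k hik).1.1 h h2
  · exact absurd ⟨h, Par.trans (D i l hil).1.2.1 h1 h2.symm⟩ (row_excl p D hij hik hjk)

omit [Finite F] in
theorem par_v_all [NeZero n] {a b c : Fin n} (hab : a ≠ b) (hac : a ≠ c) (hbc : b ≠ c)
    (h : Par (v a b) (v a c)) {i j k : Fin n} (hij : i ≠ j) (hik : i ≠ k) (hjk : j ≠ k) :
    Par (v i j) (v i k) := by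
  have row : ∀ {x y z : Fin n}, x ≠ y → x ≠ z → y ≠ z → Par (v x y) (v x z) →
      ∀ y' z', x ≠ y' → x ≠ z' → Par (v x y') (v x z') := fun {x y z} hxy hxz hyz h y' z' h1 h2 =>
    Par.trans (D x y hxy).1.1 (par_v_adj p D hxy hxz hyz h1 h).symm (par_v_adj p D hxy hxz hyz h2 h)
  by_cases hai : a = i
  · subst hai; exact row hab hac hbc h j k hij hik
  obtain ⟨m, hma, hmi⟩ : ∃ m, a ≠ m ∧ i ≠ m := by
    by_cases hbi : b = i
    · exact ⟨c, hac, hbi ▸ hbc⟩
    · exact ⟨b, hab, Ne.symm hbi⟩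
  have h1 : Par (v a m) (v a i) := row hab hac hbc h m i hma hai
  have h2 : Par (v i m) (v i a) := par_v_symm p D hma hai hmi.symm h1
  exact row hmi (Ne.symm hai) hma.symm h2 j k hij hik

omit [Finite F] in
theorem exists_coord_of_par [NeZero n] (hn : 3 ≤ n)
    (hP : ∀ {i j k : Fin n}, i ≠ j → i ≠ k → j ≠ k → Par (v i j) (v i k)) :
    ∃ g : GL (Fin n) F, ∀ (i j : Fin n) (hij : i ≠ j) (t : F),
      ∃ c, conjA g (β (mkP (xr hij t))) = mkP (xr hij c) := by
  classical
  have other : ∀ i : Fin n, ∃ j, i ≠ j := fun i => by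
    have : 1 < Fintype.card (Fin n) := by simp; omega
    obtain ⟨j, hj⟩ := Fintype.exists_ne_of_one_lt_card this i
    exact ⟨j, hj.symm⟩
  choose o ho using other
  let V : Fin n → Fin n → F := fun i => v i (o i)
  let W : Fin n → Fin n → F := fun j => f (o j) j
  have hV : ∀ {i j}, i ≠ j → Par (V i) (v i j) := fun {i j} hij => by
    by_cases h : o i = j
    · show Par (v i (o i)) (v i j); rw [h]; exact fun a b => mul_comm _ _
    · exact hP (ho i) hij h
  have hW : ∀ {i j}, i ≠ j → Par (W j) (f i j) := fun {i j} hij => by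
    by_cases h : o j = i
    · show Par (f (o j) j) (f i j); rw [h]; exact fun a b => mul_comm _ _
    · exact (par_v_iff p D (ho j).symm h hij.symm).1 (hP (ho j).symm h hij.symm)
  have hWV : ∀ {i j}, i ≠ j → W j ⬝ᵥ V i = 0 := fun {i j} hij => by
    obtain ⟨⟨hv, hf, hd, -⟩, -⟩ := D i j hij
    exact (hV hij).symm.dot_eq_zero hv ((hW hij).symm.dot_eq_zero' hf hd)
  have hWV' : ∀ i, W i ⬝ᵥ V i ≠ 0 := fun i h0 => by
    obtain ⟨l, hl1, hl2⟩ : ∃ l, i ≠ l ∧ o i ≠ l := by
      by_contra hc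
      push Not at hc
      have h1 : (Finset.univ : Finset (Fin n)) ⊆ {i, o i} := fun z _ => by
        by_cases hz : i = z
        · simp [← hz]
        · simp [hc z hz]
      have := (Finset.card_le_card h1).trans Finset.card_le_two
      simp at this; omega
    have hVne : V i ≠ 0 := (D i (o i) (ho i)).1.1
    have hWne : W i ≠ 0 := (D (o i) i (ho i).symm).1.2.1
    refine ((dot_iff p D hl1.symm (ho i)).1 ⟨?_, ?_⟩).1 rfl
    · exact (hV (ho i)).dot_eq_zero hVne ((hW hl1.symm).dot_eq_zero' hWne h0)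
    · exact (hV hl1.symm).dot_eq_zero (D l (o l) (ho l)).1.1
        ((hW (ho i)).dot_eq_zero' (D (o (o i)) (o i) (ho _).symm).1.2.1 (hWV (Ne.symm hl2)))
  set M : Matrix (Fin n) (Fin n) F := Matrix.of fun r i => V i r with hM
  have hMdet : M.det ≠ 0 := by
    have h : (Matrix.of fun j r => W j r) * M = Matrix.diagonal fun i => W i ⬝ᵥ V i := by
      ext a b
      rw [Matrix.mul_apply, Matrix.diagonal_apply]
      by_cases hab : a = b
      · subst hab; rw [if_pos rfl]; rfl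
      · rw [if_neg hab]; exact hWV (Ne.symm hab)
    intro h0
    have := congrArg Matrix.det h
    rw [Matrix.det_mul, h0, mul_zero, Matrix.det_diagonal] at this
    exact (Finset.prod_ne_zero_iff.2 fun i _ => hWV' i) this.symm
  let G : GL (Fin n) F := Matrix.GeneralLinearGroup.mkOfDetNeZero M hMdet
  refine ⟨G⁻¹, fun i j hij t => ?_⟩
  obtain ⟨⟨hv, hf, hd, hall⟩, -⟩ := D i j hij
  obtain ⟨c, s, hs, hβ⟩ := hall t
  obtain ⟨a, ha⟩ := (hV hij).exists_smul (D i (o i) (ho i)).1.1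
  obtain ⟨b, hb⟩ := (hW hij).exists_smul (D (o j) j (ho j).symm).1.2.1
  have hcol : (G : Matrix (Fin n) (Fin n) F) *ᵥ Pi.single i 1 = V i := by
    funext r; rw [Matrix.mulVec_single_one]; rfl
  have hrow : W j ᵥ* (G : Matrix (Fin n) (Fin n) F) = (W j ⬝ᵥ V j) • Pi.single j 1 := by
    funext r
    rw [Pi.smul_apply, Pi.single_apply, smul_eq_mul]
    show W j ⬝ᵥ V r = _
    by_cases hr : r = j
    · subst hr; rw [if_pos rfl, mul_one]
    · rw [if_neg hr, mul_zero]; exact hWV hr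
  refine ⟨c * a * (b * (W j ⬝ᵥ V j)), ?_⟩
  rw [hβ, conjA_mkP]
  congr 1
  refine sl_ext ?_
  rw [conjSL_coe, hs, rankOne_conj, inv_inv, xr_coe, ha, hb, Matrix.mulVec_smul, Matrix.mulVec_smul,
    show ((G⁻¹ : GL (Fin n) F) : Matrix (Fin n) (Fin n) F) *ᵥ V i = Pi.single i 1 by
      rw [← hcol, Matrix.mulVec_mulVec, Units.inv_mul, Matrix.one_mulVec],
    Matrix.smul_vecMul, hrow]
  congr 1
  rw [Matrix.vecMulVec_smul, Matrix.vecMulVec_smul, Matrix.smul_vecMulVec, Matrix.smul_vecMulVec,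
    show (Pi.single i (c * a * (b * (W j ⬝ᵥ V j))) : Fin n → F) = (c * a * (b * (W j ⬝ᵥ V j))) • Pi.single i 1 by
      rw [← Pi.single_smul, smul_eq_mul, mul_one],
    Matrix.smul_vecMulVec, smul_smul, smul_smul, smul_smul]
  congr 1
  ring

end Data

variable [Finite F] (p : ℕ) [Fact p.Prime] [CharP F p]
include p

/-- Up to a graph automorphism and a change of basis, root groups are fixed. -/
theorem exists_coord (hn : 3 ≤ n) (β : MulAut (PSLn n F)) :
    ∃ (g : GL (Fin n) F) (γ : MulAut (PSLn n F)), (γ = 1 ∨ γ = iotaA) ∧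
      ∀ (i j : Fin n) (hij : i ≠ j) (t : F), ∃ c, (conjA g * β * γ) (mkP (xr hij t)) = mkP (xr hij c) := by
  classical
  haveI : NeZero n := ⟨by omega⟩
  obtain ⟨v, f, D⟩ := exists_data β p hn
  by_cases hex : ∃ a b c : Fin n, a ≠ b ∧ a ≠ c ∧ b ≠ c ∧ Par (v a b) (v a c)
  · obtain ⟨a, b, c, hab, hac, hbc, h⟩ := hex
    obtain ⟨g, hg⟩ := exists_coord_of_par p D hn (fun h1 h2 h3 => par_v_all p D hab hac hbc h h1 h2 h3)
    exact ⟨g, 1, Or.inl rfl, fun i j hij t => hg i j hij t⟩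
  · obtain ⟨v', f', D'⟩ := exists_data (β * iotaA) p hn
    have hkey : ∀ {i j : Fin n}, i ≠ j → Par (v j i) (v' i j) := by
      intro i j hij
      obtain ⟨⟨hv, hf, hd, -⟩, h1⟩ := D' i j hij
      obtain ⟨⟨hv0, hf0, hd0, hall⟩, -⟩ := D j i hij.symm
      obtain ⟨c, hc⟩ := hall (-1)
      rw [mapsMat_iota, iotaSL_xr] at h1
      have e := h1.unique p hc hd (by rw [dotProduct_smul, hd0, smul_zero])
      have hc0 : c ≠ 0 := by
        rintro rfl
        rw [zero_smul, Matrix.zero_vecMulVec] at e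
        exact vecMulVec_ne_zero' hv hf e
      exact Par.trans (smul_ne_zero hc0 hv0) (par_smul _ c) (par_of_vecMulVec_eq hf e).symm
    obtain ⟨g, hg⟩ := exists_coord_of_par p D' hn (fun {i j k} hij hik hjk => by
      have h0 : ¬ Par (v j i) (v j k) := fun h => hex ⟨j, i, k, hij.symm, hjk, hik, h⟩
      have h1 : Par (v j i) (v k i) := (col_share p D hij.symm hik.symm hjk.symm).resolve_right
        (fun h => h0 ((par_v_iff p D hij.symm hjk hik).2 h))
      exact Par.trans (D j i hij.symm).1.1 (hkey hij).symm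
        (Par.trans (D k i hik.symm).1.1 h1 (hkey hik)))
    exact ⟨g, iotaA, Or.inr rfl, fun i j hij t => hg i j hij t⟩

theorem xr_mkP_inj {i j : Fin n} (hij : i ≠ j) {a b : F} (h : mkP (xr hij a) = mkP (xr hij b)) : a = b := by
  haveI : NeZero n := ⟨fun h0 => by subst h0; exact i.elim0⟩
  have h2 := congrFun (congrFun (congrArg Subtype.val (eq_of_mkP_eq p (xr_pow p hij a) (xr_pow p hij b) h)) i) j
  simpa [Matrix.SpecialLinearGroup.transvection_coe, Matrix.one_apply_ne hij] using h2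

omit [Finite F] p in
theorem conjA_diag_xr (d : Fin n → Fˣ) {i j : Fin n} (hij : i ≠ j) (b : F) :
    conjA (Classical.diagGL d) (mkP (xr hij b)) = mkP (xr hij ((d i : F) * b * ((d j)⁻¹ : Fˣ))) := by
  rw [conjA_mkP]
  congr 1
  refine sl_ext ?_
  rw [conjSL_coe]
  have h := congrArg Units.val (Classical.diagGL_mul_tv hij d b)
  simp only [Units.val_mul] at h
  rw [show ((xr hij b : SLn n F) : Matrix (Fin n) (Fin n) F) =
    ((Matrix.SpecialLinearGroup.toGL (xr hij b) : GL (Fin n) F) : Matrix (Fin n) (Fin n) F) from rfl, h,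
    Matrix.mul_assoc, Units.mul_inv, Matrix.mul_one]
  rfl

/-- An automorphism fixing each root group is diagonal times field. -/
theorem exists_field (hn : 3 ≤ n) (α : MulAut (PSLn n F))
    (h : ∀ (i j : Fin n) (hij : i ≠ j) (t : F), ∃ c, α (mkP (xr hij t)) = mkP (xr hij c)) :
    ∃ (g : GL (Fin n) F) (σ : F ≃+* F), conjA g * α = fieldA σ := by
  classical
  have key : ∀ (i j : Fin n) (t : F), ∃ c, ∀ hij : i ≠ j, α (mkP (xr hij t)) = mkP (xr hij c) := fun i j t => by
    by_cases hij : i = j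
    · exact ⟨0, fun h => absurd hij h⟩
    · obtain ⟨c, hc⟩ := h i j hij t; exact ⟨c, fun _ => hc⟩
  choose a ha using key
  set o : Fin n := ⟨0, by omega⟩
  have hne : ∀ {i j : Fin n}, i ≠ j → a i j 1 ≠ 0 := fun {i j} hij h0 => by
    have h1 := ha i j 1 hij
    rw [h0] at h1
    have h2 : ∀ t : F, xr hij t = 1 → t = 0 := fun t ht =>
      xr_mkP_inj p hij (by rw [ht, show xr hij (0 : F) = 1 from sl_ext (by simp [Matrix.SpecialLinearGroup.transvection_coe])])
    have h3 : mkP (xr hij (0 : F)) = 1 := by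
      rw [show xr hij (0 : F) = 1 from sl_ext (by simp [Matrix.SpecialLinearGroup.transvection_coe]), map_one]
    rw [h3] at h1
    exact one_ne_zero (xr_mkP_inj p hij ((α.injective (h1.trans (map_one α).symm)).trans h3.symm))
  let d : Fin n → Fˣ := fun k => if hk : o = k then 1 else Units.mk0 (a o k 1) (hne hk)
  refine ⟨Classical.diagGL d, ?_⟩
  set b : Fin n → Fin n → F → F := fun i j t => (d i : F) * a i j t * ((d j)⁻¹ : Fˣ) with hb
  have hα : ∀ (i j : Fin n) (hij : i ≠ j) (t : F),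
      (conjA (Classical.diagGL d) * α) (mkP (xr hij t)) = mkP (xr hij (b i j t)) := fun i j hij t => by
    rw [MulAut.mul_apply, ha i j t hij, conjA_diag_xr]
  set γ := conjA (Classical.diagGL d) * α
  have hmul : ∀ {i j k : Fin n}, i ≠ j → i ≠ k → j ≠ k → ∀ s t, b i j s * b j k t = b i k (s * t) := by
    intro i j k hij hik hjk s t
    refine xr_mkP_inj p hik ?_
    rw [← hα i k hik (s * t),
      show xr hik (b i j s * b j k t) = ⁅xr hij (b i j s), xr hjk (b j k t)⁆ from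
        (Classical.comm_tv hik hij hjk _ _).symm,
      show xr hik (s * t) = ⁅xr hij s, xr hjk t⁆ from (Classical.comm_tv hik hij hjk _ _).symm,
      map_commutatorElement, map_commutatorElement, map_commutatorElement, hα, hα]
  have hone : ∀ {k : Fin n}, o ≠ k → b o k 1 = 1 := fun {k} hk => by
    simp [hb, d, hk, mul_inv_cancel₀ (hne hk)]
  set o1 : Fin n := ⟨1, by omega⟩
  have ho1 : o ≠ o1 := fun h => absurd (congrArg Fin.val h) (show (0 : ℕ) ≠ 1 by omega)
  set σ := b o o1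
  have hbk : ∀ {i k : Fin n}, o ≠ i → o ≠ k → i ≠ k → b i k 1 = 1 := fun {i k} hi hk hik => by
    have := hmul hi hk hik 1 1
    rwa [hone hi, one_mul, mul_one, hone hk] at this
  have h0 : ∀ {k : Fin n}, o ≠ k → ∀ t, b o k t = σ t := fun {k} hk t => by
    by_cases h : k = o1
    · subst h; rfl
    · have := hmul hk ho1 h t 1
      rwa [hbk hk ho1 h, mul_one, mul_one] at this
  obtain ⟨o2, ho2, ho21⟩ : ∃ o2 : Fin n, o ≠ o2 ∧ o1 ≠ o2 :=
    ⟨⟨2, by omega⟩, fun h => absurd (congrArg Fin.val h) (show (0 : ℕ) ≠ 2 by omega),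
      fun h => absurd (congrArg Fin.val h) (show (1 : ℕ) ≠ 2 by omega)⟩
  have hik' : ∀ {i k : Fin n}, o ≠ i → o ≠ k → i ≠ k → ∀ t, b i k t = σ t := fun {i k} hi hk hik t => by
    have := hmul hi hk hik 1 t
    rwa [hone hi, one_mul, one_mul, h0 hk] at this
  have hall : ∀ {i j : Fin n}, i ≠ j → ∀ t, b i j t = σ t := by
    intro i j hij t
    by_cases hi : o = i
    · subst hi; exact h0 hij t
    by_cases hj : o = j
    · subst hj
      obtain ⟨k, hk, hik⟩ : ∃ k, o ≠ k ∧ i ≠ k := by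
        by_cases h : i = o1
        · exact ⟨o2, ho2, h ▸ ho21⟩
        · exact ⟨o1, ho1, h⟩
      have := hmul hij hik hk t 1
      rwa [hone hk, mul_one, mul_one, hik' hi hk hik] at this
    · exact hik' hi hj hij t
  have hadd : ∀ s t, σ (s + t) = σ s + σ t := fun s t => by
    refine xr_mkP_inj p ho1 ?_
    rw [← hα, show xr ho1 (s + t) = xr ho1 s * xr ho1 t from
      (Matrix.SpecialLinearGroup.transvection_add ho1 s t), map_mul, map_mul, hα, hα, ← map_mul]
    exact congrArg mkP (Matrix.SpecialLinearGroup.transvection_add ho1 _ _).symm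
  have hσmul : ∀ s t, σ (s * t) = σ s * σ t := fun s t => by
    have := hmul ho1 ho2 ho21 s t
    rw [hall ho2, hall ho21] at this
    exact this.symm
  let φ : F →+* F :=
    { toFun := σ
      map_one' := hone ho1
      map_mul' := hσmul
      map_zero' := by simpa using hadd 0 0
      map_add' := hadd }
  refine ⟨RingEquiv.ofBijective φ (Finite.injective_iff_bijective.1 φ.injective), ext_xr fun i j hij t => ?_⟩
  rw [hα, fieldA_mkP]
  congr 1
  refine sl_ext ?_
  rw [fieldSL_coe, hall hij, Matrix.SpecialLinearGroup.transvection_coe,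
    Matrix.SpecialLinearGroup.transvection_coe, Matrix.map_add _ (fun x y => map_add _ x y), Matrix.map_one _
      (map_zero _) (map_one _), Matrix.map_single]
  rfl

/-- The automorphism theorem for n at least 3. -/
theorem exists_decomp (hn : 3 ≤ n) (β : MulAut (PSLn n F)) :
    ∃ (g : GL (Fin n) F) (σ : F ≃+* F) (γ : MulAut (PSLn n F)),
      (γ = 1 ∨ γ = iotaA) ∧ β = conjA g * fieldA σ * γ := by
  obtain ⟨g, γ, hγ, h⟩ := exists_coord p hn β
  obtain ⟨g', σ, hσ⟩ := exists_field p hn _ h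
  refine ⟨(g' * g)⁻¹, σ, γ, hγ, ?_⟩
  have hγγ : γ * γ = 1 := by rcases hγ with rfl | rfl <;> simp [iotaA_mul_self]
  rw [← hσ, map_inv, map_mul, _root_.mul_inv_rev, show
    (conjA g)⁻¹ * (conjA g')⁻¹ * (conjA g' * (conjA g * β * γ)) * γ = β * (γ * γ) by group, hγγ, mul_one]

end Cfsg.Agent.AutPSL
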