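import Cfsg.Agent.AutPSL.BalanceGraph
import Cfsg.Agent.AutPSL.Classes
import Cfsg.Agent.GraphForms.Dets

/-!
Involutory graph automorphisms of PSL_n: classes and centralizers in terms of matrices up to congruence and
scaling, and the splitting of classes.
-/

set_option autoImplicit false

namespace Cfsg.Agent.AutPSL

open Matrix GraphForms

variable {n : ℕ} {F : Type*} [Field F]

theorem mval_itGL (g : GL (Fin n) F) : mval (itGL g) = (mval g⁻¹)ᵀ := rfl

/-- The transpose of an invertible matrix. -/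
def trGL (g : GL (Fin n) F) : GL (Fin n) F := itGL g⁻¹

theorem mval_trGL (g : GL (Fin n) F) : mval (trGL g) = (mval g)ᵀ := by
  rw [trGL, mval_itGL, inv_inv]

theorem itGL_eq_inv (g : GL (Fin n) F) : itGL g = (trGL g)⁻¹ := by
  refine eq_inv_of_mul_eq_one_left (Units.ext ?_)
  show mval (itGL g) * mval (trGL g) = 1
  rw [mval_itGL, mval_trGL, ← Matrix.transpose_mul, Units.mul_inv, Matrix.transpose_one]

theorem conj_graph (h g : GL (Fin n) F) :
    conjA h * (conjA g * iotaA) * (conjA h)⁻¹ = conjA (h * g * trGL h) * iotaA := by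
  rw [← map_inv conjA h, mul_assoc (conjA h), mul_assoc (conjA g), conjA_iota, ← mul_assoc, ← mul_assoc,
    ← map_mul, ← map_mul]
  rfl

/-- The relation sim of a matrix with its sign. -/
def IsSignSymm (g : GL (Fin n) F) : Prop := (mval g)ᵀ = mval g ∨ (mval g)ᵀ = -mval g

theorem signSymm_inv {g : GL (Fin n) F} (h : IsSignSymm g) : IsSignSymm g⁻¹ := by
  have key : ∀ e : F, e * e = 1 → (mval g)ᵀ = e • mval g → (mval g⁻¹)ᵀ = e • mval g⁻¹ := fun e he hg => by
    have h1 : (mval g⁻¹)ᵀ * (mval g)ᵀ = 1 := by rw [← Matrix.transpose_mul, Units.mul_inv, Matrix.transpose_one]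
    rw [hg, Matrix.mul_smul] at h1
    calc (mval g⁻¹)ᵀ = (e * e) • ((mval g⁻¹)ᵀ * (mval g * mval g⁻¹)) := by
          rw [he, one_smul, Units.mul_inv, Matrix.mul_one]
      _ = e • mval g⁻¹ := by rw [← smul_smul, ← Matrix.mul_assoc, ← Matrix.smul_mul e, h1, Matrix.one_mul]
  rcases h with h | h
  · exact Or.inl (by simpa using key 1 (mul_one 1) (by simpa using h))
  · exact Or.inr (by simpa using key (-1) (by ring) (by simpa using h))

variable [Finite F] (p : ℕ) [Fact p.Prime] [CharP F p]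

include p in
theorem graph_cases {γ : MulAut (PSLn n F)} (hγ : Cfsg.IsGraphAutClassPSL γ) (ho : orderOf γ = 2) :
    ∃ g : GL (Fin n) F, γ = conjA g * iotaA ∧ IsSignSymm g := by
  obtain ⟨hn, δ, γ', hδ, hγ', rfl⟩ := hγ
  obtain ⟨g, rfl⟩ := isInnerDiagonal_iff.1 hδ
  obtain rfl := isInverseTranspose_iff.1 hγ'
  refine ⟨g, rfl, ?_⟩
  have h1 := pow_orderOf_eq_one (conjA g * iotaA : MulAut (PSLn n F))
  rw [ho, pow_two, show conjA g * iotaA * (conjA g * iotaA) = conjA g * (iotaA * conjA g) * iotaA by group,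
    conjA_iota, ← mul_assoc, mul_assoc _ iotaA iotaA, iotaA_mul_self, mul_one, ← map_mul,
    conjA_eq_one_iff p (by omega), center_gl_iff] at h1
  obtain ⟨c, hc⟩ := h1
  rw [Units.val_mul] at hc
  have hgT : mval g = (c : F) • (mval g)ᵀ := by
    calc mval g = mval g * (mval (itGL g) * mval (trGL g)) := by
          rw [itGL_eq_inv, Units.inv_mul, Matrix.mul_one]
      _ = _ := by
          rw [← Matrix.mul_assoc, show mval g * mval (itGL g) = Matrix.scalar (Fin n) (c : F) from hc,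
            Matrix.scalar_apply, ← Matrix.smul_one_eq_diagonal, Matrix.smul_mul, Matrix.one_mul, mval_trGL]
  have hcc : (c : F) * c = 1 := by
    by_contra hne
    refine Matrix.GeneralLinearGroup.det_ne_zero g (Matrix.det_eq_zero_of_row_eq_zero ⟨0, by omega⟩ fun j => ?_)
    have e1 := congrFun (congrFun hgT ⟨0, by omega⟩) j
    have e2 := congrFun (congrFun hgT j) ⟨0, by omega⟩
    rw [Matrix.smul_apply, Matrix.transpose_apply, smul_eq_mul] at e1 e2
    rw [e2, ← mul_assoc] at e1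
    exact (mul_eq_zero.1 (show ((c : F) * c - 1) * mval g ⟨0, by omega⟩ j = 0 by
      linear_combination -e1)).resolve_left (sub_ne_zero.2 hne)
  rcases mul_self_eq_one_iff.1 hcc with h | h
  · exact Or.inl (by conv_rhs => rw [hgT, h, one_smul])
  · exact Or.inr (by conv_rhs => rw [hgT, h]; simp)

include p in
theorem graph_of_symm (hn : 3 ≤ n) {g : GL (Fin n) F} (hg : IsSignSymm g) :
    Cfsg.IsGraphAutClassPSL (conjA g * iotaA : MulAut (PSLn n F)) ∧
      orderOf (conjA g * iotaA : MulAut (PSLn n F)) = 2 := by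
  refine ⟨⟨hn, conjA g, iotaA, isInnerDiagonal_iff.2 ⟨g, rfl⟩, isInverseTranspose_iff.2 rfl, rfl⟩,
    orderOf_eq_prime ?_ fun h => ?_⟩
  · rw [pow_two, show conjA g * iotaA * (conjA g * iotaA) = conjA g * (iotaA * conjA g) * iotaA by group,
      conjA_iota, ← mul_assoc, mul_assoc _ iotaA iotaA, iotaA_mul_self, mul_one, ← map_mul,
      conjA_eq_one_iff p (by omega), center_gl_iff]
    obtain ⟨e, he, hT⟩ : ∃ e : Fˣ, (e : F) * e = 1 ∧ (mval g⁻¹)ᵀ = (e : F) • mval g⁻¹ := by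
      rcases signSymm_inv hg with h | h
      · exact ⟨1, by simp, by simpa using h⟩
      · exact ⟨-1, by simp, by simpa using h⟩
    refine ⟨e, ?_⟩
    show mval g * mval (itGL g) = _
    rw [mval_itGL, hT, Matrix.mul_smul, Units.mul_inv, Matrix.smul_one_eq_diagonal, ← Matrix.scalar_apply]
  · refine conj_field_ne_iota p hn (g := g⁻¹) (σ := 1) ?_
    rw [map_one, map_inv, mul_one, inv_mul_eq_one]
    calc conjA g = conjA g * iotaA * iotaA := by rw [mul_assoc, iotaA_mul_self, mul_one]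
      _ = iotaA := by rw [h, one_mul]

/-- Sim within one index type needs no reindexing. -/
theorem sim_fin {J J' : Matrix (Fin n) (Fin n) F} (h : Sim J J') :
    ∃ (P : GL (Fin n) F) (c : Fˣ), (mval P)ᵀ * J * mval P = (c : F) • J' := by
  obtain ⟨e, P, c, h⟩ := h
  let E : Matrix (Fin n) (Fin n) F := (1 : Matrix (Fin n) (Fin n) F).submatrix e id
  have hE : IsUnit E := by
    rw [Matrix.isUnit_iff_isUnit_det]
    rw [show E = (1 : Matrix (Fin n) (Fin n) F).submatrix e id from rfl, Matrix.det_permute]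
    rcases Int.units_eq_one_or (Equiv.Perm.sign e) with h | h <;> simp [h]
  refine ⟨P * hE.unit⁻¹, c, ?_⟩
  have key : (mval hE.unit⁻¹)ᵀ * (J'.submatrix e.symm e.symm) * mval hE.unit⁻¹ = J' := by
    have h1 : J'.submatrix e.symm e.symm = Eᵀ * J' * E := by
      ext i j
      rw [Matrix.mul_apply, Finset.sum_eq_single (e.symm j), Matrix.mul_apply, Finset.sum_eq_single (e.symm i)]
      · simp [E, Matrix.one_apply]
      · intro b _ hb
        simp [E, mt (fun h : e b = i => show b = e.symm i by rw [← h, e.symm_apply_apply]) hb]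
      · simp
      · intro b _ hb
        simp [E, mt (fun h : e b = j => show b = e.symm j by rw [← h, e.symm_apply_apply]) hb]
      · simp
    rw [h1, show (mval hE.unit⁻¹)ᵀ * (Eᵀ * J' * E) * mval hE.unit⁻¹ =
      (E * mval hE.unit⁻¹)ᵀ * J' * (E * mval hE.unit⁻¹) by simp only [Matrix.transpose_mul, Matrix.mul_assoc],
      IsUnit.mul_val_inv hE, Matrix.transpose_one, Matrix.one_mul, Matrix.mul_one]
  calc (mval (P * hE.unit⁻¹))ᵀ * J * mval (P * hE.unit⁻¹)
      = (mval hE.unit⁻¹)ᵀ * ((mval P)ᵀ * J * mval P) * mval hE.unit⁻¹ := by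
        simp only [mval, Units.val_mul, Matrix.transpose_mul, Matrix.mul_assoc]
    _ = _ := by rw [h, Matrix.mul_smul, Matrix.smul_mul, key]

include p in
theorem conjUnder_iff (hn : 2 ≤ n) (g g' : GL (Fin n) F) :
    Cfsg.IsConjUnder (Cfsg.inndiagPSL n F) (conjA g * iotaA) (conjA g' * iotaA) ↔ Sim (mval g⁻¹) (mval g'⁻¹) := by
  have key : ∀ h : GL (Fin n) F, conjA (h * g * trGL h) = conjA g' ↔
      ∃ c : Fˣ, (mval h⁻¹)ᵀ * mval g⁻¹ * mval h⁻¹ = (c : F) • mval g'⁻¹ := by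
    intro h
    rw [conjA_eq_iff p hn, center_gl_iff]
    have e : ((h * g * trGL h)⁻¹ * g' : GL (Fin n) F) = itGL h * g⁻¹ * h⁻¹ * g' := by rw [itGL_eq_inv]; group
    rw [e]
    refine exists_congr fun c => ?_
    show mval (itGL h) * mval g⁻¹ * mval h⁻¹ * mval g' = _ ↔ _
    rw [mval_itGL, Matrix.scalar_apply, ← Matrix.smul_one_eq_diagonal]
    constructor
    · intro H
      calc (mval h⁻¹)ᵀ * mval g⁻¹ * mval h⁻¹ = (mval h⁻¹)ᵀ * mval g⁻¹ * mval h⁻¹ * mval g' * mval g'⁻¹ := by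
            rw [Matrix.mul_assoc _ (mval g'), Units.mul_inv, Matrix.mul_one]
        _ = _ := by rw [H, Matrix.smul_mul, Matrix.one_mul]
    · intro H
      rw [H, Matrix.smul_mul, Units.inv_mul]
  constructor
  · rintro ⟨x, hx, he⟩
    rw [inndiagPSL_eq] at hx
    obtain ⟨h, rfl⟩ := hx
    rw [conj_graph, mul_left_inj, eq_comm] at he
    obtain ⟨c, hc⟩ := (key h).1 he
    exact ⟨Equiv.refl _, h⁻¹, c, by simpa using hc⟩
  · intro hs
    obtain ⟨P, c, hc⟩ := sim_fin hs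
    refine ⟨conjA P⁻¹, conjA_mem _, ?_⟩
    rw [conj_graph, (key P⁻¹).2 ⟨c, by rwa [inv_inv]⟩]

include p in
theorem simG_map (hn : 2 ≤ n) (g : GL (Fin n) F) :
    (simG (mval g⁻¹)).map conjA =
      Cfsg.inndiagPSL n F ⊓ Subgroup.centralizer {(conjA g * iotaA : MulAut (PSLn n F))} := by
  ext x
  rw [Subgroup.mem_map, Subgroup.mem_inf, Subgroup.mem_centralizer_singleton_iff, inndiagPSL_eq]
  constructor
  · rintro ⟨k, ⟨c, hc⟩, rfl⟩
    exact ⟨⟨k, rfl⟩, (conjA_commute_iota_iff p hn g k).2 ⟨c, c.ne_zero, hc⟩⟩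
  · rintro ⟨⟨k, rfl⟩, hk⟩
    obtain ⟨c, hc0, hc⟩ := (conjA_commute_iota_iff p hn g k).1 hk
    exact ⟨k, ⟨Units.mk0 c hc0, hc⟩, rfl⟩

include p in
theorem graph_centralizer (hn : 2 ≤ n) (g : GL (Fin n) F) :
    Nonempty (↥(Cfsg.inndiagPSL n F ⊓ Subgroup.centralizer {(conjA g * iotaA : MulAut (PSLn n F))}) ≃*
      Cfsg.projQuot (simG (mval g⁻¹))) :=
  centralizer_iso p hn (Subgroup.subtype _) _ (by rw [← scalars_eq_center]; rfl)
    (by rw [Subgroup.range_subtype]; exact simG_map p hn g)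

/-- A matrix with prescribed inverse. -/
theorem exists_rep {κ : Type} [Fintype κ] [DecidableEq κ] {M : Matrix κ κ F} (hd : M.det ≠ 0)
    (hc : Fintype.card κ = n) (hs : Mᵀ = M ∨ Mᵀ = -M) :
    ∃ g : GL (Fin n) F, IsSignSymm g ∧ Sim (mval g⁻¹) M := by
  let e : κ ≃ Fin n := (Fintype.equivFin κ).trans (finCongr hc)
  refine ⟨(Matrix.GeneralLinearGroup.mkOfDetNeZero (M.submatrix e.symm e.symm)
    (by rw [Matrix.det_submatrix_equiv_self]; exact hd))⁻¹, signSymm_inv ?_, Sim.of_eq e (by rw [inv_inv]; rfl)⟩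
  show (M.submatrix e.symm e.symm)ᵀ = _ ∨ (M.submatrix e.symm e.symm)ᵀ = -(M.submatrix e.symm e.symm)
  rcases hs with h | h
  · exact Or.inl (by rw [Matrix.transpose_submatrix, h]; rfl)
  · exact Or.inr (by rw [Matrix.transpose_submatrix, h]; rfl)

section Split

variable {g : GL (Fin n) F}

include p in
theorem card_units_eq {f : ℕ} [Fintype F] (hF : Fintype.card F = p ^ f) : Nat.card Fˣ = p ^ f - 1 := by
  rw [Nat.card_units, Nat.card_eq_fintype_card, hF]

include p in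
theorem split_symp (hn : 2 ≤ n) {m : ℕ} (hs : Sim (mval g⁻¹) (Matrix.J (Fin m) F)) :
    Cfsg.splitClassCount (Cfsg.inndiagPSL n F) (Cfsg.Inn (PSLn n F)) (conjA g * iotaA) =
      Nat.gcd m (Nat.card Fˣ) := by
  have hnm : n = 2 * m := by
    have := hs.card_eq
    simp at this
    omega
  rw [split_eq_det_index p hn _ _ (simG_map p hn g)]
  refine index_range_pow rfl _ ⟨2, by omega⟩ ?_ fun x hx => Subgroup.mem_sup_right ?_
  · rintro _ ⟨k, ⟨c, hc⟩, rfl⟩
    obtain ⟨k', hk', hd⟩ := hs.det_pair.1 ⟨k, hc, rfl⟩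
    exact ⟨c, Units.ext ((symp_det hk').symm.trans hd)⟩
  · obtain ⟨c, rfl⟩ := hx
    obtain ⟨k', hk'⟩ := symp_exists (m := m) c
    obtain ⟨k, hk, hd⟩ := hs.det_pair.2 ⟨k', hk', rfl⟩
    exact ⟨k, ⟨c, hk⟩, Units.ext (hd.trans (symp_det hk'))⟩

include p in
theorem split_small (hn : 2 ≤ n)
    (hsq : ∀ (k : GL (Fin n) F) (c : Fˣ), (mval k)ᵀ * mval g⁻¹ * mval k = (c : F) • mval g⁻¹ → IsSquare (c : F))
    (hneg : Odd n ∨ (-1 : F) = 1) :
    Cfsg.splitClassCount (Cfsg.inndiagPSL n F) (Cfsg.Inn (PSLn n F)) (conjA g * iotaA) =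
      Nat.gcd n (Nat.card Fˣ) := by
  rw [split_eq_det_index p hn _ _ (simG_map p hn g)]
  refine index_range_pow rfl _ dvd_rfl ?_ fun x hx => Subgroup.mem_sup_left hx
  rintro _ ⟨k, ⟨c, hc⟩, rfl⟩
  obtain ⟨t, ht⟩ := hsq k c hc
  have h1 := det_sq (Matrix.GeneralLinearGroup.det_ne_zero g⁻¹) hc
  rw [Fintype.card_fin, ht, show (t * t) ^ n = (t ^ n) ^ 2 by ring] at h1
  have ht0 : t ≠ 0 := fun h0 => c.ne_zero (by rw [ht, h0, mul_zero])
  rcases sq_eq_sq_iff_eq_or_eq_neg.1 h1 with h | h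
  · exact ⟨Units.mk0 t ht0, Units.ext h.symm⟩
  · rcases hneg with ho | h1'
    · refine ⟨-Units.mk0 t ht0, Units.ext ?_⟩
      show (-t) ^ n = _
      rw [ho.neg_pow]
      exact h.symm
    · refine ⟨Units.mk0 t ht0, Units.ext ?_⟩
      show t ^ n = (mval k).det
      rw [h, ← neg_one_mul (t ^ n), h1', one_mul]

include p in
theorem split_orth (hn : 2 ≤ n) (h2 : (2 : F) ≠ 0) {m : ℕ} (hnm : n = 2 * m)
    (hg : (mval g⁻¹)ᵀ = mval g⁻¹) :
    Cfsg.splitClassCount (Cfsg.inndiagPSL n F) (Cfsg.Inn (PSLn n F)) (conjA g * iotaA) =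
      Nat.gcd n (Nat.card Fˣ) / 2 := by
  have hd := Matrix.GeneralLinearGroup.det_ne_zero g⁻¹
  have hz : orderOf (-1 : Fˣ) = 2 := orderOf_eq_prime (by rw [pow_two, neg_mul_neg, one_mul]) fun h => h2 (by
    have := congrArg Units.val h
    rw [Units.val_neg, Units.val_one] at this
    linear_combination -this)
  rw [split_eq_det_index p hn _ _ (simG_map p hn g)]
  conv_rhs => rw [hnm, ← index_pow_sup_two rfl m hz]
  congr 1
  have hex : ∀ (c : Fˣ) (δ : Fˣ), δ ^ 2 = c ^ n → δ ∈ (simG (mval g⁻¹)).map Matrix.GeneralLinearGroup.det := by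
    intro c δ hδ
    obtain ⟨k, hk, hd'⟩ := orth_exists h2 hg hd (by rw [Fintype.card_fin]; exact ⟨m, by omega⟩)
      (by rw [Fintype.card_fin]; omega) (c := (c : F)) (δ := (δ : F))
      (by rw [Fintype.card_fin, ← Units.val_pow_eq_pow_val, ← Units.val_pow_eq_pow_val, hδ]) c.ne_zero
    exact ⟨k, ⟨c, hk⟩, Units.ext hd'⟩
  refine le_antisymm (sup_le ?_ ?_) (sup_le ?_ ?_)
  · rintro _ ⟨x, rfl⟩
    exact Subgroup.mem_sup_left ⟨x ^ 2, by simp [powMonoidHom_apply, ← pow_mul, hnm.symm]⟩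
  · rintro _ ⟨k, ⟨c, hc⟩, rfl⟩
    have h1 := det_sq hd hc
    rw [Fintype.card_fin, show (c : F) ^ n = ((c : F) ^ m) ^ 2 by rw [hnm, mul_comm, pow_mul]] at h1
    rcases sq_eq_sq_iff_eq_or_eq_neg.1 h1 with h | h
    · exact Subgroup.mem_sup_left ⟨c, Units.ext h.symm⟩
    · have e : Matrix.GeneralLinearGroup.det k = (c ^ m) * (-1 : Fˣ) := Units.ext (by
        rw [Units.val_mul, Units.val_pow_eq_pow_val, Units.val_neg, Units.val_one, mul_neg_one]; exact h)
      rw [e]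
      exact mul_mem (Subgroup.mem_sup_left ⟨c, rfl⟩) (Subgroup.mem_sup_right (Subgroup.mem_zpowers _))
  · rintro _ ⟨c, rfl⟩
    exact Subgroup.mem_sup_right (hex c _ (by simp [powMonoidHom_apply, ← pow_mul, hnm, mul_comm]))
  · rw [Subgroup.zpowers_le]
    exact Subgroup.mem_sup_right (hex 1 (-1) (by simp))

end Split

end Cfsg.Agent.AutPSL
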