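import Cfsg.Agent.AutPSL.Decomp

/-!
Every automorphism of PSL_2 over a finite field is inner-diagonal times field.
-/

set_option autoImplicit false

namespace Cfsg.Agent.AutPSL

open Matrix
open Cfsg.Agent.UniTri
open Matrix.SpecialLinearGroup (diag2n)

variable {F : Type*} [Field F]

/-- Every element of a finite field is a sum of two squares. -/
theorem exists_two_squares [Fintype F] (x : F) : ∃ a b : F, a ^ 2 + b ^ 2 = x := by
  by_cases h2 : ringChar F = 2
  · obtain ⟨a, ha⟩ := FiniteField.isSquare_of_char_two h2 x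
    exact ⟨a, 0, by rw [ha]; ring⟩
  · obtain ⟨a, b, hab⟩ := FiniteField.exists_root_sum_quadratic (R := F)
      (f := Polynomial.X ^ 2) (g := Polynomial.X ^ 2 - Polynomial.C x)
      (Polynomial.degree_X_pow 2) (Polynomial.degree_X_pow_sub_C (by norm_num) x)
      (Nat.odd_iff.1 (Nat.not_even_iff_odd.1 fun he => h2 (by
        obtain ⟨m, hm⟩ := FiniteField.card F (ringChar F)
        rw [hm.2, Nat.even_pow] at he
        exact ((Nat.prime_dvd_prime_iff_eq Nat.prime_two hm.1).1 he.1.two_dvd).symm)))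
    refine ⟨a, b, ?_⟩
    simp only [Polynomial.eval_pow, Polynomial.eval_X, Polynomial.eval_sub, Polynomial.eval_C] at hab
    linear_combination hab

/-- The upper root element. -/
abbrev xu (t : F) : SLn 2 F := xr (show (0 : Fin 2) ≠ 1 by decide) t

/-- The lower root element. -/
abbrev xl (t : F) : SLn 2 F := xr (show (1 : Fin 2) ≠ 0 by decide) t

theorem xu_coe (t : F) : (xu t : Matrix (Fin 2) (Fin 2) F) = !![1, t; 0, 1] := by
  rw [Matrix.SpecialLinearGroup.transvection_coe]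
  ext i j; fin_cases i <;> fin_cases j <;> simp

theorem xl_coe (t : F) : (xl t : Matrix (Fin 2) (Fin 2) F) = !![1, 0; t, 1] := by
  rw [Matrix.SpecialLinearGroup.transvection_coe]
  ext i j; fin_cases i <;> fin_cases j <;> simp

theorem diag_coe (s : F) (hs : s ≠ 0) :
    ((diag2n (show (0 : Fin 2) ≠ 1 by decide) s hs : SLn 2 F) : Matrix (Fin 2) (Fin 2) F) = !![s, 0; 0, s⁻¹] := by
  rw [Matrix.SpecialLinearGroup.diag2n_coe]
  ext i j; fin_cases i <;> fin_cases j <;> simp

theorem entry_eqs {z : SLn 2 F} {A B : SLn 2 F} (h : z * A * z⁻¹ = B) :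
    (z : Matrix (Fin 2) (Fin 2) F) * (A : Matrix (Fin 2) (Fin 2) F) =
      (B : Matrix (Fin 2) (Fin 2) F) * (z : Matrix (Fin 2) (Fin 2) F) := by
  have h2 : z * A = B * z := mul_inv_eq_iff_eq_mul.1 h
  have := congrArg Subtype.val h2
  simpa [Matrix.SpecialLinearGroup.coe_mul] using this

theorem mem_unitri_two {u : SLn 2 F} (hu : u ∈ unitri 2 F) : u = xu ((u : Matrix (Fin 2) (Fin 2) F) 0 1) := by
  obtain ⟨hU, hD⟩ := mem_unitri.1 hu
  refine sl_ext ?_
  rw [xu_coe]
  ext i j; fin_cases i <;> fin_cases j <;> simp [hU, hD]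

theorem xu_mem (t : F) : xu t ∈ unitri 2 F := tv_mem (show (0 : Fin 2) < 1 by decide) t

/-- An element with zero corner conjugates upper root elements to lower ones. -/
theorem lower_of_zero (z : SLn 2 F) (hz : (z : Matrix (Fin 2) (Fin 2) F) 0 0 = 0) (c : F) :
    z * xu c * z⁻¹ = xl ((z : Matrix (Fin 2) (Fin 2) F) 1 0 * c / (z : Matrix (Fin 2) (Fin 2) F) 0 1) := by
  have hz01 : (z : Matrix (Fin 2) (Fin 2) F) 0 1 ≠ 0 := by
    intro h0
    have := z.2
    rw [Matrix.det_fin_two, hz, h0, zero_mul, zero_mul, sub_zero] at this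
    exact zero_ne_one this
  rw [mul_inv_eq_iff_eq_mul]
  refine sl_ext ?_
  rw [Matrix.SpecialLinearGroup.coe_mul, Matrix.SpecialLinearGroup.coe_mul, xu_coe, xl_coe]
  ext i j; fin_cases i <;> fin_cases j <;> simp [Matrix.mul_apply, Fin.sum_univ_two, hz]
  field_simp

variable [Finite F] (p : ℕ) [Fact p.Prime] [CharP F p]
include p

/-- Up to a change of basis an automorphism fixes both root groups. -/
theorem exists_coord_two (β : MulAut (PSLn 2 F)) :
    ∃ (g : GL (Fin 2) F) (a h : F → F),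
      (∀ t, (conjA g * β) (mkP (xu t)) = mkP (xu (a t))) ∧
      (∀ t, (conjA g * β) (mkP (xl t)) = mkP (xl (h t))) := by
  obtain ⟨g, hg⟩ := exists_sylow_conj p β
  have ha' : ∀ t, ∃ a, β (mkP (xu t)) = MulAut.conj (mkP g) (mkP (xu a)) := fun t => by
    have hmem : β (mkP (xu t)) ∈ ((unitri 2 F).map mkP).map (MulAut.conj (mkP g)).toMonoidHom := by
      rw [← hg]; exact ⟨_, ⟨_, xu_mem t, rfl⟩, rfl⟩
    obtain ⟨_, ⟨u, hu, rfl⟩, hu'⟩ := hmem
    refine ⟨(u : Matrix (Fin 2) (Fin 2) F) 0 1, ?_⟩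
    rw [← mem_unitri_two hu]
    exact hu'.symm
  choose a ha using ha'
  set β1 := conjA (Matrix.SpecialLinearGroup.toGL g)⁻¹ * β with hβ1
  have h1 : ∀ t, β1 (mkP (xu t)) = mkP (xu (a t)) := fun t => by
    rw [hβ1, MulAut.mul_apply, ha, map_inv, conjA_toGL, MulAut.inv_apply_self]
  have hainj : Function.Injective a := fun s t hst => xr_mkP_inj p _ (β1.injective (by rw [h1, h1, hst]))
  obtain ⟨w, e, he, hw⟩ := exists_monomial_conj (F := F) (show (0 : Fin 2) ≠ 1 by decide)
    (show (1 : Fin 2) ≠ 0 by decide)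
  obtain ⟨k, hk⟩ := mkP_surjective (β1 (mkP w))
  have hy : ∀ t, β1 (mkP (xl t)) = mkP (k * xu (a (e⁻¹ * t)) * k⁻¹) := fun t => by
    have := hw (e⁻¹ * t)
    rw [mul_inv_cancel_left₀ he] at this
    rw [show xl t = w * xu (e⁻¹ * t) * w⁻¹ from this.symm, map_mul, map_mul, map_mul, map_mul, map_inv, map_inv,
      ← hk, h1, ← map_inv, ← map_mul, ← map_mul]
  have hk10 : (k : Matrix (Fin 2) (Fin 2) F) 1 0 ≠ 0 := by
    intro h0
    have hk00 : (k : Matrix (Fin 2) (Fin 2) F) 0 0 * (k : Matrix (Fin 2) (Fin 2) F) 1 1 = 1 := by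
      have := k.2
      rw [Matrix.det_fin_two, h0, mul_zero, sub_zero] at this
      exact this
    have hconj : ∀ c, k * xu c * k⁻¹ =
        xu ((k : Matrix (Fin 2) (Fin 2) F) 0 0 ^ 2 * c) := fun c => by
      rw [mul_inv_eq_iff_eq_mul]
      refine sl_ext ?_
      rw [Matrix.SpecialLinearGroup.coe_mul, Matrix.SpecialLinearGroup.coe_mul, xu_coe, xu_coe]
      ext i j; fin_cases i <;> fin_cases j <;> simp [Matrix.mul_apply, Fin.sum_univ_two, h0]
      linear_combination -((k : Matrix (Fin 2) (Fin 2) F) 0 0 * c) * hk00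
    obtain ⟨s, hs⟩ := (Finite.injective_iff_surjective.1 hainj)
      ((k : Matrix (Fin 2) (Fin 2) F) 0 0 ^ 2 * a (e⁻¹ * 1))
    have h2 := β1.injective (show β1 (mkP (xl (1 : F))) = β1 (mkP (xu s)) by rw [hy, h1, hconj, hs])
    have h3 := congrFun (congrFun (congrArg Subtype.val
      (eq_of_mkP_eq p (xr_pow p _ (1 : F)) (xr_pow p _ s) h2)) 1) 0
    rw [xl_coe, xu_coe] at h3
    simp at h3
  set u : SLn 2 F := xu (-((k : Matrix (Fin 2) (Fin 2) F) 0 0 / (k : Matrix (Fin 2) (Fin 2) F) 1 0)) with hu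
  set z := u * k with hzdef
  have hz00 : (z : Matrix (Fin 2) (Fin 2) F) 0 0 = 0 := by
    rw [hzdef, Matrix.SpecialLinearGroup.coe_mul, hu, xu_coe]
    simp [Matrix.mul_apply, Fin.sum_univ_two, hk10]
  refine ⟨Matrix.SpecialLinearGroup.toGL u * (Matrix.SpecialLinearGroup.toGL g)⁻¹, a,
    fun t => (z : Matrix (Fin 2) (Fin 2) F) 1 0 * a (e⁻¹ * t) / (z : Matrix (Fin 2) (Fin 2) F) 0 1,
    fun t => ?_, fun t => ?_⟩
  · rw [map_mul, mul_assoc, ← hβ1, MulAut.mul_apply, h1, conjA_toGL, MulAut.conj_apply, ← map_inv, ← map_mul,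
      ← map_mul]
    congr 1
    rw [mul_inv_eq_iff_eq_mul, hu, xu, xu, ← Matrix.SpecialLinearGroup.transvection_add,
      ← Matrix.SpecialLinearGroup.transvection_add, add_comm]
  · rw [map_mul, mul_assoc, ← hβ1, MulAut.mul_apply, hy, conjA_toGL, MulAut.conj_apply, ← map_inv, ← map_mul,
      ← map_mul]
    congr 1
    rw [show u * (k * xu (a (e⁻¹ * t)) * k⁻¹) * u⁻¹ = z * xu (a (e⁻¹ * t)) * z⁻¹ by rw [hzdef]; group]
    exact lower_of_zero z hz00 _

/-- An automorphism fixing both root groups of PSL_2 is diagonal times field. -/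
theorem exists_field_two (α : MulAut (PSLn 2 F)) (a h : F → F)
    (ha : ∀ t, α (mkP (xu t)) = mkP (xu (a t))) (hh : ∀ t, α (mkP (xl t)) = mkP (xl (h t))) :
    ∃ (g : GL (Fin 2) F) (σ : F ≃+* F), conjA g * α = fieldA σ := by
  classical
  haveI := Fintype.ofFinite F
  have h01 : (0 : Fin 2) ≠ 1 := by decide
  have hainj : Function.Injective a := fun s t hst => xr_mkP_inj p _ (α.injective (by rw [ha, ha, hst]))
  have haadd : ∀ s t, a (s + t) = a s + a t := fun s t => by
    refine xr_mkP_inj p h01 ?_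
    show mkP (xu (a (s + t))) = mkP (xu (a s + a t))
    rw [← ha, show xu (s + t) = xu s * xu t from Matrix.SpecialLinearGroup.transvection_add _ s t, map_mul, map_mul,
      ha, ha, ← map_mul]
    exact congrArg mkP (Matrix.SpecialLinearGroup.transvection_add _ _ _).symm
  have hhadd : ∀ s t, h (s + t) = h s + h t := fun s t => by
    refine xr_mkP_inj p h01.symm ?_
    show mkP (xl (h (s + t))) = mkP (xl (h s + h t))
    rw [← hh, show xl (s + t) = xl s * xl t from Matrix.SpecialLinearGroup.transvection_add _ s t, map_mul, map_mul,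
      hh, hh, ← map_mul]
    exact congrArg mkP (Matrix.SpecialLinearGroup.transvection_add _ _ _).symm
  have ha0 : a 0 = 0 := by simpa using haadd 0 0
  have hh0 : h 0 = 0 := by simpa using hhadd 0 0
  have ha1 : a 1 ≠ 0 := fun h => one_ne_zero (hainj (h.trans ha0.symm))
  -- torus
  have htor : ∀ s : F, s ≠ 0 → ∃ r : F, r ≠ 0 ∧ (∀ t, a (s ^ 2 * t) = r ^ 2 * a t) ∧
      (∀ t, r ^ 2 * h ((s ^ 2)⁻¹ * t) = h t) := by
    intro s hs
    obtain ⟨z, hz⟩ := mkP_surjective (α (mkP (diag2n h01 s hs)))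
    have conj_up : ∀ t, diag2n h01 s hs * xu t * (diag2n h01 s hs)⁻¹ = xu (s ^ 2 * t) := fun t => by
      rw [mul_inv_eq_iff_eq_mul]
      refine sl_ext ?_
      rw [Matrix.SpecialLinearGroup.coe_mul, Matrix.SpecialLinearGroup.coe_mul, diag_coe, xu_coe, xu_coe]
      ext i j; fin_cases i <;> fin_cases j <;> simp [Matrix.mul_apply, Fin.sum_univ_two]
      field_simp
    have conj_lo : ∀ t, diag2n h01 s hs * xl t * (diag2n h01 s hs)⁻¹ = xl ((s ^ 2)⁻¹ * t) := fun t => by
      rw [mul_inv_eq_iff_eq_mul]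
      refine sl_ext ?_
      rw [Matrix.SpecialLinearGroup.coe_mul, Matrix.SpecialLinearGroup.coe_mul, diag_coe, xl_coe, xl_coe]
      ext i j; fin_cases i <;> fin_cases j <;> simp [Matrix.mul_apply, Fin.sum_univ_two]
      field_simp
    have eu : ∀ t, z * xu (a t) * z⁻¹ = xu (a (s ^ 2 * t)) := fun t =>
      eq_of_mkP_eq p (k := 1) (l := 1) (by rw [conj_pow, xr_pow p, mul_one, mul_inv_cancel]) (xr_pow p _ _)
        (by rw [map_mul, map_mul, map_inv, hz, ← ha, ← ha, ← map_inv, ← map_mul, ← map_mul, ← map_inv, ← map_mul,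
          ← map_mul, conj_up])
    have el : ∀ t, z * xl (h t) * z⁻¹ = xl (h ((s ^ 2)⁻¹ * t)) := fun t =>
      eq_of_mkP_eq p (k := 1) (l := 1) (by rw [conj_pow, xr_pow p, mul_one, mul_inv_cancel]) (xr_pow p _ _)
        (by rw [map_mul, map_mul, map_inv, hz, ← hh, ← hh, ← map_inv, ← map_mul, ← map_mul, ← map_inv, ← map_mul,
          ← map_mul, conj_lo])
    have hh1 : h 1 ≠ 0 := fun h' => one_ne_zero (xr_mkP_inj p h01.symm
      (α.injective (show α (mkP (xl (1 : F))) = α (mkP (xl 0)) by rw [hh, hh, h', hh0])))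
    have E : ∀ t i j, ((z : Matrix (Fin 2) (Fin 2) F) * (!![1, a t; 0, 1] : Matrix (Fin 2) (Fin 2) F)) i j =
        ((!![1, a (s ^ 2 * t); 0, 1] : Matrix (Fin 2) (Fin 2) F) * (z : Matrix (Fin 2) (Fin 2) F)) i j := by
      intro t i j
      have := entry_eqs (eu t)
      rw [xu_coe, xu_coe] at this
      exact congrFun (congrFun this i) j
    have E' : ∀ t i j, ((z : Matrix (Fin 2) (Fin 2) F) * (!![1, 0; h t, 1] : Matrix (Fin 2) (Fin 2) F)) i j =
        ((!![1, 0; h ((s ^ 2)⁻¹ * t), 1] : Matrix (Fin 2) (Fin 2) F) * (z : Matrix (Fin 2) (Fin 2) F)) i j := by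
      intro t i j
      have := entry_eqs (el t)
      rw [xl_coe, xl_coe] at this
      exact congrFun (congrFun this i) j
    have hz10 : (z : Matrix (Fin 2) (Fin 2) F) 1 0 = 0 := by
      have := E 1 1 1
      simpa [Matrix.mul_apply, Fin.sum_univ_two, ha1] using this
    have hz01 : (z : Matrix (Fin 2) (Fin 2) F) 0 1 = 0 := by
      have := E' 1 0 0
      simpa [Matrix.mul_apply, Fin.sum_univ_two, hh1] using this
    have hd : (z : Matrix (Fin 2) (Fin 2) F) 0 0 * (z : Matrix (Fin 2) (Fin 2) F) 1 1 = 1 := by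
      have := z.2
      rw [Matrix.det_fin_two, hz01, zero_mul, sub_zero] at this
      exact this
    refine ⟨(z : Matrix (Fin 2) (Fin 2) F) 0 0, left_ne_zero_of_mul_eq_one hd, fun t => ?_, fun t => ?_⟩
    · have := E t 0 1
      simp [Matrix.mul_apply, Fin.sum_univ_two, hz01] at this
      linear_combination -((z : Matrix (Fin 2) (Fin 2) F) 0 0) * this - a (s ^ 2 * t) * hd
    · have := E' t 1 0
      simp [Matrix.mul_apply, Fin.sum_univ_two, hz10] at this
      linear_combination -((z : Matrix (Fin 2) (Fin 2) F) 0 0) * this + h t * hd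
  set σ : F → F := fun t => a t / a 1 with hσ
  have hσadd : ∀ s t, σ (s + t) = σ s + σ t := fun s t => by simp only [hσ]; rw [haadd, add_div]
  have hσ1 : σ 1 = 1 := div_self ha1
  have hsq : ∀ s t, σ (s ^ 2 * t) = σ (s ^ 2) * σ t := fun s t => by
    by_cases hs : s = 0
    · subst hs; simp [hσ, ha0]
    obtain ⟨r, -, hr, -⟩ := htor s hs
    have := hr 1
    rw [mul_one] at this
    simp only [hσ]; rw [hr, this]; field_simp
  have hmul : ∀ s t, σ (s * t) = σ s * σ t := fun s t => by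
    obtain ⟨x, y, rfl⟩ := exists_two_squares s
    rw [add_mul, hσadd, hσadd, hsq, hsq, add_mul]
  let φ : F →+* F :=
    { toFun := σ, map_one' := hσ1, map_mul' := hmul, map_zero' := by simp [hσ, ha0], map_add' := hσadd }
  let SIG : F ≃+* F := RingEquiv.ofBijective φ (Finite.injective_iff_bijective.1 φ.injective)
  have hlin : ∀ t, h t = h 1 * σ t := fun t => by
    have key : ∀ s, h (s ^ 2) = h 1 * σ (s ^ 2) := fun s => by
      by_cases hs : s = 0
      · subst hs; simp [hσ, ha0, hh0]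
      obtain ⟨r, hr0, hr, hr'⟩ := htor s hs
      have h2 := hr' (s ^ 2)
      rw [inv_mul_cancel₀ (pow_ne_zero 2 hs)] at h2
      have h3 := hr 1
      rw [mul_one] at h3
      simp only [hσ]; rw [← h2, h3]; field_simp
    obtain ⟨x, y, rfl⟩ := exists_two_squares t
    rw [hhadd, key, key, hσadd, mul_add]
  -- the product of the scalings is one
  have hc : a 1 * h 1 = 1 := by
    have hw : xu 1 * xl (-1) * xu 1 * xu 1 * (xu 1 * xl (-1) * xu 1)⁻¹ = (xl (-1) : SLn 2 F) := by
      rw [mul_inv_eq_iff_eq_mul]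
      refine sl_ext ?_
      simp only [Matrix.SpecialLinearGroup.coe_mul, xu_coe, xl_coe]
      ext i j; fin_cases i <;> fin_cases j <;> simp [Matrix.mul_apply, Fin.sum_univ_two]
    have hneg : h (-1) = - h 1 := by
      have := hhadd 1 (-1)
      rw [add_neg_cancel, hh0] at this
      exact eq_neg_of_add_eq_zero_right this.symm
    set z : SLn 2 F := xu (a 1) * xl (- h 1) * xu (a 1) with hz
    have hzz : α (mkP (xu 1 * xl (-1) * xu 1)) = mkP z := by
      rw [hz, map_mul, map_mul, map_mul, map_mul, ha, hh, hneg, map_mul, map_mul]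
    have e : z * xu (a 1) * z⁻¹ = xl (- h 1) :=
      eq_of_mkP_eq p (k := 1) (l := 1) (by rw [conj_pow, xr_pow p, mul_one, mul_inv_cancel]) (xr_pow p _ _)
        (by rw [map_mul, map_mul, map_inv, ← hzz, ← ha, ← hneg, ← hh, ← map_inv, ← map_mul, ← map_mul, ← map_inv,
          ← map_mul, ← map_mul, hw])
    have e2 := congrFun (congrFun (entry_eqs e) 0) 1
    simp only [hz, Matrix.SpecialLinearGroup.coe_mul, xu_coe, xl_coe] at e2
    simp [Matrix.mul_apply, Fin.sum_univ_two] at e2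
    linear_combination -(e2.resolve_right ha1)
  let d : Fin 2 → Fˣ := fun k => if k = 0 then 1 else Units.mk0 (a 1) ha1
  refine ⟨Classical.diagGL d, SIG, ext_xr fun i j hij t => ?_⟩
  have hmap : ∀ (i j : Fin 2) (hij : i ≠ j) (t : F), fieldA SIG (mkP (xr hij t)) = mkP (xr hij (σ t)) := by
    intro i j hij t
    rw [fieldA_mkP]
    congr 1
    refine sl_ext ?_
    rw [fieldSL_coe, Matrix.SpecialLinearGroup.transvection_coe, Matrix.SpecialLinearGroup.transvection_coe,
      Matrix.map_add _ (fun x y => map_add _ x y), Matrix.map_one _ (map_zero _) (map_one _), Matrix.map_single]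
    rfl
  rw [MulAut.mul_apply, hmap]
  fin_cases i <;> fin_cases j
  · exact absurd rfl hij
  · show conjA (Classical.diagGL d) (α (mkP (xu t))) = mkP (xu (σ t))
    rw [ha, conjA_diag_xr]
    congr 2
    simp [d, hσ, div_eq_mul_inv]
  · show conjA (Classical.diagGL d) (α (mkP (xl t))) = mkP (xl (σ t))
    rw [hh, conjA_diag_xr]
    congr 2
    simp [d]
    rw [hlin, ← mul_assoc, hc, one_mul]
  · exact absurd rfl hij

/-- The automorphism theorem for n = 2. -/
theorem exists_decomp_two (β : MulAut (PSLn 2 F)) :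
    ∃ (g : GL (Fin 2) F) (σ : F ≃+* F), β = conjA g * fieldA σ := by
  obtain ⟨g, a, h, ha, hh⟩ := exists_coord_two p β
  obtain ⟨g', σ, hσ⟩ := exists_field_two p _ a h ha hh
  exact ⟨(g' * g)⁻¹, σ, by rw [← hσ, map_inv, map_mul, _root_.mul_inv_rev]; group⟩

/-- The automorphism theorem. -/
theorem exists_decomp_all {n : ℕ} (hn : 2 ≤ n) (β : MulAut (PSLn n F)) :
    ∃ (g : GL (Fin n) F) (σ : F ≃+* F) (γ : MulAut (PSLn n F)),
      (γ = 1 ∨ (γ = iotaA ∧ 3 ≤ n)) ∧ β = conjA g * fieldA σ * γ := by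
  rcases eq_or_lt_of_le hn with rfl | h3
  · obtain ⟨g, σ, h⟩ := exists_decomp_two p β
    exact ⟨g, σ, 1, Or.inl rfl, by rw [mul_one]; exact h⟩
  · obtain ⟨g, σ, γ, hγ, h⟩ := exists_decomp p h3 β
    exact ⟨g, σ, γ, hγ.imp id fun e => ⟨e, h3⟩, h⟩

end Cfsg.Agent.AutPSL
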