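import Cfsg.Agent.AutPSL.MaxOrderGraph
import Cfsg.Agent.AutPSL.Two
import Cfsg.Agent.S2261

/-!
The largest order of an automorphism of PSL.
-/

set_option autoImplicit false

namespace Cfsg.Agent.AutPSL

open Matrix

variable {n : ℕ} {F : Type*} [Field F] [Fintype F]

theorem orderOf_le_of_pow_conjA {φ : MulAut (PSLn n F)} {N : GL (Fin n) F} {k o : ℕ} (hk : 0 < k) (ho : 0 < o)
    (h : φ ^ k = conjA N) (hN : N ^ o ∈ Subgroup.center (GL (Fin n) F)) : orderOf φ ≤ k * o := by
  refine Nat.le_of_dvd (Nat.mul_pos hk ho) (orderOf_dvd_of_pow_eq_one ?_)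
  rw [pow_mul, h, ← map_pow]
  exact center_le_ker _ hN

theorem pow_orderOf_mem (N : GL (Fin n) F) :
    N ^ orderOf (QuotientGroup.mk N : GL (Fin n) F ⧸ Subgroup.center (GL (Fin n) F)) ∈
      Subgroup.center (GL (Fin n) F) := by
  rw [← QuotientGroup.eq_one_iff, QuotientGroup.mk_pow, pow_orderOf_eq_one]

theorem twisted_le (σ : F ≃+* F) (g : GL (Fin n) F) (hn : 1 ≤ n) {φ : MulAut (PSLn n F)} {k : ℕ} (hk : 0 < k)
    (h : φ ^ k = conjA g * fieldA σ) :
    ∃ o, orderOf φ ≤ k * orderOf σ * o ∧ o ≤ geomS (Nat.card (fixedF σ)) n := by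
  haveI : Finite (F ≃+* F) := Finite.of_injective (fun σ : F ≃+* F => (σ : F → F)) DFunLike.coe_injective
  set N := twN σ g (orderOf σ)
  refine ⟨_, orderOf_le_of_pow_conjA (Nat.mul_pos hk (orderOf_pos σ)) (orderOf_pos _) (N := N) ?_ (pow_orderOf_mem N),
    (le_geomS_iff (two_le_card_fixedF σ)).1 (fixed_bound σ N g hn (twN_fixed σ g))⟩
  rw [pow_mul, h, conjA_field_pow, pow_orderOf_eq_one, map_one, mul_one]

theorem aut_order_le (hn : 2 ≤ n) (h24 : ¬ (n = 2 ∧ Fintype.card F = 4))
    (h32 : ¬ (n = 3 ∧ Fintype.card F = 2)) (φ : MulAut (PSLn n F)) :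
    orderOf φ ≤ geomS (Fintype.card F) n := by
  classical
  haveI : Finite (F ≃+* F) := Finite.of_injective (fun σ : F ≃+* F => (σ : F → F)) DFunLike.coe_injective
  haveI : Fact (ringChar F).Prime := ⟨CharP.char_is_prime F (ringChar F)⟩
  obtain ⟨g, σ, γ, hγ, hφ⟩ := exists_decomp_all (ringChar F) hn φ
  rcases hγ with rfl | ⟨rfl, hn3⟩
  · rw [mul_one] at hφ
    obtain ⟨o, h1, h2⟩ := twisted_le σ g (by omega) (φ := φ) one_pos (by rw [pow_one, hφ])
    rw [card_fixedF σ]
    rw [one_mul] at h1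
    refine le_trans h1 (le_trans (Nat.mul_le_mul_left _ h2) (single (two_le_card_fixedF σ) (orderOf_pos σ) n hn ?_))
    rintro ⟨ha, he, hn'⟩
    exact h24 ⟨hn', by rw [card_fixedF σ, ha, he]; norm_num⟩
  · set g2 := g * fieldGL σ (itGL g) with hg2
    have h2 : φ ^ 2 = conjA g2 * fieldA (σ ^ 2) := by
      rw [hφ, pow_two, hg2, map_mul conjA, pow_two, map_mul fieldA]
      calc conjA g * fieldA σ * iotaA * (conjA g * fieldA σ * iotaA)
          = conjA g * fieldA σ * (iotaA * conjA g) * fieldA σ * iotaA := by group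
        _ = conjA g * (fieldA σ * conjA (itGL g)) * iotaA * fieldA σ * iotaA := by rw [conjA_iota]; group
        _ = conjA g * conjA (fieldGL σ (itGL g)) * fieldA σ * (iotaA * fieldA σ) * iotaA := by
            rw [conjA_field]; group
        _ = conjA g * conjA (fieldGL σ (itGL g)) * (fieldA σ * fieldA σ) * (iotaA * iotaA) := by
            rw [fieldA_iota]; group
        _ = _ := by rw [iotaA_mul_self, mul_one]
    rcases eq_or_ne (orderOf (σ ^ 2)) 1 with he | he
    · -- the twisted square is inner-diagonal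
      have hσ2 : σ ^ 2 = 1 := orderOf_eq_one_iff.1 he
      have hform : (g2 : Matrix (Fin n) (Fin n) F)ᵀ *
          ((fieldGL σ g)⁻¹ : GL (Fin n) F) * (g2 : Matrix (Fin n) (Fin n) F).map σ =
          (((fieldGL σ g)⁻¹ : GL (Fin n) F) : Matrix (Fin n) (Fin n) F) := by
        have e1 : (g2 : Matrix (Fin n) (Fin n) F)ᵀ =
            (((fieldGL σ g)⁻¹ : GL (Fin n) F) : Matrix (Fin n) (Fin n) F) * (g : Matrix (Fin n) (Fin n) F)ᵀ := by
          rw [hg2, Units.val_mul, Matrix.transpose_mul]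
          congr 1
        have e2 : (g2 : Matrix (Fin n) (Fin n) F).map σ =
            (fieldGL σ g : Matrix (Fin n) (Fin n) F) * (itGL g : Matrix (Fin n) (Fin n) F) := by
          rw [← fieldGL_coe, hg2, map_mul, fieldGL_fieldGL, ← pow_two, hσ2, fieldGL_one, Units.val_mul]
        rw [e1, e2]
        set A := (((fieldGL σ g)⁻¹ : GL (Fin n) F) : Matrix (Fin n) (Fin n) F)
        calc A * (g : Matrix (Fin n) (Fin n) F)ᵀ * A *
              ((fieldGL σ g : Matrix (Fin n) (Fin n) F) * (itGL g : Matrix (Fin n) (Fin n) F))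
            = A * (g : Matrix (Fin n) (Fin n) F)ᵀ * (A * (fieldGL σ g : Matrix (Fin n) (Fin n) F)) *
              (itGL g : Matrix (Fin n) (Fin n) F) := by simp only [Matrix.mul_assoc]
          _ = A * ((g : Matrix (Fin n) (Fin n) F)ᵀ * (itGL g : Matrix (Fin n) (Fin n) F)) := by
              rw [Units.inv_mul, Matrix.mul_one, Matrix.mul_assoc]
          _ = A := by
              show A * ((g : Matrix (Fin n) (Fin n) F)ᵀ * ((g⁻¹ : GL (Fin n) F) : Matrix (Fin n) (Fin n) F)ᵀ) = A
              rw [← Matrix.transpose_mul, Units.inv_mul, Matrix.transpose_one, Matrix.mul_one]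
      obtain ⟨k, z, hk, hkS, hz⟩ : ∃ (k : ℕ) (z : F), 0 < k ∧ 2 * k ≤ geomS (Fintype.card F) n ∧
          (g2 : Matrix (Fin n) (Fin n) F) ^ k = z • 1 := by
        rcases eq_or_ne σ 1 with rfl | hσ1
        · refine exp_linear hn3 (fun h => ?_) g2 _ hform
          have h2' : 2 ≤ Fintype.card F := Fintype.one_lt_card
          have : Fintype.card F ≠ 2 := fun e => h32 ⟨h, e⟩
          omega
        · exact exp_semilinear hn3 σ (orderOf_eq_prime hσ2 hσ1) g2 _ hform
      rw [hσ2, map_one, mul_one] at h2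
      refine le_trans (orderOf_le_of_pow_conjA two_pos hk h2 ?_) hkS
      rw [Subgroup.mem_center_iff]
      intro y
      refine Units.ext ?_
      rw [Units.val_mul, Units.val_mul, Units.val_pow_eq_pow_val, hz]
      simp
    · obtain ⟨o, h1, h3⟩ := twisted_le (σ ^ 2) g2 (by omega) (φ := φ) two_pos h2
      have hpos := orderOf_pos (σ ^ 2)
      have h22 : ¬ (Nat.card (fixedF (σ ^ 2)) = 2 ∧ orderOf (σ ^ 2) = 2) := by
        rintro ⟨ha, he2⟩
        have hF4 : Fintype.card F = 2 ^ 2 := by rw [card_fixedF (σ ^ 2), ha, he2]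
        haveI : Fact (Nat.Prime 2) := ⟨Nat.prime_two⟩
        have hd : orderOf σ ∣ 2 := by
          have := (card_gal (p := 2) (f := 2) (by norm_num) hF4).2
          rw [← this]; exact orderOf_dvd_natCard σ
        rw [orderOf_dvd_iff_pow_eq_one] at hd
        exact he (by rw [hd, orderOf_one])
      rw [card_fixedF (σ ^ 2)]
      exact le_trans h1 (le_trans (Nat.mul_le_mul_left _ h3)
        (double (two_le_card_fixedF _) (by omega) h22 n hn3))

theorem exists_aut_order (hn : 2 ≤ n) :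
    ∃ φ : MulAut (PSLn n F), (Fintype.card F - 1) * orderOf φ = Fintype.card F ^ n - 1 := by
  haveI : Fact (ringChar F).Prime := ⟨CharP.char_is_prime F (ringChar F)⟩
  obtain ⟨x, hx⟩ := (S2261.result (F := F) n (by omega)).2
  obtain ⟨g, rfl⟩ := QuotientGroup.mk_surjective x
  refine ⟨conjA g, ?_⟩
  rw [← hx]
  congr 1
  refine orderOf_eq_orderOf_iff.2 fun k => ?_
  rw [← map_pow, conjA_eq_one_iff (ringChar F) hn, ← QuotientGroup.mk_pow, QuotientGroup.eq_one_iff]

end Cfsg.Agent.AutPSL
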