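import Mathlib

/-!
Arithmetic for the largest order of an automorphism of PSL.
-/

set_option autoImplicit false

namespace Cfsg.Agent.AutPSL

/-- The sum `1 + q + ⋯ + q^(d-1)`. -/
def geomS (q d : ℕ) : ℕ := ∑ i ∈ Finset.range d, q ^ i

theorem geomS_succ (q d : ℕ) : geomS q (d + 1) = geomS q d + q ^ d := Finset.sum_range_succ _ _

theorem sub_one_mul_geomS {q : ℕ} (hq : 1 ≤ q) : ∀ d, (q - 1) * geomS q d + 1 = q ^ d
  | 0 => by simp [geomS]
  | d + 1 => by
    rw [geomS_succ, Nat.mul_add, pow_succ]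
    have h := sub_one_mul_geomS hq d
    have e : (q - 1) * q ^ d + q ^ d = q ^ d * q := by
      obtain ⟨k, rfl⟩ := Nat.exists_eq_add_of_le' hq
      rw [Nat.add_sub_cancel]; ring
    omega

theorem geomS_one_le (q : ℕ) {d : ℕ} (hd : 1 ≤ d) : 1 ≤ geomS q d := by
  obtain ⟨e, rfl⟩ := Nat.exists_eq_add_of_le' hd
  rw [geomS, Finset.sum_range_succ']
  simp

theorem le_geomS_iff {q d x : ℕ} (hq : 2 ≤ q) : (q - 1) * x ≤ q ^ d - 1 ↔ x ≤ geomS q d := by
  have h := sub_one_mul_geomS (q := q) (by omega) d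
  rw [show q ^ d - 1 = (q - 1) * geomS q d by omega]
  exact Nat.mul_le_mul_left_iff (by omega)

theorem succ_le_two_pow : ∀ j : ℕ, j + 1 ≤ 2 ^ j
  | 0 => by norm_num
  | j + 1 => by have := succ_le_two_pow j; rw [pow_succ]; omega

theorem four_mul_le_four_pow : ∀ j : ℕ, 2 ≤ j → 4 * (j + 1) ≤ 4 ^ j
  | 0, h => by omega
  | 1, h => by omega
  | 2, _ => by norm_num
  | j + 3, _ => by
    have := four_mul_le_four_pow (j + 2) (by omega)
    rw [pow_succ]; omega

theorem step_single {a e i : ℕ} (ha : 2 ≤ a) (he : 1 ≤ e) (hi : 1 ≤ i) : e * a ^ i ≤ (a ^ e) ^ i := by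
  obtain ⟨j, rfl⟩ := Nat.exists_eq_add_of_le' he
  rw [pow_succ, mul_pow]
  refine Nat.mul_le_mul_right _ ?_
  calc j + 1 ≤ 2 ^ j := succ_le_two_pow j
    _ ≤ a ^ j := Nat.pow_le_pow_left ha j
    _ = (a ^ j) ^ 1 := (pow_one _).symm
    _ ≤ (a ^ j) ^ i := Nat.pow_le_pow_right (Nat.pow_pos (by omega)) hi

theorem single {a e : ℕ} (ha : 2 ≤ a) (he : 1 ≤ e) :
    ∀ d, 2 ≤ d → ¬ (a = 2 ∧ e = 2 ∧ d = 2) → e * geomS a d ≤ geomS (a ^ e) d := by
  intro d hd
  induction d, hd using Nat.le_induction with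
  | base =>
    intro h
    simp only [geomS, Finset.sum_range_succ, Finset.sum_range_zero, zero_add, pow_zero, pow_one]
    rcases Nat.lt_or_ge e 3 with h3 | h3
    · interval_cases e
      · simp
      · have ha3 : 3 ≤ a := by omega
        nlinarith
    · obtain ⟨j, rfl⟩ := Nat.exists_eq_add_of_le' h3
      have h1 : j + 3 ≤ 2 * a ^ (j + 1) := by
        have := succ_le_two_pow (j + 1)
        have := Nat.pow_le_pow_left ha (j + 1)
        omega
      rw [show a ^ (j + 3) = a ^ (j + 1) * a * a by ring]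
      have h2 : j + 2 ≤ a ^ (j + 1) := le_trans (succ_le_two_pow (j + 1)) (Nat.pow_le_pow_left ha (j + 1))
      have h4 : 4 * a ^ (j + 1) ≤ a ^ (j + 1) * a * a := by
        rw [mul_comm 4, mul_assoc (a ^ (j + 1))]
        exact Nat.mul_le_mul_left _ (Nat.mul_le_mul ha ha)
      have h5 : (j + 3) * (1 + a) ≤ 1 + a ^ (j + 1) * a * a := by
        rcases Nat.lt_or_ge a 3 with h' | h'
        · have : a = 2 := by omega
          subst this
          omega
        · have e1 : 2 * (1 + a) ≤ a * a := by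
            have : 3 * a ≤ a * a := Nat.mul_le_mul_right _ h'
            omega
          calc (j + 3) * (1 + a) ≤ (2 * a ^ (j + 1)) * (1 + a) := Nat.mul_le_mul_right _ h1
            _ = a ^ (j + 1) * (2 * (1 + a)) := by ring
            _ ≤ a ^ (j + 1) * (a * a) := Nat.mul_le_mul_left _ e1
            _ = a ^ (j + 1) * a * a := by ring
            _ ≤ 1 + a ^ (j + 1) * a * a := Nat.le_add_left _ _
      exact h5
  | succ d hd ih =>
    intro _
    rw [geomS_succ, geomS_succ, Nat.mul_add]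
    by_cases h2 : a = 2 ∧ e = 2 ∧ d = 2
    · obtain ⟨rfl, rfl, rfl⟩ := h2
      decide
    · exact Nat.add_le_add (ih h2) (step_single ha he (by omega))

theorem double {a e : ℕ} (ha : 2 ≤ a) (he : 2 ≤ e) (h22 : ¬ (a = 2 ∧ e = 2)) :
    ∀ d, 3 ≤ d → 2 * e * geomS a d ≤ geomS (a ^ e) d := by
  intro d hd
  induction d, hd using Nat.le_induction with
  | base =>
    simp only [geomS, Finset.sum_range_succ, Finset.sum_range_zero, zero_add, pow_zero, pow_one]
    rcases Nat.lt_or_ge e 3 with h3 | h3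
    · have : e = 2 := by omega
      subst this
      have ha3 : 3 ≤ a := by omega
      have h9 : 9 * (a * a) ≤ (a * a) * (a * a) := Nat.mul_le_mul_right _ (Nat.mul_le_mul ha3 ha3)
      have h4 : 3 * a ≤ a * a := Nat.mul_le_mul_right _ ha3
      rw [show (a ^ 2) ^ 2 = a * a * (a * a) by ring, pow_two]
      omega
    · obtain ⟨j, rfl⟩ := Nat.exists_eq_add_of_le' (show 1 ≤ e by omega)
      have h1 := four_mul_le_four_pow j (by omega)
      have h2 : 4 ^ j ≤ (a * a) ^ j := Nat.pow_le_pow_left (Nat.mul_le_mul ha ha) j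
      have h3 : 1 + a ≤ a * a := by
        have : 2 * a ≤ a * a := Nat.mul_le_mul_right _ ha
        omega
      calc 2 * (j + 1) * (1 + a + a ^ 2) ≤ 2 * (j + 1) * (2 * (a * a)) :=
            Nat.mul_le_mul_left _ (by rw [pow_two]; omega)
        _ = 4 * (j + 1) * (a * a) := by ring
        _ ≤ (a * a) ^ j * (a * a) := Nat.mul_le_mul_right _ (le_trans h1 h2)
        _ = (a ^ (j + 1)) ^ 2 := by rw [← pow_succ, ← pow_two, ← pow_mul, ← pow_mul, mul_comm]
        _ ≤ 1 + a ^ (j + 1) + (a ^ (j + 1)) ^ 2 := Nat.le_add_left _ _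
  | succ d hd ih =>
    rw [geomS_succ, geomS_succ, Nat.mul_add]
    refine Nat.add_le_add ih ?_
    obtain ⟨j, rfl⟩ := Nat.exists_eq_add_of_le' (show 1 ≤ e by omega)
    rw [pow_succ a j, mul_pow]
    refine Nat.mul_le_mul_right _ ?_
    have h1 : 2 * (j + 1) ≤ 2 ^ (j + 1) := by
      have := succ_le_two_pow j
      rw [pow_succ]; omega
    calc 2 * (j + 1) ≤ 2 ^ (j + 1) := h1
      _ ≤ a ^ (j + 1) := Nat.pow_le_pow_left ha _
      _ ≤ a ^ (j * d) := Nat.pow_le_pow_right (by omega) (by nlinarith)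
      _ = (a ^ j) ^ d := pow_mul _ _ _

end Cfsg.Agent.AutPSL
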