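import Cfsg.Agent.AutPSL.Twisted
import Cfsg.Agent.AutPSL.MaxOrderArith

/-!
A matrix similar to its image under a field automorphism has projective order at most
that of a Singer cycle over the fixed field.
-/

set_option autoImplicit false

namespace Cfsg.Agent.AutPSL

open Matrix Polynomial

variable {n : ℕ} {F : Type*} [Field F] [Fintype F]

/-- The fixed field of a field automorphism. -/
def fixedF (σ : F ≃+* F) : Subfield F := FixedPoints.subfield (Subgroup.zpowers σ) F

theorem mem_fixedF {σ : F ≃+* F} {x : F} : x ∈ fixedF σ ↔ σ x = x := by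
  refine ⟨fun h => h ⟨σ, Subgroup.mem_zpowers σ⟩, fun hx g => ?_⟩
  obtain ⟨g, hg⟩ := g
  have : Subgroup.zpowers σ ≤ MulAction.stabilizer (F ≃+* F) x := by
    rw [Subgroup.zpowers_le, MulAction.mem_stabilizer_iff]; exact hx
  exact MulAction.mem_stabilizer_iff.1 (this hg)

theorem finrank_fixedF (σ : F ≃+* F) : Module.finrank (fixedF σ) F = orderOf σ := by
  classical
  haveI : Finite (F ≃+* F) := Finite.of_injective (fun σ : F ≃+* F => (σ : F → F)) DFunLike.coe_injective
  haveI : Fintype (Subgroup.zpowers σ) := Fintype.ofFinite _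
  show Module.finrank (FixedPoints.subfield (Subgroup.zpowers σ) F) F = _
  rw [FixedPoints.finrank_eq_card (Subgroup.zpowers σ) F, ← Nat.card_eq_fintype_card, Nat.card_zpowers]

theorem card_fixedF (σ : F ≃+* F) : Fintype.card F = Nat.card (fixedF σ) ^ orderOf σ := by
  rw [← Nat.card_eq_fintype_card, Module.natCard_eq_pow_finrank (K := fixedF σ) (V := F), finrank_fixedF]

theorem two_le_card_fixedF (σ : F ≃+* F) : 2 ≤ Nat.card (fixedF σ) := by
  haveI : Finite (fixedF σ) := Subtype.finite
  exact Finite.one_lt_card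

theorem fixed_bound (σ : F ≃+* F) (N g : GL (Fin n) F) (hn : 1 ≤ n) (h : fieldGL σ N = g⁻¹ * N * g) :
    (Nat.card (fixedF σ) - 1) * orderOf (QuotientGroup.mk N : GL (Fin n) F ⧸ Subgroup.center (GL (Fin n) F))
      ≤ Nat.card (fixedF σ) ^ n - 1 := by
  classical
  set K := fixedF σ
  haveI : Fintype K := Fintype.ofFinite K
  rw [Nat.card_eq_fintype_card]
  haveI : Nonempty (Fin n) := ⟨⟨0, hn⟩⟩
  set o := orderOf (QuotientGroup.mk N : GL (Fin n) F ⧸ Subgroup.center (GL (Fin n) F)) with ho
  set M : Matrix (Fin n) (Fin n) F := (N : Matrix (Fin n) (Fin n) F) with hM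
  have hcp : ∀ i, σ (M.charpoly.coeff i) = M.charpoly.coeff i := by
    intro i
    have e : (M.map σ).charpoly = M.charpoly := by
      rw [show M.map σ = ((g⁻¹ * N * g : GL (Fin n) F) : Matrix (Fin n) (Fin n) F) from by
        rw [← h]; rfl, Units.val_mul, Units.val_mul, Matrix.charpoly_mul_comm, ← Matrix.mul_assoc, Units.mul_inv, Matrix.one_mul]
    rw [show M.map (σ : F → F) = M.map (σ : F →+* F) from rfl, Matrix.charpoly_map] at e
    conv_rhs => rw [← e]
    rw [Polynomial.coeff_map]
    rfl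
  have hlift : M.charpoly ∈ Polynomial.lifts K.subtype := by
    rw [Polynomial.lifts_iff_coeff_lifts]
    exact fun i => ⟨⟨_, mem_fixedF.2 (hcp i)⟩, rfl⟩
  obtain ⟨χ, hχ, hdeg, hmon⟩ := Polynomial.lifts_and_degree_eq_and_monic hlift (Matrix.charpoly_monic M)
  have hnd : χ.natDegree = n := by
    rw [natDegree_eq_of_degree_eq hdeg, Matrix.charpoly_natDegree_eq_dim, Fintype.card_fin]
  let T : Finset (Matrix (Fin n) (Fin n) F) :=
    Finset.univ.image (fun c : Fin n → K => ∑ i : Fin n, (c i : F) • M ^ (i : ℕ))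
  have hT : T.card ≤ Fintype.card K ^ n := by
    refine le_trans Finset.card_image_le ?_
    simp
  have hmem : ∀ P : K[X], aeval M (P.map K.subtype) ∈ T := by
    intro P
    have h1 : aeval M (P.map K.subtype) = aeval M ((P %ₘ χ).map K.subtype) := by
      conv_lhs => rw [← Polynomial.modByMonic_add_div P χ]
      rw [Polynomial.map_add, Polynomial.map_mul, map_add, map_mul, hχ, Matrix.aeval_self_charpoly, zero_mul,
        add_zero]
    have hd : (P %ₘ χ).natDegree < n := by
      refine lt_of_lt_of_eq (Polynomial.natDegree_modByMonic_lt P hmon fun h1 => ?_) hnd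
      rw [h1, natDegree_one] at hnd
      omega
    rw [h1, aeval_eq_sum_range' (lt_of_le_of_lt natDegree_map_le hd), Finset.mem_image]
    refine ⟨fun i => (P %ₘ χ).coeff i, Finset.mem_univ _, ?_⟩
    rw [Fin.sum_univ_eq_sum_range (fun i => ((P %ₘ χ).coeff i : F) • M ^ i) n]
    simp [Polynomial.coeff_map]
  let f : Kˣ × Fin o → Matrix (Fin n) (Fin n) F := fun x => ((x.1 : K) : F) • M ^ (x.2 : ℕ)
  have hf : Function.Injective f := by
    rintro ⟨c, i⟩ ⟨c', j⟩ h
    simp only [f] at h
    have hc : ∀ c : Kˣ, ((c : K) : F) ≠ 0 := fun c e => c.ne_zero (Subtype.ext e)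
    have hij : i = j := by
      set u : Fˣ := (Units.mk0 _ (hc c'))⁻¹ * Units.mk0 _ (hc c)
      have he : N ^ (j : ℕ) = Matrix.GeneralLinearGroup.scalar (Fin n) u * N ^ (i : ℕ) := by
        apply Units.ext
        have h' := congrArg (fun A => ((c' : K) : F)⁻¹ • A) h
        simp only [smul_smul, inv_mul_cancel₀ (hc c'), one_smul] at h'
        have hz : (Matrix.GeneralLinearGroup.scalar (Fin n) u : Matrix (Fin n) (Fin n) F) =
            Matrix.diagonal fun _ => (u : F) := rfl
        rw [Units.val_mul, Units.val_pow_eq_pow_val, Units.val_pow_eq_pow_val, hz, ← hM, ← h',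
          ← Matrix.smul_eq_diagonal_mul]
        simp [u]
      have hz : Matrix.GeneralLinearGroup.scalar (Fin n) u ∈ Subgroup.center (GL (Fin n) F) := by
        rw [Matrix.GeneralLinearGroup.center_eq_range_scalar]; exact ⟨u, rfl⟩
      have h2 := congrArg (fun x => (QuotientGroup.mk x : GL (Fin n) F ⧸ Subgroup.center (GL (Fin n) F))) he
      simp only [QuotientGroup.mk_mul, QuotientGroup.mk_pow, (QuotientGroup.eq_one_iff _).2 hz, one_mul] at h2
      exact Fin.ext (pow_injOn_Iio_orderOf (Set.mem_Iio.2 i.2) (Set.mem_Iio.2 j.2) h2.symm)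
    subst hij
    have hunit : M ^ (i : ℕ) ≠ 0 := fun e => (N ^ (i : ℕ)).ne_zero (by rw [Units.val_pow_eq_pow_val]; exact e)
    exact Prod.ext (Units.ext (Subtype.ext (smul_left_injective F hunit h))) rfl
  have hsub : Finset.univ.image f ⊆ T.erase 0 := by
    intro A hA
    obtain ⟨⟨c, i⟩, -, rfl⟩ := Finset.mem_image.1 hA
    refine Finset.mem_erase.2 ⟨smul_ne_zero (fun e => c.ne_zero (Subtype.ext e)) fun e => ?_, ?_⟩
    · exact (N ^ (i : ℕ)).ne_zero (by rw [Units.val_pow_eq_pow_val]; exact e)
    · have := hmem (Polynomial.C (c : K) * Polynomial.X ^ (i : ℕ))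
      simpa [f, Algebra.smul_def] using this
  have h0 : (0 : Matrix (Fin n) (Fin n) F) ∈ T := by simpa using hmem 0
  have := Finset.card_le_card hsub
  rw [Finset.card_image_of_injective _ hf, Finset.card_erase_of_mem h0, Finset.card_univ, Fintype.card_prod,
    Fintype.card_units, Fintype.card_fin] at this
  omega

theorem twN_fixed (σ : F ≃+* F) (g : GL (Fin n) F) :
    fieldGL σ (twN σ g (orderOf σ)) = g⁻¹ * twN σ g (orderOf σ) * g := by
  have h1 : g * fieldGL σ (twN σ g (orderOf σ)) = twN σ g (orderOf σ) * g := by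
    show twN σ g (orderOf σ + 1) = _
    rw [twN_succ', pow_orderOf_eq_one, fieldGL_one]
  rw [mul_assoc, ← h1, inv_mul_cancel_left]

end Cfsg.Agent.AutPSL
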