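import Cfsg.Agent.AutPSL.MaxOrderPoly
import Cfsg.Agent.AutPSL.MaxOrderField

/-!
An isometry of a (semi)linear form has projective order at most half that of a Singer cycle.
-/

set_option autoImplicit false

namespace Cfsg.Agent.AutPSL

open Matrix Polynomial

variable {n : ℕ} {F : Type*} [Field F] [Fintype F]

/-- Dimension three, bilinear. -/
theorem exp_three (hq : 3 ≤ Fintype.card F) (N Xf : GL (Fin 3) F)
    (h : (N : Matrix (Fin 3) (Fin 3) F)ᵀ * Xf * (N : Matrix (Fin 3) (Fin 3) F).map (1 : F ≃+* F) = Xf) :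
    ∃ (k : ℕ) (z : F), 0 < k ∧ 2 * k ≤ geomS (Fintype.card F) 3 ∧
      (N : Matrix (Fin 3) (Fin 3) F) ^ k = z • 1 := by
  classical
  obtain ⟨c, hc0, hc⟩ := minpoly_semi 1 N Xf h
  set M : Matrix (Fin 3) (Fin 3) F := (N : Matrix (Fin 3) (Fin 3) F)
  set μ := minpoly F M with hμ
  have hm : μ.Monic := minpoly.monic (Algebra.IsIntegral.isIntegral M)
  have hpos : 0 < μ.natDegree := minpoly.natDegree_pos (Algebra.IsIntegral.isIntegral M)
  have hle : μ.natDegree ≤ 3 := by
    refine le_trans (natDegree_le_of_dvd (Matrix.minpoly_dvd_charpoly M) (Matrix.charpoly_monic M).ne_zero) ?_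
    rw [Matrix.charpoly_natDegree_eq_dim, Fintype.card_fin]
  set q := Fintype.card F
  have hS : geomS q 3 = 1 + q + q ^ 2 := by simp [geomS, Finset.sum_range_succ]
  have hq2 : 3 * q ≤ q ^ 2 := by rw [pow_two]; exact Nat.mul_le_mul_right _ hq
  set R := AdjoinRoot μ
  set x : R := AdjoinRoot.root μ
  set f := algebraMap F R
  have hrel := root_relation μ
  have hlead : μ.coeff μ.natDegree = 1 := hm
  have hcoef : ∀ i ≤ μ.natDegree, μ.coeff (μ.natDegree - i) = c * μ.coeff i := hc
  have hd : μ.coeff 0 = c := by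
    have := hcoef μ.natDegree le_rfl
    rwa [Nat.sub_self, hlead, mul_one] at this
  have hc2 : c ^ 2 = 1 := by
    have := hcoef 0 (Nat.zero_le _)
    rw [Nat.sub_zero, hlead, hd] at this
    rw [pow_two]; exact this.symm
  suffices hk : ∃ (k : ℕ) (z : F), 0 < k ∧ 2 * k ≤ geomS q 3 ∧ x ^ k = f z by
    obtain ⟨k, z, h1, h6, hxk⟩ := hk
    exact ⟨k, z, h1, h6, pow_scalar_of_root M hxk⟩
  suffices hs : (∃ (k : ℕ) (z : F), 0 < k ∧ k ≤ 2 ∧ x ^ k = f z) ∨
      ∃ e s : F, e ^ 2 = 1 ∧ (x - f e) * (x ^ 2 - f s * x + 1) = 0 by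
    rcases hs with ⟨k, z, h1, h2, h3⟩ | ⟨e, s, he, hx⟩
    · exact ⟨k, z, h1, by omega, h3⟩
    obtain ⟨p, hp⟩ := CharP.exists F
    obtain ⟨j, hpp, hcard⟩ := FiniteField.card F p
    haveI := Fact.mk hpp
    haveI : CharP F p := hp
    have hpq : p ≤ q := le_of_le_of_eq (Nat.le_self_pow j.ne_zero p) hcard.symm
    haveI : Nontrivial R := AdjoinRoot.nontrivial μ (by rw [degree_eq_natDegree hm.ne_zero]; exact_mod_cast hpos.ne')
    haveI : CharP R p := charP_of_injective_algebraMap (algebraMap F R).injective p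
    have hfe : f e ^ 2 = 1 := by rw [← map_pow, he, map_one]
    by_cases hs : s ^ 2 = 4
    · rcases hpp.eq_two_or_odd with h2 | h2
      · subst h2
        refine ⟨4, 1, by norm_num, by omega, ?_⟩
        have hz2 : (2 : F) = 0 := CharP.cast_eq_zero F 2
        have he1 : e = 1 := sub_eq_zero.1 (pow_eq_zero_iff (n := 2) two_ne_zero |>.1
          (by linear_combination he + (1 - e) * hz2))
        have hs1 : s = 0 := pow_eq_zero_iff (n := 2) two_ne_zero |>.1 (by linear_combination hs + 2 * hz2)
        have h2R : (2 : R) = 0 := CharP.cast_eq_zero R 2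
        rw [he1, hs1, map_one, map_zero] at hx
        rw [map_one]
        linear_combination (x + 1) * hx
      · have hp3 : 3 ≤ p := by have := hpp.two_le; omega
        have h2F : (2 : F) ≠ 0 := fun h => by
          have := (CharP.cast_eq_zero_iff F p 2).1 (by exact_mod_cast h)
          have := Nat.le_of_dvd two_pos this
          omega
        obtain ⟨e', he', rfl⟩ : ∃ e' : F, e' ^ 2 = 1 ∧ s = 2 * e' :=
          ⟨s / 2, by field_simp; linear_combination hs, by field_simp⟩
        have hfe' : f e' ^ 2 = 1 := by rw [← map_pow, he', map_one]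
        rw [map_mul, map_ofNat] at hx
        have hx' : (x - f e) * (x - f e') ^ 2 = 0 := by linear_combination hx + (x - f e) * hfe'
        rcases sq_eq_sq_iff_eq_or_eq_neg.1 (he.trans he'.symm) with h | h
        · refine ⟨p, e ^ p, hpp.pos, by omega, ?_⟩
          rw [← h] at hx'
          have h3 : (x - f e) ^ p = 0 :=
            pow_eq_zero_of_le hp3 (by linear_combination hx')
          rw [sub_pow_char, sub_eq_zero] at h3
          rw [h3, map_pow]
        · refine ⟨2 * p, 1, by omega, by omega, ?_⟩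
          rw [h, map_neg] at hx'
          have h3 : (x ^ 2 - 1) ^ p = 0 :=
            pow_eq_zero_of_le (show 2 ≤ p by omega) (by
              rw [← hfe']
              linear_combination (x + f e') * hx')
          rw [sub_pow_char, one_pow, sub_eq_zero, ← pow_mul] at h3
          rw [h3, map_one]
    · -- separable case
      set Ω := AlgebraicClosure F
      obtain ⟨l, hl⟩ := IsAlgClosed.exists_root
        (Polynomial.C 1 * Polynomial.X ^ 2 + Polynomial.C (-algebraMap F Ω s) * Polynomial.X + Polynomial.C 1)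
        (by rw [degree_quadratic one_ne_zero]; decide)
      simp only [IsRoot, eval_add, eval_pow, eval_X, eval_mul, eval_C, one_mul, neg_mul] at hl
      set S := algebraMap F Ω s
      set E := algebraMap F Ω e
      have hE : E ^ 2 = 1 := by rw [← map_pow, he, map_one]
      have hl' : l ^ 2 - S * l + 1 = 0 := by linear_combination hl
      have hll : l * (S - l) = 1 := by linear_combination -hl
      have hl0 : l ≠ 0 := left_ne_zero_of_mul_eq_one hll
      have hS4 : S ^ 2 ≠ 4 := fun h => hs ((algebraMap F Ω).injective (by rw [map_pow, h, map_ofNat]))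
      have hne : l ≠ S - l := fun h => hS4 (by
        have : S = 2 * l := by linear_combination -h
        rw [this]; linear_combination 4 * hll + 4 * l * (h))
      have hE1 : E ≠ l := fun h => hS4 (by
        rw [← h] at hll
        have : S = 2 * E := by linear_combination E * hll + (E - S) * hE
        rw [this]; linear_combination 4 * hE)
      have hE2 : E ≠ S - l := fun h => hS4 (by
        rw [← h] at hll
        have hlE : l = E := by linear_combination E * hll - l * hE
        rw [hlE] at h
        have : S = 2 * E := by linear_combination -h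
        rw [this]; linear_combination 4 * hE)
      -- Frobenius permutes the two roots
      have hlq : l ^ q = l ∨ l ^ q = S - l := by
        haveI : CharP Ω p := charP_of_injective_algebraMap (algebraMap F Ω).injective p
        have hfr : ∀ a b : Ω, (a + b) ^ q = a ^ q + b ^ q := fun a b => by rw [show q = p ^ (j : ℕ) from hcard]; exact add_pow_char_pow a b p j
        have hfs : ∀ a b : Ω, (a - b) ^ q = a ^ q - b ^ q := fun a b => by rw [show q = p ^ (j : ℕ) from hcard]; exact sub_pow_char_pow a b j
        have hSq : S ^ q = S := by rw [← map_pow, FiniteField.pow_card]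
        have h0 : (l ^ 2 - S * l + 1) ^ q = 0 := by rw [hl', zero_pow (by omega)]
        rw [hfr, hfs, mul_pow, hSq, one_pow, ← pow_mul, mul_comm 2 q, pow_mul] at h0
        have : (l ^ q - l) * (l ^ q - (S - l)) = 0 := by linear_combination h0 - hl'
        exact (mul_eq_zero.1 this).imp sub_eq_zero.1 sub_eq_zero.1
      obtain ⟨k, hk0, hkq, hlk, hEk⟩ : ∃ k, 0 < k ∧ k ≤ q + 1 ∧ l ^ k = 1 ∧ E ^ k = 1 := by
        have hEq : E ^ q = E := by rw [← map_pow, FiniteField.pow_card]
        have hE0 : E ≠ 0 := fun h => by rw [h] at hE; simp at hE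
        rcases hlq with h | h
        · refine ⟨q - 1, by omega, by omega, ?_, ?_⟩
          · exact mul_right_cancel₀ hl0 (by rw [← pow_succ, Nat.sub_add_cancel (by omega), h, one_mul])
          · exact mul_right_cancel₀ hE0 (by rw [← pow_succ, Nat.sub_add_cancel (by omega), hEq, one_mul])
        · refine ⟨q + 1, by omega, le_rfl, ?_, ?_⟩
          · rw [pow_succ, h, mul_comm]; exact hll
          · rw [pow_succ, hEq, ← pow_two, hE]
      refine ⟨k, 1, hk0, by omega, ?_⟩
      have hSk : (S - l) ^ k = 1 := by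
        have := congrArg (· ^ k) hll
        simpa [mul_pow, hlk] using this
      have hd1 : μ.map (algebraMap F Ω) ∣ X ^ k - C 1 := by
        refine dvd_trans ?_ (show (X - C E) * ((X - C l) * (X - C (S - l))) ∣ X ^ k - C 1 from
          IsCoprime.mul_dvd (IsCoprime.mul_right
            (isCoprime_X_sub_C_of_isUnit_sub (isUnit_iff_ne_zero.2 (sub_ne_zero.2 hE1)))
            (isCoprime_X_sub_C_of_isUnit_sub (isUnit_iff_ne_zero.2 (sub_ne_zero.2 hE2))))
            (dvd_iff_isRoot.2 (by simp [hEk]))
            (IsCoprime.mul_dvd (isCoprime_X_sub_C_of_isUnit_sub (isUnit_iff_ne_zero.2 (sub_ne_zero.2 hne)))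
              (dvd_iff_isRoot.2 (by simp [hlk])) (dvd_iff_isRoot.2 (by simp [hSk]))))
        have hd2 : μ ∣ (X - C e) * (X ^ 2 - C s * X + 1) := by
          rw [← AdjoinRoot.mk_eq_zero]
          simpa [R, x, f, AdjoinRoot.algebraMap_eq] using hx
        have hd3 := Polynomial.map_dvd (algebraMap F Ω) hd2
        have hid : (X - C E) * ((X - C l) * (X - C (S - l))) =
            ((X - C e) * (X ^ 2 - C s * X + 1)).map (algebraMap F Ω) := by
          simp only [Polynomial.map_mul, Polynomial.map_sub, Polynomial.map_add, Polynomial.map_pow, map_X, map_C,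
            Polynomial.map_one, map_sub]
          have : C l * (C S - C l) = (1 : Polynomial Ω) := by rw [← map_sub, ← map_mul, hll, map_one]
          linear_combination (X - C E) * this
        rwa [hid]
      have hd4 : μ ∣ X ^ k - C 1 := by
        refine (map_dvd_map (algebraMap F Ω) (algebraMap F Ω).injective hm).1 ?_
        simpa using hd1
      rw [← AdjoinRoot.mk_eq_zero] at hd4
      rw [map_sub, map_pow, AdjoinRoot.mk_X, AdjoinRoot.mk_C, sub_eq_zero] at hd4
      rw [hd4, ← AdjoinRoot.algebraMap_eq]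
  -- the possible minimal polynomials
  obtain ⟨k, hkk⟩ : ∃ k, μ.natDegree = k := ⟨_, rfl⟩
  rw [hkk] at hrel hlead hle hpos hcoef
  interval_cases k
  · refine Or.inl ⟨1, -c, one_pos, by norm_num, ?_⟩
    simp only [Finset.sum_range_succ, Finset.sum_range_zero, hlead, hd, map_one] at hrel
    rw [map_neg]
    linear_combination hrel
  · have e1 : μ.coeff 1 = c * μ.coeff 1 := hcoef 1 (by omega)
    simp only [Finset.sum_range_succ, Finset.sum_range_zero, hlead, hd, map_one] at hrel
    by_cases hc1 : c = 1
    · refine Or.inr ⟨1, -μ.coeff 1, one_pow 2, ?_⟩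
      rw [hc1, map_one] at hrel
      rw [map_neg, map_one]
      linear_combination (x - 1) * hrel
    · have : μ.coeff 1 = 0 := by
        have h' : μ.coeff 1 * (1 - c) = 0 := by linear_combination e1
        exact (mul_eq_zero.1 h').resolve_right (sub_ne_zero.2 (Ne.symm hc1))
      rw [this, map_zero] at hrel
      refine Or.inl ⟨2, -c, by norm_num, le_rfl, ?_⟩
      rw [map_neg]
      linear_combination hrel
  · have e1 : μ.coeff 1 = c * μ.coeff 2 := hcoef 2 (by omega)
    simp only [Finset.sum_range_succ, Finset.sum_range_zero, hlead, hd, map_one, e1, map_mul] at hrel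
    have hfc : f c ^ 2 = 1 := by rw [← map_pow, hc2, map_one]
    refine Or.inr ⟨-c, c - μ.coeff 2, by rw [neg_sq]; exact hc2, ?_⟩
    rw [map_neg, map_sub]
    linear_combination hrel - x * hfc

/-- The linear case. -/
theorem exp_linear (hn : 3 ≤ n) (hex : n = 3 → 3 ≤ Fintype.card F) (N Xf : GL (Fin n) F)
    (h : (N : Matrix (Fin n) (Fin n) F)ᵀ * Xf * (N : Matrix (Fin n) (Fin n) F).map (1 : F ≃+* F) = Xf) :
    ∃ (k : ℕ) (z : F), 0 < k ∧ 2 * k ≤ geomS (Fintype.card F) n ∧
      (N : Matrix (Fin n) (Fin n) F) ^ k = z • 1 := by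
  classical
  rcases eq_or_lt_of_le hn with rfl | hn4
  · exact exp_three (hex rfl) N Xf h
  haveI : NeZero n := ⟨by omega⟩
  have hq2 : 2 ≤ Fintype.card F := Fintype.one_lt_card
  by_cases hsmall : Fintype.card F = 2 ∧ (n = 4 ∨ n = 5)
  · rw [hsmall.1]
    exact exp_two hsmall.1 hsmall.2 N Xf h
  set T := (Matrix.toLinAlgEquiv' : Matrix (Fin n) (Fin n) F ≃ₐ[F] Module.End F (Fin n → F)) with hT
  set B : (Fin n → F) →ₗ[F] (Fin n → F) →ₗ[F] F :=
    Matrix.toLinearMap₂' F (Xf : Matrix (Fin n) (Fin n) F) with hB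
  have hBnd : ∀ u, (∀ v, B u v = 0) → u = 0 := fun u hu => by
    have h0 : u ᵥ* (Xf : Matrix (Fin n) (Fin n) F) = 0 := by
      funext j
      have := hu (Pi.single j 1)
      rwa [hB, Matrix.toLinearMap₂'_apply', Matrix.dotProduct_mulVec, dotProduct_single_one] at this
    have := congrArg (fun w => w ᵥ* ((Xf⁻¹ : GL (Fin n) F) : Matrix (Fin n) (Fin n) F)) h0
    simpa [Matrix.vecMul_vecMul] using this
  set m := (n + 1) / 2 with hm
  obtain ⟨k, hk0, hle, hpm⟩ := FormOrder.exists_exp B hBnd (g := T (N : Matrix (Fin n) (Fin n) F))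
    (g' := T ((N⁻¹ : GL (Fin n) F) : Matrix (Fin n) (Fin n) F))
    (by rw [← map_mul, Units.mul_inv, map_one]) (by rw [← map_mul, Units.inv_mul, map_one])
    (fun u v => by
      have h' : (N : Matrix (Fin n) (Fin n) F)ᵀ * (Xf : Matrix (Fin n) (Fin n) F) *
          (N : Matrix (Fin n) (Fin n) F) = Xf := by
        have e : (N : Matrix (Fin n) (Fin n) F).map (1 : F ≃+* F) = (N : Matrix (Fin n) (Fin n) F) :=
          Matrix.ext fun _ _ => rfl
        rwa [e] at h
      simp only [hB, hT, Matrix.toLinearMap₂'_apply', Matrix.toLinAlgEquiv'_apply]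
      rw [Matrix.mulVec_mulVec, Matrix.dotProduct_mulVec, ← Matrix.vecMul_transpose, Matrix.vecMul_vecMul,
        ← Matrix.mul_assoc, h', ← Matrix.dotProduct_mulVec])
    (show 2 ≤ m by omega) (Or.inl (by rw [Module.finrank_fin_fun]; omega))
  refine ⟨k, if T (N : Matrix (Fin n) (Fin n) F) ^ k = 1 then 1 else -1, hk0, ?_, ?_⟩
  · rw [← le_geomS_iff hq2]
    set q := Fintype.card F
    have h1 : 2 * q ^ (m + 1) + 1 ≤ q ^ n := by
      have hpos : 1 ≤ q ^ (m + 1) := Nat.one_le_pow _ _ (by omega)
      rcases Nat.lt_or_ge q 3 with hq3 | hq3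
      · have : m + 3 ≤ n := by
          have : q = 2 := by omega
          have : ¬ (n = 4 ∨ n = 5) := fun e => hsmall ⟨this, e⟩
          omega
        refine le_trans ?_ (Nat.pow_le_pow_right (by omega) this)
        have : 4 * q ^ (m + 1) ≤ q ^ (m + 3) := by
          rw [pow_add q (m + 1) 2, mul_comm 4]
          exact Nat.mul_le_mul_left _ (Nat.pow_le_pow_left hq2 2)
        omega
      · refine le_trans ?_ (Nat.pow_le_pow_right (by omega) (show m + 2 ≤ n by omega))
        have : 3 * q ^ (m + 1) ≤ q ^ (m + 2) := by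
          rw [pow_succ q (m + 1), mul_comm 3]
          exact Nat.mul_le_mul_left _ hq3
        omega
    rw [show (q - 1) * (2 * k) = 2 * ((q - 1) * k) by ring]
    omega
  · apply T.injective
    rw [map_pow, map_smul, map_one]
    split_ifs with h1
    · rw [h1, one_smul]
    · rw [hpm.resolve_left h1]; refine LinearMap.ext fun v => ?_; simp

/-- The semilinear case. -/
theorem exp_semilinear (hn : 3 ≤ n) (σ : F ≃+* F) (hσ : orderOf σ = 2) (N Xf : GL (Fin n) F)
    (h : (N : Matrix (Fin n) (Fin n) F)ᵀ * Xf * (N : Matrix (Fin n) (Fin n) F).map σ = Xf) :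
    ∃ (k : ℕ) (z : F), 0 < k ∧ 2 * k ≤ geomS (Fintype.card F) n ∧
      (N : Matrix (Fin n) (Fin n) F) ^ k = z • 1 := by
  classical
  set K := fixedF σ
  haveI : Fintype K := Fintype.ofFinite K
  set a := Fintype.card K with ha
  have hcard : Fintype.card F = a ^ 2 := by rw [card_fixedF σ, hσ, Nat.card_eq_fintype_card]
  have ha2 : 2 ≤ a := Fintype.one_lt_card
  have hσσ : ∀ x : F, σ (σ x) = x := fun x => by
    have : σ ^ 2 = 1 := by rw [← hσ]; exact pow_orderOf_eq_one σ
    rw [pow_two] at this
    exact RingEquiv.congr_fun this x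
  by_cases hsmall : a = 2 ∧ n = 3
  · obtain ⟨ha', rfl⟩ := hsmall
    have hF4 : Fintype.card F = 4 := by rw [hcard, ha']; norm_num
    have hsq : ∀ x : F, σ x = x ^ 2 := by
      intro x
      by_cases hx : σ x = x
      · have hK : (⟨x, mem_fixedF.2 hx⟩ : K) ^ a = ⟨x, mem_fixedF.2 hx⟩ := FiniteField.pow_card _
        rw [ha'] at hK
        have := congrArg Subtype.val hK
        rw [SubmonoidClass.coe_pow] at this
        rw [hx]; exact this.symm
      · have hx0 : x ≠ 0 := fun e => hx (by rw [e, map_zero])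
        have hx1 : x - 1 ≠ 0 := fun e => hx (by rw [sub_eq_zero.1 e, map_one])
        have h3 : x ^ 3 = 1 := by
          have := FiniteField.pow_card_sub_one_eq_one x hx0
          rwa [hF4] at this
        have hq : x ^ 2 + x + 1 = 0 := by
          have : (x - 1) * (x ^ 2 + x + 1) = 0 := by linear_combination h3
          exact (mul_eq_zero.1 this).resolve_left hx1
        have hsq' : σ x ^ 2 + σ x + 1 = 0 := by
          rw [← map_pow, ← map_add, ← map_one σ, ← map_add, hq, map_zero]
        have : (σ x - x) * (σ x + x + 1) = 0 := by linear_combination hsq' - hq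
        have h4 := (mul_eq_zero.1 this).resolve_left (sub_ne_zero.2 hx)
        linear_combination h4 - hq
    obtain ⟨k, z, hk0, hk, hpow⟩ := exp_four hF4 σ hsq N Xf h
    refine ⟨k, z, hk0, ?_, hpow⟩
    rw [hF4]
    simp only [geomS, Finset.sum_range_succ, Finset.sum_range_zero]
    omega
  -- restrict scalars to the fixed field
  let tr : F → K := fun t => ⟨t + σ t, mem_fixedF.2 (by rw [map_add, hσσ, add_comm])⟩
  let fB : (Fin n → F) → (Fin n → F) → F := fun u v =>
    u ⬝ᵥ (Xf : Matrix (Fin n) (Fin n) F) *ᵥ (fun i => σ (v i))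
  have hKσ : ∀ c : K, σ (c : F) = c := fun c => mem_fixedF.1 c.2
  let B : (Fin n → F) →ₗ[K] (Fin n → F) →ₗ[K] K := LinearMap.mk₂ K (fun u v => tr (fB u v))
    (fun u u' v => Subtype.ext (by simp [tr, fB, add_dotProduct, map_add]; ring))
    (fun c u v => Subtype.ext (by simp [tr, fB, smul_dotProduct, map_mul, hKσ, Subfield.smul_def]; ring))
    (fun u v v' => Subtype.ext (by
      have e : (fun i => σ ((v + v') i)) = (fun i => σ (v i)) + fun i => σ (v' i) := by funext i; simp
      simp only [tr, fB, e, Matrix.mulVec_add, dotProduct_add, map_add, AddMemClass.coe_add]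
      ring))
    (fun c u v => Subtype.ext (by
      have e : (fun i => σ ((c • v) i)) = (c : F) • fun i => σ (v i) := by
        funext i; simp [Subfield.smul_def, map_mul, hKσ]
      simp only [tr, fB, e, Matrix.mulVec_smul, dotProduct_smul, smul_eq_mul, map_mul, hKσ]
      show _ = ((c : F) * _)
      ring))
  have hBnd : ∀ u, (∀ v, B u v = 0) → u = 0 := fun u hu => by
    obtain ⟨t, ht⟩ : ∃ t : F, t + σ t ≠ 0 := by
      by_contra hc
      push Not at hc
      have h1 : σ = 1 := RingEquiv.ext fun x => by
        have e1 := hc x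
        have e2 := hc 1
        rw [map_one] at e2
        show σ x = x
        linear_combination e1 - x * e2
      rw [h1, orderOf_one] at hσ
      omega
    have h0 : u ᵥ* (Xf : Matrix (Fin n) (Fin n) F) = 0 := by
      funext j
      by_contra hne
      set w := (u ᵥ* (Xf : Matrix (Fin n) (Fin n) F)) j
      have := congrArg Subtype.val (hu (Pi.single j (σ (t / w))))
      simp only [B, LinearMap.mk₂_apply, tr, fB, ZeroMemClass.coe_zero] at this
      have e : (fun i => σ ((Pi.single j (σ (t / w)) : Fin n → F) i)) = Pi.single j (t / w) := by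
        funext i
        rcases eq_or_ne i j with rfl | hij
        · simp [hσσ]
        · simp [hij]
      rw [e, Matrix.dotProduct_mulVec, dotProduct_single, mul_div_cancel₀ _ hne] at this
      exact ht this
    have := congrArg (fun w => w ᵥ* ((Xf⁻¹ : GL (Fin n) F) : Matrix (Fin n) (Fin n) F)) h0
    simpa [Matrix.vecMul_vecMul] using this
  set g : Module.End K (Fin n → F) := (Matrix.toLin' (N : Matrix (Fin n) (Fin n) F)).restrictScalars K with hg
  set g' : Module.End K (Fin n → F) :=
    (Matrix.toLin' ((N⁻¹ : GL (Fin n) F) : Matrix (Fin n) (Fin n) F)).restrictScalars K with hg'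
  have h1 : g * g' = 1 := LinearMap.ext fun v => by simp [hg, hg', Matrix.mulVec_mulVec]
  have h2 : g' * g = 1 := LinearMap.ext fun v => by simp [hg, hg', Matrix.mulVec_mulVec]
  have hiso : ∀ u v, B (g u) (g v) = B u v := fun u v => by
    have e : fB (g u) (g v) = fB u v := by
      have e1 : (fun i => σ (((N : Matrix (Fin n) (Fin n) F) *ᵥ v) i)) =
          (N : Matrix (Fin n) (Fin n) F).map σ *ᵥ fun i => σ (v i) := by
        funext i; exact RingHom.map_mulVec (σ : F →+* F) _ _ i
      simp only [fB, hg, LinearMap.restrictScalars_apply, Matrix.toLin'_apply, e1]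
      rw [Matrix.mulVec_mulVec, Matrix.dotProduct_mulVec, ← Matrix.vecMul_transpose, Matrix.vecMul_vecMul,
        ← Matrix.mul_assoc, h, ← Matrix.dotProduct_mulVec]
    simp only [B, LinearMap.mk₂_apply, e]
  obtain ⟨k, hk0, hle, hpm⟩ := FormOrder.exists_exp B hBnd h1 h2 hiso (show 2 ≤ n by omega) (Or.inl (by
    rw [← Module.finrank_mul_finrank K F (Fin n → F), finrank_fixedF, hσ, Module.finrank_fin_fun]))
  have hgk : g ^ k = (Matrix.toLin' ((N : Matrix (Fin n) (Fin n) F) ^ k)).restrictScalars K := by
    refine LinearMap.ext fun v => ?_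
    rw [Module.End.pow_apply]
    clear hle hpm hk0
    induction k with
    | zero => simp
    | succ k ih => rw [Function.iterate_succ_apply', ih]; simp [hg, pow_succ', Matrix.mulVec_mulVec]
  refine ⟨k, if g ^ k = 1 then 1 else -1, hk0, ?_, ?_⟩
  · rw [← le_geomS_iff (Fintype.one_lt_card), hcard]
    have hle' : (a - 1) * k ≤ a ^ (n + 1) := hle
    have hfac : a ^ 2 - 1 = (a + 1) * (a - 1) := by
      rw [← Nat.sq_sub_sq, one_pow]
    have h3 : 2 * (a + 1) * a ^ (n + 1) + 1 ≤ (a ^ 2) ^ n := by
      rw [← pow_mul, show 2 * n = (n + 1) + (n - 1) by omega, pow_add a (n + 1) (n - 1)]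
      have hpos : 1 ≤ a ^ (n + 1) := Nat.one_le_pow _ _ (by omega)
      have : 2 * (a + 1) + 1 ≤ a ^ (n - 1) := by
        rcases Nat.lt_or_ge a 3 with h3 | h3
        · have : a = 2 := by omega
          have : 3 ≤ n - 1 := by
            have : n ≠ 3 := fun e => hsmall ⟨this, e⟩
            omega
          refine le_trans ?_ (Nat.pow_le_pow_right (by omega) this)
          subst a
          simp_all
        · refine le_trans ?_ (Nat.pow_le_pow_right (by omega) (show 2 ≤ n - 1 by omega))
          have : 3 * a ≤ a ^ 2 := by rw [pow_two]; exact Nat.mul_le_mul_right _ h3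
          omega
      have := Nat.mul_le_mul_left (a ^ (n + 1)) this
      rw [Nat.mul_add, mul_one, mul_comm (a ^ (n + 1)) (2 * (a + 1))] at this
      omega
    rw [hfac, show (a + 1) * (a - 1) * (2 * k) = 2 * (a + 1) * ((a - 1) * k) by ring]
    have := Nat.mul_le_mul_left (2 * (a + 1)) hle'
    omega
  · apply Matrix.toLin'.injective
    apply LinearMap.restrictScalars_injective K
    rw [← hgk, map_smul, Matrix.toLin'_one]
    split_ifs with h1
    · rw [h1, one_smul]; rfl
    · rw [hpm.resolve_left h1]; refine LinearMap.ext fun v => ?_; simp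

end Cfsg.Agent.AutPSL
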