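import Cfsg.Agent.AutPSL.Structure
import Cfsg.Agent.AutPSL.MaxOrderArith
import Cfsg.Agent.FormOrder.Main

/-!
Small exponents for matrices which are semi-reciprocal: isometries of a semilinear form in
dimension three, and over the fields with two or four elements.
-/

set_option autoImplicit false

namespace Cfsg.Agent.AutPSL

open Matrix Polynomial

variable {n : ℕ} {F : Type*} [Field F]

theorem aeval_semiconj {S A B : Matrix (Fin n) (Fin n) F} (h : S * A = B * S) (P : F[X]) :
    S * aeval A P = aeval B P * S := by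
  induction P using Polynomial.induction_on' with
  | add a b ha hb => rw [map_add, map_add, Matrix.mul_add, Matrix.add_mul, ha, hb]
  | monomial k a =>
    have hs : SemiconjBy S A B := h
    rw [Polynomial.aeval_monomial, Polynomial.aeval_monomial, ← Algebra.smul_def, ← Algebra.smul_def,
      Matrix.mul_smul, Matrix.smul_mul, (hs.pow_right k).eq]

theorem aeval_transpose' (A : Matrix (Fin n) (Fin n) F) (P : F[X]) : aeval Aᵀ P = (aeval A P)ᵀ := by
  induction P using Polynomial.induction_on' with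
  | add a b ha hb => rw [map_add, map_add, Matrix.transpose_add, ha, hb]
  | monomial k a =>
    rw [Polynomial.aeval_monomial, Polynomial.aeval_monomial, ← Algebra.smul_def, ← Algebra.smul_def,
      Matrix.transpose_smul, Matrix.transpose_pow]

/-- Semi-reciprocity of the minimal polynomial of a semilinear isometry. -/
theorem minpoly_semi [NeZero n] (σ : F ≃+* F) (N X : GL (Fin n) F)
    (h : (N : Matrix (Fin n) (Fin n) F)ᵀ * X * (N : Matrix (Fin n) (Fin n) F).map σ = X) :
    ∃ c : F, c ≠ 0 ∧ ∀ i ≤ (minpoly F (N : Matrix (Fin n) (Fin n) F)).natDegree,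
      σ ((minpoly F (N : Matrix (Fin n) (Fin n) F)).coeff
        ((minpoly F (N : Matrix (Fin n) (Fin n) F)).natDegree - i)) =
        c * (minpoly F (N : Matrix (Fin n) (Fin n) F)).coeff i := by
  set M : Matrix (Fin n) (Fin n) F := (N : Matrix (Fin n) (Fin n) F)
  set μ := minpoly F M
  have hint : IsIntegral F M := Algebra.IsIntegral.isIntegral M
  have hm : μ.Monic := minpoly.monic hint
  set μ' := μ.map (σ : F →+* F)
  have hXc : (X : Matrix (Fin n) (Fin n) F) * M.map σ = (itGL N : Matrix (Fin n) (Fin n) F) * X := by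
    conv_rhs => rw [← h]
    rw [← Matrix.mul_assoc, ← Matrix.mul_assoc]
    show _ = ((N⁻¹ : GL (Fin n) F) : Matrix (Fin n) (Fin n) F)ᵀ * Mᵀ * _ * _
    rw [← Matrix.transpose_mul, Units.mul_inv, Matrix.transpose_one, Matrix.one_mul]
  have h1 : aeval (M.map σ) μ' = 0 := by
    have e := congrArg (RingHom.mapMatrix (σ : F →+* F) : Matrix (Fin n) (Fin n) F →+* _) (minpoly.aeval F M)
    rw [map_zero, Polynomial.aeval_def, Polynomial.hom_eval₂] at e
    rw [Polynomial.aeval_def, Polynomial.eval₂_map]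
    have hcomp : (RingHom.mapMatrix (σ : F →+* F) : Matrix (Fin n) (Fin n) F →+* _).comp
        (algebraMap F (Matrix (Fin n) (Fin n) F)) =
        (algebraMap F (Matrix (Fin n) (Fin n) F)).comp (σ : F →+* F) := by
      refine RingHom.ext fun a => ?_
      show (algebraMap F (Matrix (Fin n) (Fin n) F) a).map σ = algebraMap F (Matrix (Fin n) (Fin n) F) (σ a)
      rw [Algebra.algebraMap_eq_smul_one, Algebra.algebraMap_eq_smul_one, Matrix.smul_one_eq_diagonal,
        Matrix.smul_one_eq_diagonal, Matrix.diagonal_map (map_zero _)]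
    rw [hcomp] at e
    exact e
  have h2 : aeval ((N⁻¹ : GL (Fin n) F) : Matrix (Fin n) (Fin n) F) μ' = 0 := by
    have e := aeval_semiconj hXc μ'
    rw [h1, Matrix.mul_zero] at e
    have e' : aeval (itGL N : Matrix (Fin n) (Fin n) F) μ' = 0 := by
      calc aeval (itGL N : Matrix (Fin n) (Fin n) F) μ' = aeval (itGL N : Matrix (Fin n) (Fin n) F) μ' *
            (X : Matrix (Fin n) (Fin n) F) * ((X⁻¹ : GL (Fin n) F) : Matrix (Fin n) (Fin n) F) := by
              rw [Matrix.mul_assoc, Units.mul_inv, Matrix.mul_one]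
        _ = 0 := by rw [← e, Matrix.zero_mul]
    change aeval (((N⁻¹ : GL (Fin n) F) : Matrix (Fin n) (Fin n) F)ᵀ) μ' = 0 at e'
    rw [aeval_transpose'] at e'
    exact Matrix.transpose_eq_zero.1 e'
  have hMN : M * ((N⁻¹ : GL (Fin n) F) : Matrix (Fin n) (Fin n) F) = 1 := Units.mul_inv N
  have hNM : ((N⁻¹ : GL (Fin n) F) : Matrix (Fin n) (Fin n) F) * M = 1 := Units.inv_mul N
  have h0 : μ.coeff 0 ≠ 0 := by
    intro h0
    obtain ⟨r, hr⟩ := X_dvd_iff.2 h0
    have hr0 : r ≠ 0 := by rintro rfl; rw [mul_zero] at hr; exact hm.ne_zero hr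
    have h3 : aeval M r = 0 := by
      have h4 := minpoly.aeval F M
      change aeval M μ = 0 at h4
      rw [hr, map_mul, aeval_X] at h4
      calc aeval M r = ((N⁻¹ : GL (Fin n) F) : Matrix (Fin n) (Fin n) F) * (M * aeval M r) := by
            rw [← Matrix.mul_assoc, hNM, Matrix.one_mul]
        _ = 0 := by rw [h4, Matrix.mul_zero]
    have h4 : μ.natDegree ≤ r.natDegree := natDegree_le_of_dvd (minpoly.dvd F M h3) hr0
    rw [hr, natDegree_mul X_ne_zero hr0, natDegree_X] at h4
    omega
  have hd : μ ∣ μ'.reverse := minpoly.dvd F M (by rw [FormOrder.aeval_reverse hMN, h2, mul_zero])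
  have hnd : μ'.natDegree = μ.natDegree := natDegree_map _
  have hr0 : μ'.reverse ≠ 0 := by
    rw [Ne, Polynomial.reverse_eq_zero]
    exact (hm.map _).ne_zero
  obtain ⟨r, hr⟩ := hd
  have hrne : r ≠ 0 := by rintro rfl; rw [mul_zero] at hr; exact hr0 hr
  have hdeg : r.natDegree = 0 := by
    have e := congrArg natDegree hr
    rw [natDegree_mul hm.ne_zero hrne] at e
    have := μ'.reverse_natDegree
    omega
  rw [eq_C_of_natDegree_eq_zero hdeg] at hr
  refine ⟨r.coeff 0, fun hz => ?_, fun i hi => ?_⟩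
  · rw [hz, C_0, mul_zero] at hr; exact hr0 hr
  · have e := congrArg (fun P : F[X] => P.coeff i) hr
    simp only [Polynomial.coeff_reverse, hnd, Polynomial.revAt_le hi, coeff_mul_C] at e
    rw [mul_comm, ← e, Polynomial.coeff_map]
    rfl

theorem root_relation (μ : F[X]) :
    ∑ i ∈ Finset.range (μ.natDegree + 1), algebraMap F (AdjoinRoot μ) (μ.coeff i) * AdjoinRoot.root μ ^ i = 0 := by
  have h : aeval (AdjoinRoot.root μ) μ = 0 := by rw [AdjoinRoot.aeval_eq, AdjoinRoot.mk_self]
  rw [aeval_eq_sum_range] at h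
  simpa [Algebra.smul_def] using h

theorem pow_scalar_of_root (M : Matrix (Fin n) (Fin n) F) {k : ℕ} {z : F}
    (h : AdjoinRoot.root (minpoly F M) ^ k = algebraMap F (AdjoinRoot (minpoly F M)) z) :
    M ^ k = z • 1 := by
  have hd : minpoly F M ∣ X ^ k - C z := by
    rw [← AdjoinRoot.mk_eq_zero, map_sub, map_pow, AdjoinRoot.mk_X, AdjoinRoot.mk_C, h,
      AdjoinRoot.algebraMap_eq, sub_self]
  obtain ⟨r, hr⟩ := hd
  have := congrArg (aeval M) hr
  rw [map_sub, map_pow, aeval_X, aeval_C, map_mul, minpoly.aeval, zero_mul, sub_eq_zero,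
    Algebra.algebraMap_eq_smul_one] at this
  exact this

/-- Over the field with two elements, in dimension at most five. -/
theorem exp_two [Fintype F] [NeZero n] (hF : Fintype.card F = 2) (hn : n = 4 ∨ n = 5) (N X : GL (Fin n) F)
    (h : (N : Matrix (Fin n) (Fin n) F)ᵀ * X * (N : Matrix (Fin n) (Fin n) F).map (1 : F ≃+* F) = X) :
    ∃ (k : ℕ) (z : F), 0 < k ∧ 2 * k ≤ geomS 2 n ∧ (N : Matrix (Fin n) (Fin n) F) ^ k = z • 1 := by
  classical
  obtain ⟨c, hc0, hc⟩ := minpoly_semi 1 N X h
  set M : Matrix (Fin n) (Fin n) F := (N : Matrix (Fin n) (Fin n) F)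
  set μ := minpoly F M with hμ
  have hb : ∀ x : F, x = 0 ∨ x = 1 := fun x => by
    by_contra hx
    push Not at hx
    have : ({0, 1, x} : Finset F).card = 3 := by
      rw [Finset.card_insert_of_notMem, Finset.card_insert_of_notMem, Finset.card_singleton]
      · simpa using hx.2.symm
      · simpa using hx.1.symm
    have := Finset.card_le_univ ({0, 1, x} : Finset F)
    omega
  have hc1 : c = 1 := (hb c).resolve_left hc0
  subst hc1
  have hm : μ.Monic := minpoly.monic (Algebra.IsIntegral.isIntegral M)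
  have hpos : 0 < μ.natDegree := minpoly.natDegree_pos (Algebra.IsIntegral.isIntegral M)
  have hle : μ.natDegree ≤ n := by
    refine le_trans (natDegree_le_of_dvd (Matrix.minpoly_dvd_charpoly M) (Matrix.charpoly_monic M).ne_zero) ?_
    rw [Matrix.charpoly_natDegree_eq_dim, Fintype.card_fin]
  set R := AdjoinRoot μ
  set x : R := AdjoinRoot.root μ
  have h2 : (2 : R) = 0 := by
    have h2F : (2 : F) = 0 := by
      rcases hb (2 : F) with h | h
      · exact h
      · exact absurd (show (1 : F) = 0 by linear_combination h) one_ne_zero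
    calc (2 : R) = algebraMap F R 2 := (map_ofNat _ 2).symm
      _ = 0 := by rw [h2F, map_zero]
  have hrel := root_relation μ
  suffices hk : ∃ k : ℕ, 0 < k ∧ x ^ k = 1 ∧ (k ≤ 6 ∨ (μ.natDegree = 5 ∧ k ≤ 12)) by
    obtain ⟨k, hk0, hxk, hkb⟩ := hk
    refine ⟨k, 1, hk0, ?_, pow_scalar_of_root M (by rw [map_one]; exact hxk)⟩
    rcases hn with rfl | rfl <;> simp only [geomS, Finset.sum_range_succ, Finset.sum_range_zero] <;> omega
  have hcoef : ∀ i ≤ μ.natDegree, μ.coeff (μ.natDegree - i) = μ.coeff i := fun i hi => by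
    simpa using hc i hi
  have hlead : μ.coeff μ.natDegree = 1 := hm
  have h0' : μ.coeff 0 = 1 := by rw [← hcoef 0 (Nat.zero_le _)]; simpa using hlead
  obtain ⟨k, hkk⟩ : ∃ k, μ.natDegree = k := ⟨_, rfl⟩
  rw [hkk] at hrel hcoef hlead hle hpos ⊢
  have hk5 : k ≤ 5 := by omega
  interval_cases k
  · refine ⟨1, one_pos, ?_, Or.inl (by omega)⟩
    simp only [Finset.sum_range_succ, Finset.sum_range_zero, h0', hlead, map_one] at hrel
    linear_combination hrel - h2
  · rcases hb (μ.coeff 1) with e1 | e1 <;>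
      simp only [Finset.sum_range_succ, Finset.sum_range_zero, h0', hlead, e1, map_one, map_zero] at hrel
    · exact ⟨2, by norm_num, by linear_combination hrel - h2, Or.inl (by omega)⟩
    · exact ⟨3, by norm_num, by linear_combination (x - 1) * hrel, Or.inl (by omega)⟩
  · have e2 : μ.coeff 2 = μ.coeff 1 := hcoef 1 (by omega)
    rcases hb (μ.coeff 1) with e1 | e1 <;>
      simp only [Finset.sum_range_succ, Finset.sum_range_zero, h0', hlead, e2, e1, map_one, map_zero] at hrel
    · exact ⟨3, by norm_num, by linear_combination hrel - h2, Or.inl (by omega)⟩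
    · exact ⟨4, by norm_num, by linear_combination (x - 1) * hrel, Or.inl (by omega)⟩
  · have e3 : μ.coeff 3 = μ.coeff 1 := hcoef 1 (by omega)
    rcases hb (μ.coeff 1) with e1 | e1 <;> rcases hb (μ.coeff 2) with e2 | e2 <;>
      simp only [Finset.sum_range_succ, Finset.sum_range_zero, h0', hlead, e3, e2, e1, map_one, map_zero] at hrel
    · exact ⟨4, by norm_num, by linear_combination hrel - h2, Or.inl (by omega)⟩
    · exact ⟨6, by norm_num, by linear_combination (x ^ 2 - 1) * hrel, Or.inl (by omega)⟩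
    · exact ⟨6, by norm_num, by linear_combination (x ^ 2 - x + 1) * hrel + (-1 - x ^ 3) * h2, Or.inl (by omega)⟩
    · exact ⟨5, by norm_num, by linear_combination (x - 1) * hrel, Or.inl (by omega)⟩
  · have e4 : μ.coeff 4 = μ.coeff 1 := hcoef 1 (by omega)
    have e3 : μ.coeff 3 = μ.coeff 2 := hcoef 2 (by omega)
    rcases hb (μ.coeff 1) with e1 | e1 <;> rcases hb (μ.coeff 2) with e2 | e2 <;>
      simp only [Finset.sum_range_succ, Finset.sum_range_zero, h0', hlead, e4, e3, e2, e1, map_one, map_zero] at hrel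
    · exact ⟨5, by norm_num, by linear_combination hrel - h2, Or.inl (by omega)⟩
    · exact ⟨12, by norm_num,
        by linear_combination (x ^ 7 - x ^ 5 - x ^ 4 + x ^ 3 + x ^ 2 - 1) * hrel, Or.inr ⟨rfl, by omega⟩⟩
    · exact ⟨8, by norm_num, by linear_combination (x ^ 3 - x ^ 2 + x - 1) * hrel, Or.inr ⟨rfl, by omega⟩⟩
    · exact ⟨6, by norm_num, by linear_combination (x - 1) * hrel, Or.inl (by omega)⟩

/-- Over the field with four elements, in dimension three, with a nontrivial automorphism. -/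
theorem exp_four [Fintype F] (hF : Fintype.card F = 4) (σ : F ≃+* F) (hσ : ∀ x : F, σ x = x ^ 2)
    (N X : GL (Fin 3) F)
    (h : (N : Matrix (Fin 3) (Fin 3) F)ᵀ * X * (N : Matrix (Fin 3) (Fin 3) F).map σ = X) :
    ∃ (k : ℕ) (z : F), 0 < k ∧ k ≤ 6 ∧ (N : Matrix (Fin 3) (Fin 3) F) ^ k = z • 1 := by
  classical
  obtain ⟨c, hc0, hc⟩ := minpoly_semi σ N X h
  set M : Matrix (Fin 3) (Fin 3) F := (N : Matrix (Fin 3) (Fin 3) F)
  set μ := minpoly F M with hμ
  have h4 : ∀ a : F, a ^ 4 = a := fun a => by rw [← hF]; exact FiniteField.pow_card a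
  have h3 : ∀ a : F, a ≠ 0 → a ^ 3 = 1 := fun a ha => by
    have := FiniteField.pow_card_sub_one_eq_one a ha
    rwa [hF] at this
  have h2F : (2 : F) = 0 := by
    have h2 : σ 2 = (2 : F) ^ 2 := hσ 2
    rw [map_ofNat] at h2
    linear_combination -h2
  have hm : μ.Monic := minpoly.monic (Algebra.IsIntegral.isIntegral M)
  have hpos : 0 < μ.natDegree := minpoly.natDegree_pos (Algebra.IsIntegral.isIntegral M)
  have hle : μ.natDegree ≤ 3 := by
    refine le_trans (natDegree_le_of_dvd (Matrix.minpoly_dvd_charpoly M) (Matrix.charpoly_monic M).ne_zero) ?_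
    rw [Matrix.charpoly_natDegree_eq_dim, Fintype.card_fin]
  set R := AdjoinRoot μ
  set x : R := AdjoinRoot.root μ
  set f := algebraMap F R
  have h2 : (2 : R) = 0 := by
    calc (2 : R) = f 2 := (map_ofNat _ 2).symm
      _ = 0 := by rw [h2F, map_zero]
  have hrel := root_relation μ
  suffices hk : ∃ (k : ℕ) (z : F), 0 < k ∧ k ≤ 6 ∧ x ^ k = f z by
    obtain ⟨k, z, h1, h6, hxk⟩ := hk
    exact ⟨k, z, h1, h6, pow_scalar_of_root M hxk⟩
  have hlead : μ.coeff μ.natDegree = 1 := hm
  -- `μ.coeff 0` determines `c`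
  have hc' : c * μ.coeff 0 = 1 := by
    have := hc 0 (Nat.zero_le _)
    rw [Nat.sub_zero, hlead, map_one] at this
    exact this.symm
  have hcc : μ.coeff 0 ^ 2 = c := by
    have := hc μ.natDegree le_rfl
    rwa [Nat.sub_self, hlead, mul_one, hσ] at this
  set d := μ.coeff 0
  have hd0 : d ≠ 0 := fun e => by simp [e] at hc'
  have hd3 : f d ^ 3 = 1 := by rw [← map_pow, h3 d hd0, map_one]
  obtain ⟨k, hkk⟩ : ∃ k, μ.natDegree = k := ⟨_, rfl⟩
  rw [hkk] at hrel hlead hle hpos hc
  interval_cases k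
  · refine ⟨1, -d, one_pos, by norm_num, ?_⟩
    simp only [Finset.sum_range_succ, Finset.sum_range_zero, hlead, map_one] at hrel
    rw [map_neg]
    linear_combination hrel
  · have e1 := hc 1 (by omega)
    rw [hσ, ← hcc] at e1
    simp only [Finset.sum_range_succ, Finset.sum_range_zero, hlead, map_one] at hrel
    rcases eq_or_ne (μ.coeff 1) 0 with ha | ha
    · refine ⟨2, -d, by norm_num, by norm_num, ?_⟩
      rw [ha, map_zero] at hrel
      rw [map_neg]
      linear_combination hrel
    · have ha' : μ.coeff 1 = d ^ 2 := mul_left_cancel₀ ha (by linear_combination e1)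
      rw [ha', map_pow] at hrel
      refine ⟨3, 1, by norm_num, by norm_num, ?_⟩
      rw [map_one]
      linear_combination (x - f d ^ 2) * hrel + (f d * x + 1) * hd3
  · have e1 := hc 2 (by omega)
    rw [hσ, ← hcc] at e1
    simp only [Finset.sum_range_succ, Finset.sum_range_zero, hlead, map_one] at hrel
    set b := μ.coeff 2
    have hb' : μ.coeff 1 = d * b ^ 2 := by
      have e2 := congrArg (fun t : F => t ^ 2) e1
      linear_combination e2 - h4 (μ.coeff 1) + (b ^ 2 * d) * h3 d hd0
    rw [hb', map_mul, map_pow] at hrel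
    rcases eq_or_ne b 0 with ha | ha
    · refine ⟨3, -d, by norm_num, by norm_num, ?_⟩
      rw [ha, map_zero] at hrel
      rw [map_neg]
      linear_combination hrel
    · have hb3 : f b ^ 3 = 1 := by rw [← map_pow, h3 b ha, map_one]
      set y : R := f b ^ 2 * x
      have hy : (y + 1) * (y ^ 2 + f d) = 0 := by
        simp only [y]
        linear_combination hrel + (x ^ 3 * (f b ^ 3 + 1) + f b * x ^ 2) * hb3
      rcases eq_or_ne d 1 with hd1 | hd1
      · rw [hd1, map_one] at hy
        refine ⟨4, b ^ 4, by norm_num, by norm_num, ?_⟩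
        have hy4 : y ^ 4 = 1 := by linear_combination (y + 1) * hy + (-1 - y - y ^ 2 - y ^ 3) * h2
        simp only [y] at hy4
        rw [map_pow]
        linear_combination (f b ^ 4) * hy4 - x ^ 4 * (f b ^ 9 + f b ^ 6 + f b ^ 3 + 1) * hb3
      · have hdd : f d ^ 2 + f d + 1 = 0 := by
          rw [← map_pow, ← map_add, ← map_one f, ← map_add, ← map_zero f]
          congr 1
          have : (d - 1) * (d ^ 2 + d + 1) = 0 := by linear_combination h3 d hd0
          exact (mul_eq_zero.1 this).resolve_left (sub_ne_zero.2 hd1)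
        have hy6 : y ^ 6 = 1 := by
          linear_combination (y + 1) * (y ^ 2 + f d ^ 2) * hy + (-1 - y * (y ^ 2 + f d) * (y ^ 2 + f d ^ 2)) * h2
            - (y ^ 4 + y ^ 2) * hdd - (1 + y ^ 2) * hd3
        simp only [y] at hy6
        refine ⟨6, 1, by norm_num, le_rfl, ?_⟩
        rw [map_one]
        linear_combination hy6 - x ^ 6 * (f b ^ 9 + f b ^ 6 + f b ^ 3 + 1) * hb3

end Cfsg.Agent.AutPSL
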