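import Cfsg.Agent.AutPSL.BalanceGraph

/-!
A semilinear map commuting with the isometries of a form over a subfield of index two is a scalar.
-/

set_option autoImplicit false

namespace Cfsg.Agent.AutPSL

open Matrix Module QuadraticMap

variable {n : ℕ} {K F : Type*} [Field K] [Field F] {i : K →+* F} {b : F}
  (hspan : ∀ z : F, ∃ u v : K, z = i u + b * i v) (huniq : ∀ u v : K, i u + b * i v = 0 → u = 0 ∧ v = 0)
  {A : GL (Fin n) F} {ω : F ≃+* F}

/-- The image of a vector over the subfield. -/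
abbrev iv (i : K →+* F) (z : Fin n → K) : Fin n → F := fun j => i (z j)

/-- The semilinear map of a matrix and an automorphism. -/
abbrev sT (A : GL (Fin n) F) (ω : F ≃+* F) (z : Fin n → F) : Fin n → F :=
  (A : Matrix (Fin n) (Fin n) F) *ᵥ fun j => ω (z j)

theorem map_iv (i : K →+* F) (M : Matrix (Fin n) (Fin n) K) (z : Fin n → K) : M.map i *ᵥ iv i z = iv i (M *ᵥ z) :=
  funext fun j => (RingHom.map_mulVec i M z j).symm

theorem sT_add (A : GL (Fin n) F) (ω : F ≃+* F) (x y : Fin n → F) : sT A ω (x + y) = sT A ω x + sT A ω y := by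
  show _ *ᵥ (fun j => ω (x j + y j)) = _
  simp only [map_add]
  exact Matrix.mulVec_add _ _ _

theorem sT_smul (A : GL (Fin n) F) (ω : F ≃+* F) (t : F) (x : Fin n → F) : sT A ω (t • x) = ω t • sT A ω x := by
  show (A : Matrix (Fin n) (Fin n) F) *ᵥ (fun j => ω (t * x j)) = _
  simp only [map_mul]
  exact Matrix.mulVec_smul (A : Matrix (Fin n) (Fin n) F) (ω t) (fun j => ω (x j))

theorem sT_eq_zero {x : Fin n → F} (h : sT A ω x = 0) : x = 0 := by
  have h1 := Matrix.eq_zero_of_mulVec_eq_zero (Matrix.GeneralLinearGroup.det_ne_zero A) h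
  exact funext fun j => ω.map_eq_zero_iff.1 (congrFun h1 j)

theorem iv_add (u v : Fin n → K) : iv i (u + v) = iv i u + iv i v := funext fun j => map_add i _ _

theorem iv_smul (t : K) (v : Fin n → K) : iv i (t • v) = i t • iv i v := funext fun j => map_mul i _ _

include hspan in
theorem exists_split (x : Fin n → F) : ∃ x₁ x₂ : Fin n → K, x = iv i x₁ + b • iv i x₂ := by
  choose u v h using fun j => hspan (x j)
  exact ⟨u, v, funext h⟩

include huniq in
theorem split_inj {x₁ x₂ y₁ y₂ : Fin n → K} (h : iv i x₁ + b • iv i x₂ = iv i y₁ + b • iv i y₂) :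
    x₁ = y₁ ∧ x₂ = y₂ := by
  have key : ∀ j, x₁ j - y₁ j = 0 ∧ x₂ j - y₂ j = 0 := fun j => huniq _ _ (by
    have := congrFun h j
    simp only [Pi.add_apply, Pi.smul_apply, smul_eq_mul, iv] at this
    rw [map_sub, map_sub]
    linear_combination this)
  exact ⟨funext fun j => sub_eq_zero.1 (key j).1, funext fun j => sub_eq_zero.1 (key j).2⟩

/-- Scalar from being scalar on the rational vectors. -/
theorem scalar_of_iv {l : F} (hl : ∀ z : Fin n → K, sT A ω (iv i z) = l • iv i z) (h : l ≠ 0) :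
    A ∈ Subgroup.center (GL (Fin n) F) :=
  center_gl_iff.2 ⟨Units.mk0 l h, Matrix.ext_of_mulVec_single fun k => by
    have := hl (Pi.single k 1)
    have e1 : iv i (Pi.single k (1 : K)) = Pi.single k (1 : F) := funext fun j => by by_cases hj : j = k <;> simp [iv, hj]
    have e2 : (fun j => ω ((Pi.single k (1 : F) : Fin n → F) j)) = Pi.single k 1 :=
      funext fun j => by by_cases hj : j = k <;> simp [hj]
    rw [e1, sT, e2] at this
    rw [this, Units.val_mk0, Matrix.scalar_apply, ← Matrix.smul_one_eq_diagonal, Matrix.smul_mulVec, Matrix.one_mulVec]⟩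

variable [Finite K] {J : Matrix (Fin n) (Fin n) K} (hJ : J.det ≠ 0) (h2 : (2 : K) ≠ 0)
include hspan huniq hJ h2

/-- The symmetric case. -/
theorem sym_fix (hn : 3 ≤ n) (hJT : Jᵀ = J)
    (h : ∀ e : (Fin n → K) ≃ₗ[K] (Fin n → K), (∀ v, (e v) ⬝ᵥ J *ᵥ (e v) = v ⬝ᵥ J *ᵥ v) → e ^ ringChar K = 1 →
      ∀ z, sT A ω (((glLE.symm e : GL (Fin n) K) : Matrix (Fin n) (Fin n) K).map i *ᵥ z) =
        ((glLE.symm e : GL (Fin n) K) : Matrix (Fin n) (Fin n) K).map i *ᵥ sT A ω z) :
    A ∈ Subgroup.center (GL (Fin n) F) ∧ ∀ t, ω (i t) = i t := by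
  classical
  let B : LinearMap.BilinForm K (Fin n → K) := Matrix.toBilin' J
  let Q : QuadraticForm K (Fin n → K) := LinearMap.BilinMap.toQuadraticMap B
  have hQv : ∀ v, Q v = v ⬝ᵥ J *ᵥ v := fun v => Matrix.toBilin'_apply' J v v
  have hsymm : ∀ u v : Fin n → K, v ⬝ᵥ J *ᵥ u = u ⬝ᵥ J *ᵥ v := fun u v => by
    rw [Matrix.dotProduct_mulVec, ← Matrix.mulVec_transpose, hJT, dotProduct_comm]
  have hpol : ∀ u v, polar Q u v = 2 * (u ⬝ᵥ J *ᵥ v) := fun u v => by
    rw [QuadraticMap.polar, hQv, hQv, hQv, Matrix.mulVec_add, dotProduct_add, add_dotProduct, add_dotProduct,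
      hsymm u v]
    ring
  have hQ : (polarBilin Q).Nondegenerate := Classical.Quad.nondeg_of fun v hv => by
    refine Matrix.eq_zero_of_mulVec_eq_zero hJ (funext fun j => ?_)
    have h1 := hv (Pi.single j 1)
    rw [hpol, hsymm, single_one_dotProduct] at h1
    exact (mul_eq_zero.1 h1).resolve_left h2
  have hdim : 3 ≤ finrank K (Fin n → K) := by rw [Module.finrank_pi, Fintype.card_fin]; exact hn
  -- Siegel transformations commute with the map
  have hS : ∀ (p w : Fin n → K) (hp : Q p = 0) (hw : polar Q p w = 0) (z : Fin n → K),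
      sT A ω (iv i ((Classical.Quad.sO hp hw).1 z)) =
        ((glLE.symm (Classical.Quad.sO hp hw).1 : GL (Fin n) K) : Matrix (Fin n) (Fin n) K).map i *ᵥ sT A ω (iv i z) := by
    intro p w hp hw z
    set s := Classical.Quad.sO hp hw
    have hpw : ∀ m : ℕ, ∀ z, (s ^ m).1 z = (Classical.Quad.sO hp (Classical.Quad.polar_perp_smul hw (m : K))).1 z := by
      intro m
      induction m with
      | zero =>
        intro z
        rw [pow_zero, Classical.Quad.sO_congr hp _ (by simp [QuadraticMap.polar]) (show ((0 : ℕ) : K) • w = 0 by simp),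
          Classical.Quad.sO_zero]
      | succ m ih =>
        intro z
        rw [pow_succ, Classical.Quad.oG_mul_apply, ih, ← Classical.Quad.oG_mul_apply, Classical.Quad.sO_mul]
        rw [Classical.Quad.sO_congr hp _ (Classical.Quad.polar_perp_smul hw ((m + 1 : ℕ) : K))
          (by rw [Nat.cast_succ, add_smul, one_smul])]
    have hr : s.1 ^ ringChar K = 1 := LinearEquiv.ext fun z => by
      rw [← SubgroupClass.coe_pow, hpw, Classical.Quad.sO_congr hp _ (by simp [QuadraticMap.polar])
        (show ((ringChar K : ℕ) : K) • w = 0 by simp [ringChar.Nat.cast_ringChar]), Classical.Quad.sO_zero]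
      rfl
    have h1 := h s.1 (fun v => by rw [← hQv, ← hQv]; exact s.2 v) hr (iv i z)
    rwa [map_iv, glLE_symm_mulVec] at h1
  have happ : ∀ (p w : Fin n → K) (hp : Q p = 0) (hw : polar Q p w = 0) (z : Fin n → K) (c : F),
      ((glLE.symm (Classical.Quad.sO hp hw).1 : GL (Fin n) K) : Matrix (Fin n) (Fin n) K).map i *ᵥ (c • iv i z) =
        c • iv i ((Classical.Quad.sO hp hw).1 z) := fun p w hp hw z c => by
    rw [Matrix.mulVec_smul, map_iv, glLE_symm_mulVec]
  have hline : ∀ p, p ≠ 0 → Q p = 0 → ∃ l : F, sT A ω (iv i p) = l • iv i p := fun p hp0 hp => by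
    obtain ⟨x₁, x₂, hx⟩ := exists_split hspan (sT A ω (iv i p))
    have hfix : ∀ (w : Fin n → K) (hw : polar Q p w = 0), (Classical.Quad.sO hp hw).1 x₁ = x₁ ∧
        (Classical.Quad.sO hp hw).1 x₂ = x₂ := fun w hw => by
      have h1 := hS p w hp hw p
      rw [show (Classical.Quad.sO hp hw).1 p = p from
        Classical.Quad.siegel_fix hp hw (by rw [Classical.Quad.polar_self', hp, mul_zero]) hw, hx, Matrix.mulVec_add,
        Matrix.mulVec_smul, map_iv, map_iv, glLE_symm_mulVec, glLE_symm_mulVec] at h1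
      have h3 := split_inj huniq h1
      exact ⟨h3.1.symm, h3.2.symm⟩
    obtain ⟨c₁, hc₁⟩ := Submodule.mem_span_singleton.1
      (AutPOmega.mem_span_of_fix hQ hp0 hp hdim fun w hw => (hfix w hw).1)
    obtain ⟨c₂, hc₂⟩ := Submodule.mem_span_singleton.1
      (AutPOmega.mem_span_of_fix hQ hp0 hp hdim fun w hw => (hfix w hw).2)
    refine ⟨i c₁ + b * i c₂, ?_⟩
    rw [hx, ← hc₁, ← hc₂, iv_smul, iv_smul, add_smul, smul_smul]
  obtain ⟨e, he0, he⟩ := Classical.Quad.exists_singular Q hdim
  obtain ⟨f, hf, hef⟩ := Classical.Quad.exists_hyp_pair hQ he0 he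
  have hf0 : f ≠ 0 := fun h0 => by simp [h0, polar] at hef
  obtain ⟨le, hle⟩ := hline e he0 he
  obtain ⟨lf, hlf⟩ := hline f hf0 hf
  have half : ∀ (e f : Fin n → K) (he : Q e = 0) (hef : polar Q e f = 1) (w : Fin n → K), polar Q e w = 0 →
      polar Q f w = 0 → ∀ le lf : F, sT A ω (iv i e) = le • iv i e → sT A ω (iv i f) = lf • iv i f →
      sT A ω (iv i w) = lf • iv i w + (lf * i (Q w) - ω (i (Q w)) * le) • iv i e := by
    intro e f he hef w hew hfw le lf hle hlf
    have h1 := hS e w he hew f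
    have e1 : (Classical.Quad.sO he hew).1 f = f + (-1 : K) • w + (-(Q w)) • e := by
      rw [Classical.Quad.sO_apply, hfw, QuadraticMap.polar_comm Q f e, hef]
      simp
    rw [hlf, happ, e1] at h1
    simp only [iv_add, iv_smul, sT_add, sT_smul, hle, hlf, map_neg, map_one] at h1
    linear_combination (norm := module) -h1
  have hfe : polar Q f e = 1 := by rw [QuadraticMap.polar_comm, hef]
  have hW : ∀ w, polar Q e w = 0 → polar Q f w = 0 →
      sT A ω (iv i w) = lf • iv i w ∧ (w ≠ 0 → le = lf ∧ lf * i (Q w) = ω (i (Q w)) * lf) := by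
    intro w hew hfw
    have h1 := half e f he hef w hew hfw le lf hle hlf
    have h3 := half f e hf hfe w hfw hew lf le hlf hle
    set c₁ := lf * i (Q w) - ω (i (Q w)) * le with hc₁
    set c₂ := le * i (Q w) - ω (i (Q w)) * lf
    let ψ : (Fin n → K) → (Fin n → F) → F := fun u z => z ⬝ᵥ iv i (J *ᵥ u)
    have hψ : ∀ u z, ψ u (iv i z) = i (z ⬝ᵥ J *ᵥ u) := fun u z => by
      show (iv i z) ⬝ᵥ iv i (J *ᵥ u) = _
      rw [RingHom.map_dotProduct]
      rfl
    have h4 : (lf - le) • iv i w + c₁ • iv i e + (-c₂) • iv i f = 0 := by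
      linear_combination (norm := module) h3 - h1
    have h2F : i 2 ≠ 0 := (map_ne_zero i).2 h2
    have val : ∀ u z : Fin n → K, i 2 * ψ u (iv i z) = i (polar Q z u) := fun u z => by
      rw [hψ, ← map_mul, hpol]
    have h5 := congrArg (fun z => i 2 * ψ f z) h4
    simp only [ψ, add_dotProduct, smul_dotProduct, smul_eq_mul, mul_add, zero_dotProduct, mul_zero] at h5
    change i 2 * ((lf - le) * ψ f (iv i w)) + i 2 * (c₁ * ψ f (iv i e)) + i 2 * (-c₂ * ψ f (iv i f)) = 0 at h5
    rw [mul_left_comm, val, mul_left_comm (i 2) c₁, val, mul_left_comm (i 2) (-c₂), val, hef,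
      QuadraticMap.polar_comm Q w f, hfw, Classical.Quad.polar_self', hf, mul_zero, map_zero, map_one, mul_zero,
      mul_zero, mul_one, zero_add, add_zero] at h5
    rw [h5, zero_smul, add_zero] at h1
    refine ⟨h1, fun hw0 => ?_⟩
    rw [h5, zero_smul, add_zero] at h4
    have h6 := congrArg (fun z => i 2 * ψ e z) h4
    simp only [ψ, add_dotProduct, smul_dotProduct, smul_eq_mul, mul_add, zero_dotProduct, mul_zero] at h6
    change i 2 * ((lf - le) * ψ e (iv i w)) + i 2 * (-c₂ * ψ e (iv i f)) = 0 at h6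
    rw [mul_left_comm, val, mul_left_comm (i 2) (-c₂), val, hfe, QuadraticMap.polar_comm Q w e, hew, map_zero, map_one,
      mul_zero, mul_one, zero_add, neg_eq_zero] at h6
    rw [h6, neg_zero, zero_smul, add_zero] at h4
    have h7 : lf = le := sub_eq_zero.1 ((smul_eq_zero.1 h4).resolve_right fun h0 => hw0 (funext fun j =>
      i.injective (by simpa [iv] using congrFun h0 j)))
    exact ⟨h7.symm, sub_eq_zero.1 (by rw [← h5, hc₁, h7])⟩
  obtain ⟨w, hew, hfw, hQw⟩ := Classical.Quad.exists_aniso_perp hQ hdim he hf hef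
  have hw0 : w ≠ 0 := fun h0 => hQw (by rw [h0, map_zero])
  obtain ⟨hll, -⟩ := (hW w hew hfw).2 hw0
  have hlf0 : lf ≠ 0 := fun h0 => hf0 (funext fun j => i.injective (by
    have := sT_eq_zero (A := A) (ω := ω) (x := iv i f) (by rw [hlf, h0, zero_smul])
    simpa [iv] using congrFun this j))
  have hsq : ∀ t : K, t ≠ 0 → i (t * t * Q w) = ω (i (t * t * Q w)) := fun t ht => by
    have h1 := ((hW (t • w) (by rw [QuadraticMap.polar_smul_right, hew, smul_zero])
      (by rw [QuadraticMap.polar_smul_right, hfw, smul_zero])).2 (smul_ne_zero ht hw0)).2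
    rw [Classical.Quad.map_smul', mul_comm (ω _)] at h1
    exact mul_left_cancel₀ hlf0 h1
  have hq := hsq 1 one_ne_zero
  rw [one_mul, one_mul] at hq
  have hiQ : i (Q w) ≠ 0 := (map_ne_zero i).2 hQw
  have hsq' : ∀ t : K, ω (i t) * ω (i t) = i t * i t := fun t => by
    by_cases ht : t = 0
    · simp [ht]
    have h1 := hsq t ht
    rw [map_mul, map_mul, map_mul, map_mul, ← hq] at h1
    exact (mul_right_cancel₀ hiQ h1).symm
  have hω : ∀ t, ω (i t) = i t := fun t => by
    have h1 := hsq' (t + 1)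
    rw [map_add, map_one, map_add, map_one] at h1
    refine mul_left_cancel₀ ((map_ne_zero i).2 h2) ?_
    rw [map_ofNat]
    linear_combination h1 - hsq' t
  refine ⟨scalar_of_iv (A := A) (ω := ω) (i := i) (l := lf) (fun z => ?_) hlf0, hω⟩
  set α := polar Q z f
  set β := polar Q z e
  set w' := z - α • e - β • f with hw'
  have hz : z = α • e + β • f + w' := by rw [hw']; abel
  have hw'e : polar Q e w' = 0 := by
    rw [hw', sub_eq_add_neg, sub_eq_add_neg, QuadraticMap.polar_add_right, QuadraticMap.polar_add_right,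
      QuadraticMap.polar_neg_right, QuadraticMap.polar_neg_right, QuadraticMap.polar_smul_right,
      QuadraticMap.polar_smul_right, Classical.Quad.polar_self', he, hef, QuadraticMap.polar_comm Q e z]
    simp [β]
  have hw'f : polar Q f w' = 0 := by
    rw [hw', sub_eq_add_neg, sub_eq_add_neg, QuadraticMap.polar_add_right, QuadraticMap.polar_add_right,
      QuadraticMap.polar_neg_right, QuadraticMap.polar_neg_right, QuadraticMap.polar_smul_right,
      QuadraticMap.polar_smul_right, Classical.Quad.polar_self', hf, hfe, QuadraticMap.polar_comm Q f z]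
    simp [α]
  rw [hz]
  simp only [iv_add, iv_smul, sT_add, sT_smul, hω, hle, hlf, (hW w' hw'e hw'f).1, hll, smul_add, smul_comm lf]

/-- The alternating case. -/
theorem alt_fix [NeZero n] (hn : 2 ≤ n) (hA : (Matrix.toBilin' J).IsAlt)
    (h : ∀ e : (Fin n → K) ≃ₗ[K] (Fin n → K), e ∈ Classical.Alt.isoGroup (Matrix.toBilin' J) → e ^ ringChar K = 1 →
      ∀ z, sT A ω (((glLE.symm e : GL (Fin n) K) : Matrix (Fin n) (Fin n) K).map i *ᵥ z) =
        ((glLE.symm e : GL (Fin n) K) : Matrix (Fin n) (Fin n) K).map i *ᵥ sT A ω z) :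
    A ∈ Subgroup.center (GL (Fin n) F) ∧ ∀ t, ω (i t) = i t := by
  classical
  set B := Matrix.toBilin' J
  have hB : B.Nondegenerate := Matrix.Nondegenerate.toBilin' (Matrix.nondegenerate_of_det_ne_zero hJ)
  have hline : ∀ v : Fin n → K, ∃ l : F, sT A ω (iv i v) = l • iv i v := fun v => by
    by_cases hv : v = 0
    · refine ⟨0, ?_⟩
      subst hv
      show _ *ᵥ (fun j => ω (i 0)) = _
      simp only [map_zero, zero_smul]
      exact Matrix.mulVec_zero _
    obtain ⟨z, -, hz⟩ := Classical.Alt.ndon_top hB v trivial hv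
    have hz' : ω (i (B z v)) ≠ 0 := by
      rw [map_ne_zero, map_ne_zero, Classical.Alt.neg' hA v z]; simpa using hz
    set t := Classical.Alt.tv hA v (1 : K)
    have hpow : ∀ m : ℕ, t ^ m = Classical.Alt.tv hA v (m : K) := fun m => by
      induction m with
      | zero => rw [pow_zero, Nat.cast_zero]; exact (Classical.Alt.tv_zero hA v).symm
      | succ m ih => rw [pow_succ, ih, Classical.Alt.tv_add, Nat.cast_succ]
    have h1 := h t (Classical.Alt.tv_mem_isoGroup hA v 1) (by
      rw [hpow, ringChar.Nat.cast_ringChar, Classical.Alt.tv_zero]) (iv i z)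
    obtain ⟨x₁, x₂, hx⟩ := exists_split hspan (sT A ω (iv i z))
    rw [map_iv, glLE_symm_mulVec, Classical.Alt.tv_apply, one_mul, iv_add, iv_smul, sT_add, sT_smul, hx,
      Matrix.mulVec_add, Matrix.mulVec_smul, map_iv, map_iv, glLE_symm_mulVec, glLE_symm_mulVec,
      Classical.Alt.tv_apply, Classical.Alt.tv_apply, one_mul, one_mul, iv_add, iv_add, iv_smul, iv_smul] at h1
    refine ⟨(ω (i (B z v)))⁻¹ * (i (B x₁ v) + b * i (B x₂ v)), ?_⟩
    have h3 : ω (i (B z v)) • sT A ω (iv i v) = (i (B x₁ v) + b * i (B x₂ v)) • iv i v := by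
      linear_combination (norm := module) h1
    rw [mul_smul, ← h3, inv_smul_smul₀ hz']
  choose l hl using hline
  let e1 : Fin n → (Fin n → K) := fun k => Pi.single k 1
  have hi1 : ∀ k, iv i (e1 k) = Pi.single k (1 : F) := fun k => funext fun j => by
    by_cases hj : j = k <;> simp [iv, e1, hj]
  have hrel : ∀ k m : Fin n, k ≠ m → ∀ t : K, ω (i t) * l (e1 m) = i t * l (e1 k) := fun k m hkm t => by
    have h1 := hl (e1 k + t • e1 m)
    rw [iv_add, iv_smul, sT_add, sT_smul, hl, hl, hi1, hi1] at h1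
    have ek := congrFun h1 k
    have em := congrFun h1 m
    simp [hkm, hkm.symm] at ek em
    rw [em, ← ek]
    ring
  have hall : ∀ k, l (e1 k) = l (e1 0) := fun k => by
    by_cases hk : k = 0
    · rw [hk]
    · simpa using hrel 0 k (Ne.symm hk) 1
  have hne : l (e1 0) ≠ 0 := fun h0 => by
    have h1 := sT_eq_zero (A := A) (ω := ω) (x := iv i (e1 0)) (by rw [hl, h0, zero_smul])
    rw [hi1] at h1
    simpa using congrFun h1 0
  have hω : ∀ t, ω (i t) = i t := fun t => by
    obtain ⟨m, hm⟩ := Fintype.exists_ne_of_one_lt_card (α := Fin n) (by simp; omega) 0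
    have := hrel 0 m hm.symm t
    rw [hall m] at this
    exact mul_right_cancel₀ hne this
  refine ⟨scalar_of_iv (A := A) (ω := ω) (i := i) (l := l (e1 0)) (fun z => ?_) hne, hω⟩
  have hz : z = ∑ k, z k • e1 k := by
    funext j
    simp [e1, Finset.sum_apply, Pi.single_apply]
  rw [hz]
  induction (Finset.univ : Finset (Fin n)) using Finset.induction_on with
  | empty =>
    have : iv i (0 : Fin n → K) = 0 := funext fun j => map_zero i
    rw [Finset.sum_empty, this, smul_zero]
    exact (congrArg (fun x => (A : Matrix (Fin n) (Fin n) F) *ᵥ x) (funext fun j => map_zero ω)).trans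
      (Matrix.mulVec_zero _)
  | insert k s hk ih =>
    rw [Finset.sum_insert hk, iv_add, iv_smul, sT_add, sT_smul, hω, hl, hall, ih]
    module

end Cfsg.Agent.AutPSL
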