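import Cfsg.Agent.AutPSL.Basic
import Cfsg.Agent.UniTri.Root
import Cfsg.Agent.Classical.LinearBasic

/-!
The image of a root group of PSL_n under an automorphism is again a root group.
-/

set_option autoImplicit false

namespace Cfsg.Agent.AutPSL

open Matrix
open Cfsg.Agent.UniTri

variable {n : ℕ} {F : Type*} [Field F]

/-- An element of the transvection root group. -/
abbrev xr {i j : Fin n} (hij : i ≠ j) (t : F) : SLn n F := Matrix.SpecialLinearGroup.transvection hij t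

/-- Parallel vectors. -/
def Par (v w : Fin n → F) : Prop := ∀ a b, v a * w b = v b * w a

theorem Par.symm {v w : Fin n → F} (h : Par v w) : Par w v := fun a b => by
  rw [mul_comm, ← h, mul_comm]

theorem Par.exists_smul {v w : Fin n → F} (h : Par v w) (hv : v ≠ 0) : ∃ c : F, w = c • v := by
  obtain ⟨a, ha⟩ : ∃ a, v a ≠ 0 := by
    by_contra hc; push Not at hc; exact hv (funext hc)
  refine ⟨w a / v a, funext fun b => ?_⟩
  rw [Pi.smul_apply, smul_eq_mul, div_mul_eq_mul_div, eq_div_iff ha, mul_comm (w b), mul_comm (w a)]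
  exact h a b

theorem par_smul (v : Fin n → F) (c : F) : Par v (c • v) := fun a b => by
  simp only [Pi.smul_apply, smul_eq_mul]; ring

theorem Par.trans {u v w : Fin n → F} (hv : v ≠ 0) (h1 : Par u v) (h2 : Par v w) : Par u w := by
  obtain ⟨a, rfl⟩ := h1.symm.exists_smul hv
  obtain ⟨b, rfl⟩ := h2.exists_smul hv
  intro i j
  simp only [Pi.smul_apply, smul_eq_mul]; ring

theorem Par.dot_eq_zero {v w : Fin n → F} (h : Par v w) (hv : v ≠ 0) {f : Fin n → F} (hf : f ⬝ᵥ v = 0) :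
    f ⬝ᵥ w = 0 := by
  obtain ⟨c, rfl⟩ := h.exists_smul hv
  rw [dotProduct_smul, hf, smul_zero]

theorem Par.dot_eq_zero' {f g : Fin n → F} (h : Par f g) (hf : f ≠ 0) {v : Fin n → F} (hv : f ⬝ᵥ v = 0) :
    g ⬝ᵥ v = 0 := by
  obtain ⟨c, rfl⟩ := h.exists_smul hf
  rw [smul_dotProduct, hv, smul_zero]

theorem vecMulVec_ne_zero' {v f : Fin n → F} (hv : v ≠ 0) (hf : f ≠ 0) : Matrix.vecMulVec v f ≠ 0 := by
  obtain ⟨a, ha⟩ : ∃ a, v a ≠ 0 := by by_contra hc; push Not at hc; exact hv (funext hc)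
  obtain ⟨b, hb⟩ : ∃ b, f b ≠ 0 := by by_contra hc; push Not at hc; exact hf (funext hc)
  intro h
  exact mul_ne_zero ha hb (congrFun (congrFun h a) b)

theorem par_of_vecMulVec_eq {v f w g : Fin n → F} (hf : f ≠ 0)
    (h : Matrix.vecMulVec v f = Matrix.vecMulVec w g) : Par v w := by
  obtain ⟨b, hb⟩ : ∃ b, f b ≠ 0 := by by_contra hc; push Not at hc; exact hf (funext hc)
  intro a c
  have h1 : v a * f b = w a * g b := congrFun (congrFun h a) b
  have h2 : v c * f b = w c * g b := congrFun (congrFun h c) b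
  refine mul_right_cancel₀ hb ?_
  linear_combination w c * h1 - w a * h2

/-- If a sum of two rank one matrices has rank at most one, the two share a factor up to scalars. -/
theorem par_or_par {v f w g x y : Fin n → F}
    (h : Matrix.vecMulVec v f + Matrix.vecMulVec w g = Matrix.vecMulVec x y) : Par v w ∨ Par f g := by
  by_contra hc
  rw [not_or] at hc
  obtain ⟨h1, h2⟩ := hc
  obtain ⟨a, b, hab⟩ : ∃ a b, v a * w b ≠ v b * w a := by simpa [Par, not_forall] using h1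
  obtain ⟨c, d, hcd⟩ : ∃ c d, f c * g d ≠ f d * g c := by simpa [Par, not_forall] using h2
  have e : ∀ i j, v i * f j + w i * g j = x i * y j := fun i j => congrFun (congrFun h i) j
  refine mul_ne_zero (sub_ne_zero.2 hab) (sub_ne_zero.2 hcd) ?_
  linear_combination (v b * f d + w b * g d) * e a c + x a * y c * e b d
    - (v b * f c + w b * g c) * e a d - x a * y d * e b c

theorem rankOne_mul (v f w g : Fin n → F) :
    (1 + Matrix.vecMulVec v f) * (1 + Matrix.vecMulVec w g) =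
      1 + (Matrix.vecMulVec v f + Matrix.vecMulVec w g + (f ⬝ᵥ w) • Matrix.vecMulVec v g) := by
  rw [Matrix.add_mul, Matrix.one_mul, Matrix.mul_add, Matrix.mul_one, Matrix.vecMulVec_mul_vecMulVec,
    Matrix.vecMulVec_smul]
  abel

theorem dot_eq_zero_of_comm {v f w g : Fin n → F} (hv : v ≠ 0) (hg : g ≠ 0) (hfv : f ⬝ᵥ v = 0)
    (h : (1 + Matrix.vecMulVec v f) * (1 + Matrix.vecMulVec w g) =
      (1 + Matrix.vecMulVec w g) * (1 + Matrix.vecMulVec v f)) : f ⬝ᵥ w = 0 := by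
  rw [rankOne_mul, rankOne_mul, add_right_inj, add_comm (Matrix.vecMulVec w g), add_right_inj] at h
  by_contra hfw
  rw [← Matrix.smul_vecMulVec, ← Matrix.smul_vecMulVec] at h
  have hp : Par ((f ⬝ᵥ w) • v) ((g ⬝ᵥ v) • w) := par_of_vecMulVec_eq hg h
  have hp2 : Par v ((g ⬝ᵥ v) • w) := Par.trans (smul_ne_zero hfw hv) (par_smul v _) hp
  have h0 : (g ⬝ᵥ v) * (f ⬝ᵥ w) = 0 := by
    have := hp2.dot_eq_zero hv hfv
    rwa [dotProduct_smul, smul_eq_mul] at this
  have hgv : g ⬝ᵥ v = 0 := (mul_eq_zero.1 h0).resolve_right hfw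
  rw [hgv, zero_smul, Matrix.zero_vecMulVec] at h
  exact vecMulVec_ne_zero' (smul_ne_zero hfw hv) hg h

theorem comm_of_dot_eq_zero {v f w g : Fin n → F} (h1 : f ⬝ᵥ w = 0) (h2 : g ⬝ᵥ v = 0) :
    (1 + Matrix.vecMulVec v f) * (1 + Matrix.vecMulVec w g) =
      (1 + Matrix.vecMulVec w g) * (1 + Matrix.vecMulVec v f) := by
  rw [rankOne_mul, rankOne_mul, h1, h2, zero_smul, zero_smul, add_zero, add_zero,
    add_comm (Matrix.vecMulVec w g)]

theorem rankOne_conj (g : GL (Fin n) F) (v f : Fin n → F) :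
    (g : Matrix (Fin n) (Fin n) F) * (1 + Matrix.vecMulVec v f) * ((g⁻¹ : GL (Fin n) F) : Matrix (Fin n) (Fin n) F) =
      1 + Matrix.vecMulVec ((g : Matrix (Fin n) (Fin n) F) *ᵥ v)
        (f ᵥ* ((g⁻¹ : GL (Fin n) F) : Matrix (Fin n) (Fin n) F)) := by
  rw [Matrix.mul_add, Matrix.mul_one, Matrix.add_mul, Units.mul_inv, Matrix.mul_vecMulVec, Matrix.vecMulVec_mul]

theorem gl_mulVec_ne_zero (g : GL (Fin n) F) {v : Fin n → F} (hv : v ≠ 0) :
    (g : Matrix (Fin n) (Fin n) F) *ᵥ v ≠ 0 := by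
  intro h
  refine hv ?_
  have := congrArg (((g⁻¹ : GL (Fin n) F) : Matrix (Fin n) (Fin n) F) *ᵥ ·) h
  simpa [Matrix.mulVec_mulVec] using this

theorem gl_vecMul_ne_zero (g : GL (Fin n) F) {f : Fin n → F} (hf : f ≠ 0) :
    f ᵥ* (g : Matrix (Fin n) (Fin n) F) ≠ 0 := by
  intro h
  refine hf ?_
  have := congrArg (· ᵥ* ((g⁻¹ : GL (Fin n) F) : Matrix (Fin n) (Fin n) F)) h
  simpa [Matrix.vecMul_vecMul] using this

theorem gl_dot_eq (g : GL (Fin n) F) (v f : Fin n → F) :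
    (f ᵥ* ((g⁻¹ : GL (Fin n) F) : Matrix (Fin n) (Fin n) F)) ⬝ᵥ ((g : Matrix (Fin n) (Fin n) F) *ᵥ v) = f ⬝ᵥ v := by
  rw [← Matrix.dotProduct_mulVec, Matrix.mulVec_mulVec, Units.inv_mul, Matrix.one_mulVec]

theorem xr_coe {i j : Fin n} (hij : i ≠ j) (t : F) :
    (xr hij t : Matrix (Fin n) (Fin n) F) = 1 + Matrix.vecMulVec (Pi.single i t) (Pi.single j 1) := by
  rw [Matrix.SpecialLinearGroup.transvection_coe]
  congr 1
  ext a b
  rw [Matrix.single_apply, Matrix.vecMulVec_apply, Pi.single_apply, Pi.single_apply]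
  by_cases ha : i = a <;> by_cases hb : j = b <;> simp [ha, hb, eq_comm (a := a), eq_comm (a := b)]

/-- `β` maps the class of `x` to the class of the element with matrix `M`. -/
def MapsMat (β : MulAut (PSLn n F)) (x : SLn n F) (M : Matrix (Fin n) (Fin n) F) : Prop :=
  ∃ s : SLn n F, (s : Matrix (Fin n) (Fin n) F) = M ∧ β (mkP x) = mkP s

theorem MapsMat.conjA_mul {β : MulAut (PSLn n F)} {x : SLn n F} {M : Matrix (Fin n) (Fin n) F}
    (h : MapsMat β x M) (g : GL (Fin n) F) :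
    MapsMat (conjA g * β) x
      ((g : Matrix (Fin n) (Fin n) F) * M * ((g⁻¹ : GL (Fin n) F) : Matrix (Fin n) (Fin n) F)) := by
  obtain ⟨s, hs, hβ⟩ := h
  refine ⟨conjSL g s, by rw [conjSL_coe, hs], ?_⟩
  rw [MulAut.mul_apply, hβ, conjA_mkP]

theorem MapsMat.mul {β : MulAut (PSLn n F)} {x y : SLn n F} {M N : Matrix (Fin n) (Fin n) F}
    (h : MapsMat β x M) (h' : MapsMat β y N) : MapsMat β (x * y) (M * N) := by
  obtain ⟨s, hs, hβ⟩ := h
  obtain ⟨t, ht, hγ⟩ := h'
  exact ⟨s * t, by rw [Matrix.SpecialLinearGroup.coe_mul, hs, ht], by rw [map_mul, map_mul, hβ, hγ, ← map_mul]⟩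

theorem mapsMat_one (β : MulAut (PSLn n F)) : MapsMat β 1 1 :=
  ⟨1, rfl, by rw [map_one, map_one]⟩

section CharP

variable (p : ℕ) [Fact p.Prime] [CharP F p]
include p

theorem sq_zero_pow_p [NeZero n] {N : Matrix (Fin n) (Fin n) F} (h : N * N = 0) : (1 + N) ^ p = 1 := by
  have h2 : N ^ p = 0 := pow_eq_zero_of_le (Fact.out : p.Prime).two_le (by rw [pow_two, h])
  haveI : Nonempty (Fin n) := ⟨⟨0, Nat.pos_of_ne_zero (NeZero.ne n)⟩⟩
  have e := add_pow_char_of_commute (R := Matrix (Fin n) (Fin n) F) p (Commute.one_left N)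
  rw [e, one_pow, h2, add_zero]

theorem rankOne_pow [NeZero n] {s : SLn n F} {v f : Fin n → F}
    (hs : (s : Matrix (Fin n) (Fin n) F) = 1 + Matrix.vecMulVec v f) (h : f ⬝ᵥ v = 0) : s ^ p ^ 1 = 1 := by
  refine sl_ext ?_
  rw [Matrix.SpecialLinearGroup.coe_pow, hs, pow_one, sq_zero_pow_p p]
  · rfl
  · rw [Matrix.vecMulVec_mul_vecMulVec, h, zero_smul, Matrix.vecMulVec_zero]

/-- Rank one images are unique. -/
theorem MapsMat.unique [NeZero n] {β : MulAut (PSLn n F)} {x : SLn n F} {v f w g : Fin n → F}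
    (h : MapsMat β x (1 + Matrix.vecMulVec v f)) (h' : MapsMat β x (1 + Matrix.vecMulVec w g))
    (hv : f ⬝ᵥ v = 0) (hw : g ⬝ᵥ w = 0) : Matrix.vecMulVec v f = Matrix.vecMulVec w g := by
  obtain ⟨s, hs, hβ⟩ := h
  obtain ⟨t, ht, hγ⟩ := h'
  have : s = t := eq_of_mkP_eq p (rankOne_pow p hs hv) (rankOne_pow p ht hw) (hβ.symm.trans hγ)
  subst this
  exact add_left_cancel (hs.symm.trans ht)

/-- Commuting of rank one images reflects commuting. -/
theorem MapsMat.commute_iff [NeZero n] {β : MulAut (PSLn n F)} {x y : SLn n F} {v f w g : Fin n → F}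
    (h : MapsMat β x (1 + Matrix.vecMulVec v f)) (h' : MapsMat β y (1 + Matrix.vecMulVec w g))
    {k : ℕ} (hx : x ^ p ^ k = 1) (hfv : f ⬝ᵥ v = 0) (hgw : g ⬝ᵥ w = 0)
    (hv : v ≠ 0) (hf : f ≠ 0) (hw : w ≠ 0) (hg : g ≠ 0) :
    Commute x y ↔ f ⬝ᵥ w = 0 ∧ g ⬝ᵥ v = 0 := by
  obtain ⟨s, hs, hβ⟩ := h
  obtain ⟨t, ht, hγ⟩ := h'
  constructor
  · intro hc
    have h1 : Commute (mkP s) (mkP t) := by
      rw [← hβ, ← hγ]; exact (hc.map mkP).map β
    have h2 := congrArg Subtype.val (commute_of_mkP p (rankOne_pow p hs hfv) h1).eq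
    simp only [Matrix.SpecialLinearGroup.coe_mul, hs, ht] at h2
    exact ⟨dot_eq_zero_of_comm hv hg hfv h2, dot_eq_zero_of_comm hw hf hgw h2.symm⟩
  · rintro ⟨h1, h2⟩
    have hst : s * t = t * s := sl_ext (by
      simp only [Matrix.SpecialLinearGroup.coe_mul, hs, ht]; exact comm_of_dot_eq_zero h1 h2)
    have h3 : Commute (mkP x) (mkP y) := by
      show mkP x * mkP y = mkP y * mkP x
      refine β.injective ?_
      rw [map_mul, map_mul, hβ, hγ, ← map_mul, ← map_mul, hst]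
    exact commute_of_mkP p hx h3

theorem xr_pow [NeZero n] {i j : Fin n} (hij : i ≠ j) (t : F) : (xr hij t) ^ p ^ 1 = 1 :=
  rankOne_pow p (xr_coe hij t) (by rw [single_dotProduct, Pi.single_apply, if_neg hij.symm, mul_zero])

end CharP

/-- The data of the image of the root group (i,j). -/
def IsImage (β : MulAut (PSLn n F)) {i j : Fin n} (hij : i ≠ j) (v f : Fin n → F) : Prop :=
  v ≠ 0 ∧ f ≠ 0 ∧ f ⬝ᵥ v = 0 ∧ ∀ t : F, ∃ c : F, MapsMat β (xr hij t) (1 + Matrix.vecMulVec (c • v) f)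

theorem IsImage.conj {β : MulAut (PSLn n F)} {a b : Fin n} {hab : a ≠ b} {v f : Fin n → F}
    (h : IsImage β hab v f) {i j : Fin n} (hij : i ≠ j) {w : SLn n F} {e : F} (he : e ≠ 0)
    (hw : ∀ t, w * xr hab t * w⁻¹ = xr hij (e * t)) : ∃ v' f', IsImage β hij v' f' := by
  obtain ⟨hv, hf, hd, hall⟩ := h
  obtain ⟨s, hs⟩ := mkP_surjective (β (mkP w))
  refine ⟨(Matrix.SpecialLinearGroup.toGL s : Matrix (Fin n) (Fin n) F) *ᵥ v,
    f ᵥ* (((Matrix.SpecialLinearGroup.toGL s)⁻¹ : GL (Fin n) F) : Matrix (Fin n) (Fin n) F),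
    gl_mulVec_ne_zero _ hv, gl_vecMul_ne_zero _ hf, by rw [gl_dot_eq, hd], fun t => ?_⟩
  obtain ⟨c, u, hu, hβ⟩ := hall (e⁻¹ * t)
  refine ⟨c, s * u * s⁻¹, ?_, ?_⟩
  · rw [Matrix.SpecialLinearGroup.coe_mul, Matrix.SpecialLinearGroup.coe_mul, hu, ← Matrix.mulVec_smul,
      ← rankOne_conj, ← map_inv]
    rfl
  · have h1 := hw (e⁻¹ * t)
    rw [mul_inv_cancel_left₀ he] at h1
    rw [← h1, map_mul, map_mul, map_mul, map_mul, map_inv, map_inv, hβ, ← hs, ← map_inv, ← map_mul, ← map_mul]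

/-- A monomial element moving one root group to another. -/
theorem exists_monomial_conj {a b : Fin n} (hab : a ≠ b) {i j : Fin n} (hij : i ≠ j) :
    ∃ (w : SLn n F) (e : F), e ≠ 0 ∧ ∀ t, w * xr hab t * w⁻¹ = xr hij (e * t) := by
  obtain ⟨π, hπa, hπb⟩ : ∃ π : Equiv.Perm (Fin n), π a = i ∧ π b = j := by
    refine ⟨Equiv.swap (Equiv.swap a i b) j * Equiv.swap a i, ?_, ?_⟩
    · rw [Equiv.Perm.mul_apply, Equiv.swap_apply_left, Equiv.swap_apply_of_ne_of_ne ?_ hij]
      intro h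
      exact hab ((Equiv.swap a i).injective ((Equiv.swap_apply_left a i).trans h))
    · rw [Equiv.Perm.mul_apply, Equiv.swap_apply_left]
  set e : F := ((Equiv.Perm.sign π : ℤ) : F) with he
  have he1 : e * e = 1 := by
    rw [he]
    rcases Int.units_eq_one_or (Equiv.Perm.sign π) with h | h <;> simp [h]
  have he0 : e ≠ 0 := left_ne_zero_of_mul_eq_one he1
  have hd : e * ∏ l, Function.update (1 : Fin n → F) b e l = 1 := by
    rw [Finset.prod_update_of_mem (Finset.mem_univ b)]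
    simp [he1]
  refine ⟨monomial π (Function.update (1 : Fin n → F) b e) hd, e, he0, fun t => ?_⟩
  rw [mul_inv_eq_iff_eq_mul]
  refine UniTri.sl_ext fun r l => ?_
  rw [mul_tv_apply, tv_mul_apply, monomial_apply, monomial_apply, monomial_apply]
  have hr : π.symm r = a ↔ r = i := by rw [Equiv.symm_apply_eq, hπa]
  have hsj : π.symm j = b := by rw [← hπb, Equiv.symm_apply_apply]
  rw [hsj]
  congr 1
  by_cases hl : l = b
  · subst hl
    by_cases hri : r = i
    · subst hri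
      rw [if_pos rfl, if_pos rfl, if_pos (hr.2 rfl), if_pos rfl, Function.update_of_ne hab,
        Function.update_self, Pi.one_apply]
      calc (1 : F) * t = e * e * t := by rw [he1]
        _ = e * t * e := by ring
    · rw [if_pos rfl, if_neg hri, if_neg (mt hr.1 hri), zero_mul]
  · simp [hl, Ne.symm hl]

theorem corner_comm {o l : Fin n} (hol : o < l) (ho : ∀ i, o ≤ i) (hl : ∀ i, i ≤ l) (t : F) {w : SLn n F}
    (hw : w ∈ unitri n F) : Commute (xr hol.ne t) w := by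
  obtain ⟨hU, hD⟩ := mem_unitri.1 hw
  refine UniTri.sl_ext fun r c => ?_
  rw [tv_mul_apply, mul_tv_apply]
  congr 1
  by_cases hr : r = o <;> by_cases hc : c = l
  · subst hr hc; rw [if_pos rfl, if_pos rfl, hD, hD, mul_comm]
  · subst hr
    rw [if_pos rfl, if_neg hc, hU l c (lt_of_le_of_ne (hl c) hc), mul_zero]
  · subst hc
    rw [if_neg hr, if_pos rfl, hU r o (lt_of_le_of_ne (ho r) (Ne.symm hr)), zero_mul]
  · rw [if_neg hr, if_neg hc]

variable [Finite F] (p : ℕ) [Fact p.Prime] [CharP F p]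
include p

/-- An automorphism maps the unitriangular Sylow subgroup to a conjugate. -/
theorem exists_sylow_conj (β : MulAut (PSLn n F)) :
    ∃ g : SLn n F, ((unitri n F).map mkP).map (β : PSLn n F ≃* PSLn n F).toMonoidHom =
      ((unitri n F).map mkP).map (MulAut.conj (mkP g)).toMonoidHom := by
  obtain ⟨P, hP⟩ := UniTri.exists_sylow (n := n) (K := F) p
  let Q : Sylow p (PSLn n F) := P.mapSurjective mkP_surjective
  have hQ : (Q : Subgroup (PSLn n F)) = (unitri n F).map mkP := by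
    rw [← hP]; rfl
  let R : Sylow p (PSLn n F) := Q.mapSurjective (f := (β : PSLn n F ≃* PSLn n F).toMonoidHom) β.surjective
  obtain ⟨x, hx⟩ := MulAction.exists_smul_eq (PSLn n F) Q R
  obtain ⟨g, rfl⟩ := mkP_surjective x
  refine ⟨g, ?_⟩
  have := congrArg (fun S : Sylow p (PSLn n F) => (S : Subgroup (PSLn n F))) hx
  rw [← hQ]
  exact this.symm

/-- The image of a root group is a root group. -/
theorem exists_isImage (hn : 3 ≤ n) (β : MulAut (PSLn n F)) {i j : Fin n} (hij : i ≠ j) :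
    ∃ v f, IsImage β hij v f := by
  set o : Fin n := ⟨0, by omega⟩ with ho'
  set l : Fin n := ⟨n - 1, by omega⟩ with hl'
  have hol : o < l := show 0 < n - 1 by omega
  have ho : ∀ a, o ≤ a := fun a => Nat.zero_le _
  have hl : ∀ a, a ≤ l := fun a => show (a : ℕ) ≤ n - 1 by have := a.2; omega
  haveI : NeZero n := ⟨by omega⟩
  suffices h : ∃ v f, IsImage β hol.ne v f by
    obtain ⟨v, f, hvf⟩ := h
    obtain ⟨w, e, he, hw⟩ := exists_monomial_conj (F := F) hol.ne hij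
    exact hvf.conj hij he hw
  obtain ⟨g, hg⟩ := exists_sylow_conj p β
  refine ⟨(Matrix.SpecialLinearGroup.toGL g : Matrix (Fin n) (Fin n) F) *ᵥ Pi.single o 1,
    Pi.single l 1 ᵥ* (((Matrix.SpecialLinearGroup.toGL g)⁻¹ : GL (Fin n) F) : Matrix (Fin n) (Fin n) F),
    gl_mulVec_ne_zero _ (Pi.single_ne_zero_iff.2 one_ne_zero),
    gl_vecMul_ne_zero _ (Pi.single_ne_zero_iff.2 one_ne_zero),
    by rw [gl_dot_eq, single_dotProduct, Pi.single_apply, if_neg hol.ne', mul_zero], fun t => ?_⟩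
  have hx : mkP (xr hol.ne t) ∈ (unitri n F).map mkP := ⟨_, tv_mem hol t, rfl⟩
  have hmem : β (mkP (xr hol.ne t)) ∈ ((unitri n F).map mkP).map (MulAut.conj (mkP g)).toMonoidHom := by
    rw [← hg]; exact ⟨_, hx, rfl⟩
  obtain ⟨_, ⟨u, hu, rfl⟩, hu'⟩ := hmem
  have hu'' : β (mkP (xr hol.ne t)) = mkP g * mkP u * (mkP g)⁻¹ := hu'.symm
  obtain ⟨k, hk⟩ := UniTri.isPGroup_unitri (n := n) (K := F) p ⟨u, hu⟩
  have hku : u ^ p ^ k = 1 := by simpa using congrArg Subtype.val hk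
  have hcentral : ∀ w ∈ unitri n F, Commute u w := by
    intro w hw
    have h1 : mkP g * mkP w * (mkP g)⁻¹ ∈ ((unitri n F).map mkP).map (β : PSLn n F ≃* PSLn n F).toMonoidHom := by
      rw [hg]; exact ⟨_, ⟨w, hw, rfl⟩, rfl⟩
    obtain ⟨_, ⟨w', hw', rfl⟩, hw''⟩ := h1
    have h2 : Commute (β (mkP (xr hol.ne t))) (β (mkP w')) := ((corner_comm hol ho hl t hw').map mkP).map β
    rw [hu'', show β (mkP w') = mkP g * mkP w * (mkP g)⁻¹ from hw''] at h2
    exact commute_of_mkP p hku ((Commute.conj_iff (h := mkP g)).1 h2)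
  refine ⟨(u : Matrix (Fin n) (Fin n) F) o l, g * u * g⁻¹, ?_, by rw [hu'', map_mul, map_mul, map_inv]⟩
  have he := UniTri.central_eq_corner hu (fun a b hab => ((hcentral _ (tv_mem hab 1)).eq).symm) hol ho hl
  have he' : (u : Matrix (Fin n) (Fin n) F) =
      1 + Matrix.vecMulVec (Pi.single o ((u : Matrix (Fin n) (Fin n) F) o l)) (Pi.single l 1) := by
    conv_lhs => rw [he]
    exact xr_coe hol.ne _
  rw [Matrix.SpecialLinearGroup.coe_mul, Matrix.SpecialLinearGroup.coe_mul, ← Matrix.mulVec_smul,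
    ← rankOne_conj, ← map_inv, ← Pi.single_smul, smul_eq_mul, mul_one, ← he']
  rfl

end Cfsg.Agent.AutPSL
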