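import Cfsg.Agent.AutPSL.Centralizers
import Cfsg.Agent.AutPSU.Eichler

/-!
A semilinear map commuting with the unitary transvections of a subfield is a scalar.
-/

set_option autoImplicit false

namespace Cfsg.Agent.AutPSL

open Matrix Classical.Herm

theorem unitary_fix_scalar {n q : ℕ} {L F : Type*} [Field L] [Fintype L] [Field F] {σ₀ : L →+* L}
    (hu : AutPSU.UCtx σ₀ q) (σ : F →+* F) (i : L →+* F) (hiσ : ∀ x, i (σ₀ x) = σ (i x)) (hn : 3 ≤ n)
    (τ : F ≃+* F) (hτσ : ∀ x, τ (σ x) = σ (τ x)) (a : GL (Fin n) F)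
    (h : ∀ (v : Fin n → L) (c : L), Classical.hermB n σ₀ v v = 0 → c + σ₀ c = 0 →
      (a : Matrix (Fin n) (Fin n) F) * ((AutPSU.mat (AutPSU.tr hu v c)).map i).map τ =
        (AutPSU.mat (AutPSU.tr hu v c)).map i * (a : Matrix (Fin n) (Fin n) F)) :
    a ∈ Subgroup.center (GL (Fin n) F) ∧ ∀ x, τ (i x) = i x := by
  classical
  set A := (a : Matrix (Fin n) (Fin n) F)
  let iv : (Fin n → L) → Fin n → F := fun v j => i (v j)
  let T : (Fin n → F) → Fin n → F := fun X => A *ᵥ fun j => τ (X j)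
  -- the transvection over the larger field
  have hU : ∀ (v : Fin n → L) (c : L), Classical.hermB n σ₀ v v = 0 → c + σ₀ c = 0 → ∀ X : Fin n → F,
      (AutPSU.mat (AutPSU.tr hu v c)).map i *ᵥ X = X + (i c * Classical.hermB n σ (iv v) X) • iv v := by
    intro v c hv hc X
    have hm : AutPSU.mat (AutPSU.tr hu v c) = 1 + c • Matrix.vecMulVec v (fun j => σ₀ (v j)) := by
      refine Matrix.ext_of_mulVec_single fun l => ?_
      rw [AutPSU.tr_mulVec hu hv hc, Matrix.add_mulVec, Matrix.one_mulVec, Matrix.smul_mulVec,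
        Matrix.vecMulVec_mulVec, Classical.hermB_apply]
      funext j
      simp [dotProduct]
      ring
    rw [hm]
    have hm' : (1 + c • Matrix.vecMulVec v fun j => σ₀ (v j)).map i =
        1 + i c • Matrix.vecMulVec (iv v) fun j => σ (iv v j) := by
      ext s t
      by_cases hst : s = t <;> simp [iv, Matrix.vecMulVec_apply, Matrix.one_apply, hst, hiσ]
    rw [hm', Matrix.add_mulVec, Matrix.one_mulVec, Matrix.smul_mulVec, Matrix.vecMulVec_mulVec,
      Classical.hermB_apply]
    funext j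
    simp [dotProduct]
    ring
  -- isotropic vectors go to their lines
  obtain ⟨c, hc0, hc⟩ := exists_skew hu.toIsInvol
  have hc' : c + σ₀ c = 0 := by rw [hc, add_neg_cancel]
  have hline : ∀ v : Fin n → L, Classical.hermB n σ₀ v v = 0 → ∃ l : F, T (iv v) = l • iv v := by
    intro v hv
    by_cases hv0 : v = 0
    · refine ⟨0, ?_⟩
      rw [zero_smul, hv0]
      show A *ᵥ (fun j => τ (i ((0 : Fin n → L) j))) = 0
      simp [show (fun _ : Fin n => (0 : F)) = 0 from rfl]
    obtain ⟨x, hx⟩ := exists_pairing (hu.isHerm n) hv0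
    have e1 : (AutPSU.mat (AutPSU.tr hu v c)).map i *ᵥ iv x = iv x + i c • iv v := by
      have hp : Classical.hermB n σ (iv v) (iv x) = 1 := by
        rw [Classical.hermB_apply, ← map_one i, ← hx, AutPSU.hB, Classical.hermB_apply, map_sum]
        simp [iv, hiσ]
      rw [hU v c hv hc', hp, mul_one]
    have e2 : T ((AutPSU.mat (AutPSU.tr hu v c)).map i *ᵥ iv x) =
        (AutPSU.mat (AutPSU.tr hu v c)).map i *ᵥ T (iv x) := by
      show A *ᵥ (fun j => τ (((AutPSU.mat (AutPSU.tr hu v c)).map i *ᵥ iv x) j)) = _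
      rw [show (fun j => τ (((AutPSU.mat (AutPSU.tr hu v c)).map i *ᵥ iv x) j)) =
        ((AutPSU.mat (AutPSU.tr hu v c)).map i).map τ *ᵥ fun j => τ (iv x j) from
          funext fun j => RingHom.map_mulVec (τ : F →+* F) _ _ j, Matrix.mulVec_mulVec, h v c hv hc',
        ← Matrix.mulVec_mulVec]
    rw [e1, hU v c hv hc'] at e2
    have e3 : T (iv x + i c • iv v) = T (iv x) + τ (i c) • T (iv v) := by
      show A *ᵥ _ = _
      rw [← Matrix.mulVec_smul, ← Matrix.mulVec_add]
      congr 1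
      funext j
      simp
    rw [e3, add_right_inj] at e2
    refine ⟨(τ (i c))⁻¹ * (i c * Classical.hermB n σ (iv v) (T (iv x))), ?_⟩
    rw [mul_smul, ← e2, inv_smul_smul₀ (by simpa using hc0)]
  -- two parameters of norm minus one
  obtain ⟨t₀, ht₀⟩ := exists_norm hu.toIsInvol (a := (-1 : L)) (by simp)
  obtain ⟨b, hb⟩ := exists_moved hu.toIsInvol
  have hb0 : b ≠ 0 := by rintro rfl; simp at hb
  have hσb : σ₀ b ≠ 0 := (map_ne_zero σ₀).2 hb0
  set t₁ := t₀ * (b / σ₀ b) with ht₁d
  have ht₁ : t₁ * σ₀ t₁ = -1 := by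
    rw [ht₁d, map_mul, map_div₀, hu.invol, mul_mul_mul_comm, ht₀]
    field_simp
  have ht00 : t₀ ≠ 0 := fun h0 => by simp [h0] at ht₀
  have hne : t₀ ≠ t₁ := fun e => hb (by
    rw [ht₁d] at e
    have h1 : b / σ₀ b = 1 := (mul_eq_left₀ ht00).1 e.symm
    rw [div_eq_one_iff_eq hσb] at h1
    exact h1.symm)
  -- the images of the unit vectors
  have hpair : ∀ (k l : Fin n), k ≠ l → ∀ t : L, t * σ₀ t = -1 → ∃ m : F, ∀ j,
      A j k + τ (i t) * A j l = m * ((if j = k then 1 else 0) + if j = l then i t else 0) := by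
    intro k l hkl t ht
    obtain ⟨m, hm⟩ := hline (Pi.single k 1 + Pi.single l t) (by
      rw [Classical.hermB_apply, Finset.sum_eq_add k l hkl (fun j _ hj => by simp [hj.1, hj.2]) (by simp) (by simp)]
      simp [hkl, hkl.symm]
      linear_combination ht)
    refine ⟨m, fun j => ?_⟩
    have hj := congrFun hm j
    have ev : (fun j => τ (iv (Pi.single k 1 + Pi.single l t) j)) = Pi.single k 1 + Pi.single l (τ (i t)) := by
      funext j
      by_cases h1 : j = k <;> by_cases h2 : j = l <;> simp [iv, h1, h2, hkl, hkl.symm]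
    simp only [T, ev, Matrix.mulVec_add, Matrix.mulVec_single] at hj
    by_cases h1 : j = k <;> by_cases h2 : j = l <;>
      simp [iv, h1, h2, hkl, hkl.symm] at hj ⊢ <;> linear_combination hj
  have hoff : ∀ j l, j ≠ l → A j l = 0 := by
    intro j l hjl
    obtain ⟨k, hkj, hkl⟩ : ∃ k, k ≠ j ∧ k ≠ l := by
      by_contra hall
      push Not at hall
      have : (Finset.univ : Finset (Fin n)) ⊆ {j, l} := fun k _ => by
        by_cases hk : k = j
        · simp [hk]
        · simp [hall k hk]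
      have := (Finset.card_le_card this).trans Finset.card_le_two
      simp at this
      omega
    obtain ⟨m₀, h0⟩ := hpair k l hkl t₀ ht₀
    obtain ⟨m₁, h1⟩ := hpair k l hkl t₁ ht₁
    have e0 := h0 j
    have e1 := h1 j
    simp only [if_neg hkj.symm, if_neg hjl, add_zero, mul_zero] at e0 e1
    have : (τ (i t₀) - τ (i t₁)) * A j l = 0 := by linear_combination e0 - e1
    exact (mul_eq_zero.1 this).resolve_left (sub_ne_zero.2 fun e => hne (i.injective (τ.injective e)))
  have hdiag : ∀ k l, k ≠ l → ∀ t : L, t * σ₀ t = -1 → τ (i t) * A l l = A k k * i t := by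
    intro k l hkl t ht
    obtain ⟨m, hm⟩ := hpair k l hkl t ht
    have e0 := hm k
    have e1 := hm l
    simp only [if_neg hkl, if_neg hkl.symm, hoff k l hkl, hoff l k hkl.symm, if_true, add_zero, zero_add, mul_zero,
      mul_one] at e0 e1
    rw [e1, e0]
  have hA0 : ∀ k, A k k ≠ 0 := fun k h0 => Matrix.GeneralLinearGroup.det_ne_zero a
    (Matrix.det_eq_zero_of_row_eq_zero k fun j => by
      by_cases hj : k = j
      · rw [← hj]; exact h0
      · exact hoff k j hj)
  have hκ : ∀ t : L, t * σ₀ t = -1 → τ (i t) = i t ∧ ∀ k l, A k k = A l l := by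
    intro t ht
    have hit : i t ≠ 0 := (map_ne_zero i).2 fun h0 => by simp [h0] at ht
    obtain ⟨k, l, r, hkl, hlr, hkr⟩ : ∃ k l r : Fin n, k ≠ l ∧ l ≠ r ∧ k ≠ r :=
      ⟨⟨0, by omega⟩, ⟨1, by omega⟩, ⟨2, by omega⟩, by simp, by simp, by simp⟩
    have e1 := hdiag k l hkl t ht
    have e2 := hdiag l r hlr t ht
    have e3 := hdiag k r hkr t ht
    have hτt : τ (i t) ≠ 0 := by simpa using hit
    have e4 : A l l = A k k := by
      refine mul_left_cancel₀ (mul_ne_zero (hA0 r) hit) ?_
      refine mul_left_cancel₀ hτt ?_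
      linear_combination (i t) * ((A l l) * e3 - (A k k) * e2)
    have e5 : τ (i t) = i t := mul_right_cancel₀ (hA0 l) (by rw [e1, ← e4]; ring)
    refine ⟨e5, fun x y => ?_⟩
    by_cases hxy : x = y
    · rw [hxy]
    · have := hdiag x y hxy t ht
      rw [e5] at this
      exact mul_left_cancel₀ hit (by linear_combination -this)
  obtain ⟨-, hAA⟩ := hκ t₀ ht₀
  refine ⟨?_, ?_⟩
  · refine center_gl_iff.2 ⟨Units.mk0 _ (hA0 ⟨0, by omega⟩), ?_⟩
    ext s t
    rw [Matrix.scalar_apply, Matrix.diagonal_apply, Units.val_mk0]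
    by_cases hst : s = t
    · subst hst; rw [if_pos rfl]; exact hAA _ _
    · rw [if_neg hst]; exact hoff s t hst
  have hlam : ∀ x : L, x ≠ 0 → σ (τ (i x) / i x) = τ (i x) / i x := by
    intro x hx
    have hσx : σ₀ x ≠ 0 := (map_ne_zero σ₀).2 hx
    obtain ⟨e0, -⟩ := hκ t₀ ht₀
    obtain ⟨e1, -⟩ := hκ (t₀ * (x / σ₀ x)) (by
      rw [map_mul, map_div₀, hu.invol, mul_mul_mul_comm, ht₀]; field_simp)
    rw [map_mul, map_mul, e0] at e1
    have e2 := mul_left_cancel₀ ((map_ne_zero i).2 ht00) e1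
    rw [map_div₀, map_div₀] at e2
    have hix : i x ≠ 0 := (map_ne_zero i).2 hx
    have hisx : i (σ₀ x) ≠ 0 := (map_ne_zero i).2 hσx
    rw [div_eq_div_iff (by simpa using hisx) hisx] at e2
    rw [map_div₀, ← hτσ, ← hiσ, div_eq_div_iff hisx hix]
    linear_combination -e2
  have hmov : ∀ x : L, σ₀ x ≠ x → τ (i x) = i x := by
    intro x hx
    have hx0 : x ≠ 0 := by rintro rfl; simp at hx
    have hx1 : 1 + x ≠ 0 := fun h0 => hx (by
      rw [eq_neg_of_add_eq_zero_right h0, map_neg, map_one])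
    have hix : i x ≠ 0 := (map_ne_zero i).2 hx0
    have hix1 : i (1 + x) ≠ 0 := (map_ne_zero i).2 hx1
    set l := τ (i x) / i x with hl
    set m := τ (i (1 + x)) / i (1 + x) with hm
    have e1 : τ (i x) = l * i x := by rw [hl, div_mul_cancel₀ _ hix]
    have e2 : τ (i (1 + x)) = m * i (1 + x) := by rw [hm, div_mul_cancel₀ _ hix1]
    rw [map_add, map_one, map_add, map_one, e1] at e2
    have e3 : (m - l) * i x = 1 - m := by linear_combination -e2
    have e4 := congrArg σ e3
    rw [map_mul, map_sub, map_sub, map_one, hlam x hx0, hlam _ hx1, ← hiσ] at e4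
    have e5 : (m - l) * (i (σ₀ x) - i x) = 0 := by linear_combination e4 - e3
    have e6 : m = l := sub_eq_zero.1 ((mul_eq_zero.1 e5).resolve_right
      (sub_ne_zero.2 fun e => hx (i.injective e)))
    rw [e6, sub_self, zero_mul] at e3
    rw [e1, show l = 1 from (sub_eq_zero.1 e3.symm).symm, one_mul]
  intro x
  by_cases hx : σ₀ x = x
  · have h1 := hmov (x + b) (by rw [map_add, hx]; simpa using hb)
    rw [map_add, map_add, hmov b hb] at h1
    exact add_right_cancel h1
  · exact hmov x hx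

end Cfsg.Agent.AutPSL
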